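import Cfsg.Agent.J3Mult.Inv
import Cfsg.Agent.CoprimeAction.Frattini
import Cfsg.Prelude.Def_Transfer
import Mathlib.GroupTheory.SpecificGroups.Alternating

set_option autoImplicit false
set_option maxRecDepth 100000

/-!
The centraliser of an involution of the Janko group.
-/

namespace CfsgLib.J3Mult

open Cfsg.Spor H29.ThreeJ Matrix
open scoped commutatorElement

universe u

/-- The subgroup given by a table. -/
theorem table_subgroup {H : Type u} [Group H] [Finite H] {n : ℕ} (f : Fin n → H) (i0 : Fin n) (h0 : f i0 = 1)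
    (T : Fin n → Fin n → Fin n) (hT : ∀ a b, f a * f b = f (T a b)) :
    ∃ S : Subgroup H, ∀ x, x ∈ S ↔ ∃ a, f a = x := by
  refine ⟨Subgroup.closure (Set.range f), fun x => ⟨fun hx => ?_, fun ⟨a, ha⟩ => ha ▸ Subgroup.subset_closure ⟨a, rfl⟩⟩⟩
  refine closure_subset_range f _ i0 h0 ?_ x hx
  rintro g ⟨b, rfl⟩ a
  exact ⟨T b a, hT b a⟩

/-- A criterion for an extraspecial group at two. -/
theorem extraspecial_of {K : Type u} [Group K] [Finite K] (hp : Nat.card K = 32)
    (hcard : Nat.card (Subgroup.center K) = 2) (hle : ∀ a b : K, a * b * a⁻¹ * b⁻¹ ∈ Subgroup.center K)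
    (hsq : ∀ a : K, a * a ∈ Subgroup.center K) (hna : ∃ a b : K, a * b ≠ b * a) : Cfsg.IsExtraspecial 2 K := by
  haveI : Fact (Nat.Prime 2) := ⟨Nat.prime_two⟩
  have hKp : IsPGroup 2 K := IsPGroup.of_card (n := 5) hp
  have hle' : commutator K ≤ Subgroup.center K := by
    rw [commutator_def, Subgroup.commutator_le]
    intro a _ b _
    rw [commutatorElement_def]
    exact hle a b
  have hcomm : commutator K = Subgroup.center K := by
    refine le_antisymm hle' ?_
    obtain ⟨a, b, hab⟩ := hna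
    have hm : ⁅a, b⁆ ∈ commutator K :=
      Subgroup.commutator_mem_commutator (Subgroup.mem_top _) (Subgroup.mem_top _)
    have hm1 : ⁅a, b⁆ ≠ 1 := fun h => hab (commutatorElement_eq_one_iff_mul_comm.1 h)
    intro c hc
    obtain ⟨u, hu, huniq⟩ := (Nat.card_eq_two_iff' (1 : Subgroup.center K)).1 hcard
    rcases eq_or_ne c 1 with rfl | hc1
    · exact one_mem _
    have e1 : (⟨_, hle' hm⟩ : Subgroup.center K) = u := huniq _ fun h => hm1 (congrArg Subtype.val h)
    have e2 : (⟨c, hc⟩ : Subgroup.center K) = u := huniq _ fun h => hc1 (congrArg Subtype.val h)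
    rw [show c = ⁅a, b⁆ from congrArg Subtype.val (e2.trans e1.symm)]
    exact hm
  refine ⟨⟨hKp, le_antisymm ?_ ?_, hcomm⟩, hcard⟩
  · exact CfsgLib.CoprimeAction.frattini_le_of_elementary (p := 2) _ hle' fun a => by rw [pow_two]; exact hsq a
  · rw [← hcomm]
    exact CfsgLib.CoprimeAction.commutator_le_frattini' hKp

theorem kImg_lt {a i : ℕ} (ha : a < 60) (hi : i < 5) : kImg a i < 5 := by
  have h := perms_ok
  simp only [okPerms, Bool.and_eq_true, List.all_eq_true, List.mem_range, Nat.blt_eq] at h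
  exact h.1.1 a ha i hi

variable {F : Type} [Field F] [Fintype F] {ω : F} (hF : Fintype.card F = 4) (hω : ω ^ 2 + ω + 1 = 0)

include hF hω

set_option maxHeartbeats 1600000 in
/-- The shape of the centraliser. -/
theorem centraliser_shape : ∃ t : J3 F ω, orderOf t = 2 ∧ (∀ z : J3 F ω, orderOf z = 2 → IsConj t z) ∧
    ∃ (Q : Subgroup ↥(Subgroup.centralizer ({t} : Set (J3 F ω)))) (_ : Q.Normal),
      Cfsg.IsExtraspecial 2 Q ∧ Nat.card Q = 32 ∧
      (∀ E : Subgroup Q, Cfsg.IsElementaryAbelian 2 E → Nat.card E ≤ 2 ^ 2) ∧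
      (∃ H : Subgroup ↥(Subgroup.centralizer ({t} : Set (J3 F ω))), Q.IsComplement' H) ∧
      Nonempty (↥(Subgroup.centralizer ({t} : Set (J3 F ω))) ⧸ Q ≃* ↥(alternatingGroup (Fin 5))) := by
  classical
  haveI : Finite (J3 F ω) := finite_J3
  obtain ⟨hC, hcl, hlisted⟩ := class_facts hF hω
  refine ⟨qel F ω eltT.1, orderOf_qT hF hω, fun z hz => ?_, ?_⟩
  · obtain ⟨k, hk, rfl⟩ := inv_listed hF hω (by rw [← pow_two, ← hz]; exact pow_orderOf_eq_one z)
      (fun e => by rw [e, orderOf_one] at hz; norm_num at hz)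
    obtain ⟨g, hg⟩ := iv_isConj hF hω hk
    exact isConj_iff.2 ⟨g, hg.symm⟩
  set C := Subgroup.centralizer ({qel F ω eltT.1} : Set (J3 F ω)) with hCdef
  have h := qk_ok
  simp only [okQK, Bool.and_eq_true, List.all_eq_true, List.mem_range, List.any_eq_true, Bool.or_eq_true,
    Bool.not_eq_true', Nat.beq_eq, Nat.blt_eq] at h
  obtain ⟨⟨⟨⟨⟨⟨⟨⟨⟨hq0, hk0⟩, hqlt⟩, hklt⟩, hqd⟩, hkd⟩, hqk⟩, hqm⟩, hkm⟩, hnorm⟩ := h
  have nb : ∀ {a b : ℕ}, Nat.beq a b = false → a ≠ b := fun {a b} h e => by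
    rw [e, Nat.beq_refl] at h; exact absurd h (by decide)
  let e : ℕ → C := fun a => if h : a < 1920 then ⟨cv F ω a, (cAt_spec hF hω a h).2⟩ else 1
  have he : ∀ a, a < 1920 → ((e a : C) : J3 F ω) = cv F ω a := fun a ha => by simp only [e, dif_pos ha]
  let q : Fin 32 → C := fun a => e (qList.getD a.val 0)
  let k : Fin 60 → C := fun a => e (kList.getD a.val 0)
  have hq : ∀ a : Fin 32, ((q a : C) : J3 F ω) = qel F ω (qAt a.val) := fun a => by
    rw [qAt, ← cv_def]; exact he _ (hqlt a.val a.2)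
  have hk : ∀ a : Fin 60, ((k a : C) : J3 F ω) = qel F ω (kAt a.val) := fun a => by
    rw [kAt, ← cv_def]; exact he _ (hklt a.val a.2)
  have hcv0 : cv F ω 0 = 1 := by
    have h := centParents_ok
    simp only [okCentParents, Bool.and_eq_true, Nat.beq_eq] at h
    rw [cv_def, h.1.1, qel_mc hF hω (att_one hF hω), qel_one hF hω]
  have hlenq : qList.getD 0 0 = 0 := by
    revert hq0; cases qList <;> simp
  have hlenk : kList.getD 0 0 = 0 := by
    revert hk0; cases kList <;> simp
  have hq1 : q 0 = 1 := Subtype.ext (by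
    show ((e (qList.getD 0 0) : C) : J3 F ω) = 1
    rw [hlenq, he 0 (by norm_num), hcv0])
  have hk1 : k 0 = 1 := Subtype.ext (by
    show ((e (kList.getD 0 0) : C) : J3 F ω) = 1
    rw [hlenk, he 0 (by norm_num), hcv0])
  let Tq : Fin 32 → Fin 32 → Fin 32 := fun a b => ⟨qMulT a.val b.val, (hqm a.val a.2 b.val b.2).1⟩
  let Tk : Fin 60 → Fin 60 → Fin 60 := fun a b => ⟨kMulT a.val b.val, (hkm a.val a.2 b.val b.2).1⟩
  have hTq : ∀ a b, q a * q b = q (Tq a b) := fun a b => Subtype.ext (by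
    have hA : Att F ω (qAt a.val) := (cAt_spec hF hω _ (hqlt a.val a.2)).1
    have hB : Att F ω (qAt b.val) := (cAt_spec hF hω _ (hqlt b.val b.2)).1
    rw [Subgroup.coe_mul, hq, hq, hq, qel_mul hF hω hA hB, ← qel_mc hF hω (att_mul hF hω hA hB)]
    exact congrArg (qel F ω) (hqm a.val a.2 b.val b.2).2)
  have hTk : ∀ a b, k a * k b = k (Tk a b) := fun a b => Subtype.ext (by
    have hA : Att F ω (kAt a.val) := (cAt_spec hF hω _ (hklt a.val a.2)).1
    have hB : Att F ω (kAt b.val) := (cAt_spec hF hω _ (hklt b.val b.2)).1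
    rw [Subgroup.coe_mul, hk, hk, hk, qel_mul hF hω hA hB, ← qel_mc hF hω (att_mul hF hω hA hB)]
    exact congrArg (qel F ω) (hkm a.val a.2 b.val b.2).2)
  have hqi : Function.Injective q := fun a b h => by
    have h1 := congrArg Subtype.val h
    simp only [q] at h1
    rw [he _ (hqlt a.val a.2), he _ (hqlt b.val b.2)] at h1
    have h2 := cv_inj hF hω (hqlt a.val a.2) (hqlt b.val b.2) h1
    rcases hqd a.val a.2 b.val b.2 with h3 | h3
    · exact Fin.ext h3
    · exact absurd h2 (nb h3)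
  have hki : Function.Injective k := fun a b h => by
    have h1 := congrArg Subtype.val h
    simp only [k] at h1
    rw [he _ (hklt a.val a.2), he _ (hklt b.val b.2)] at h1
    have h2 := cv_inj hF hω (hklt a.val a.2) (hklt b.val b.2) h1
    rcases hkd a.val a.2 b.val b.2 with h3 | h3
    · exact Fin.ext h3
    · exact absurd h2 (nb h3)
  obtain ⟨Q, hQ⟩ := table_subgroup q 0 hq1 Tq hTq
  obtain ⟨K, hK⟩ := table_subgroup k 0 hk1 Tk hTk
  let eq : Fin 32 → Q := fun a => ⟨q a, (hQ _).2 ⟨a, rfl⟩⟩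
  let ek : Fin 60 → K := fun a => ⟨k a, (hK _).2 ⟨a, rfl⟩⟩
  have beq' : Function.Bijective eq :=
    ⟨fun a b h => hqi (congrArg Subtype.val h), fun x => by
      obtain ⟨a, ha⟩ := (hQ x.1).1 x.2; exact ⟨a, Subtype.ext ha⟩⟩
  have bek : Function.Bijective ek :=
    ⟨fun a b h => hki (congrArg Subtype.val h), fun x => by
      obtain ⟨a, ha⟩ := (hK x.1).1 x.2; exact ⟨a, Subtype.ext ha⟩⟩
  have cQ : Nat.card Q = 32 := by rw [← Nat.card_eq_of_bijective eq beq', Nat.card_fin]
  have cK : Nat.card K = 60 := by rw [← Nat.card_eq_of_bijective ek bek, Nat.card_fin]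
  have hgen : ∀ x : C, ∀ a : Fin 32, ∃ b, x * q a = q b * x := by
    intro x
    obtain ⟨c, hc, hxc⟩ := hlisted x.1 x.2
    clear hlisted
    revert x
    induction c using Nat.strong_induction_on with
    | _ c ih =>
      intro x hxc a
      rcases Nat.eq_zero_or_pos c with rfl | hp
      · have hx : x = 1 := Subtype.ext (by rw [← hxc, hcv0]; rfl)
        exact ⟨a, by rw [hx, one_mul, mul_one]⟩
      · obtain ⟨m, rfl⟩ : ∃ m, c = m + 1 := ⟨c - 1, by omega⟩
        have h := centParents_ok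
        simp only [okCentParents, Bool.and_eq_true, List.all_eq_true, List.mem_range, Nat.beq_eq, Nat.blt_eq] at h
        obtain ⟨h1, h2⟩ := h.2 m (by omega)
        have hm : fieldAt cParents 14 (m + 1) % 2 < 2 := Nat.mod_lt _ (by norm_num)
        have hg := att_cGen hF hω (k := fieldAt cParents 14 (m + 1) % 2)
        have hy := cAt_spec hF hω (fieldAt cParents 14 (m + 1) / 2) (by omega)
        have hxe : (x : J3 F ω) = qel F ω (cGens.getD (fieldAt cParents 14 (m + 1) % 2) (oneC, 0, 0)).1 *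
            cv F ω (fieldAt cParents 14 (m + 1) / 2) := by
          rw [← hxc, cv_def, cv_def, ← h2, qel_mc hF hω (att_mul hF hω hg hy.1), qel_mul hF hω hg hy.1]
        obtain ⟨b, hb⟩ := ih _ h1 (by omega) ⟨_, hy.2⟩ rfl a
        obtain ⟨b', hb', hbe⟩ := hnorm _ hm b.val b.2
        refine ⟨⟨b', hb'⟩, Subtype.ext ?_⟩
        have hb1 := congrArg Subtype.val hb
        simp only [Subgroup.coe_mul, hq] at hb1
        have hB := (cAt_spec hF hω _ (hqlt b.val b.2)).1
        have hB' := (cAt_spec hF hω _ (hqlt b' hb')).1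
        have hbe' := congrArg (qel F ω) hbe
        simp only [qAt] at hbe'
        rw [qel_mc hF hω (att_mul hF hω hg hB), qel_mc hF hω (att_mul hF hω hB' hg), ← qel_mul hF hω hg hB,
          ← qel_mul hF hω hB' hg] at hbe'
        simp only [Subgroup.coe_mul, hq, hxe, qAt] at hb1 ⊢
        rw [mul_assoc, hb1, ← mul_assoc, hbe', mul_assoc]
  haveI hQn : Q.Normal := ⟨fun y hy g => by
    obtain ⟨a, rfl⟩ := (hQ y).1 hy
    obtain ⟨b, hb⟩ := hgen g a
    rw [hb, mul_inv_cancel_right]
    exact (hQ _).2 ⟨b, rfl⟩⟩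
  have he' := extra_ok
  simp only [okExtra, Bool.and_eq_true, List.all_eq_true, List.mem_range, List.any_eq_true, Bool.or_eq_true,
    Bool.not_eq_true', Nat.beq_eq, Nat.blt_eq, beq_iff_eq, qCom] at he'
  obtain ⟨⟨⟨⟨⟨⟨hz, hzne⟩, hna⟩, hctr⟩, hsq⟩, hcomm⟩, helem⟩ := he'
  have hmul : ∀ a b, eq a * eq b = eq (Tq a b) := fun a b => Subtype.ext (hTq a b)
  have heq1 : eq 0 = 1 := Subtype.ext hq1
  have hcom : ∀ a b, eq a * eq b = eq b * eq a ↔ qMulT a.val b.val = qMulT b.val a.val := fun a b => by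
    rw [hmul, hmul, beq'.1.eq_iff, Fin.ext_iff]
  have hcenter : ∀ a, eq a ∈ Subgroup.center Q ↔ a.val = 0 ∨ a.val = qZ := fun a => by
    rw [Subgroup.mem_center_iff]
    have h := hctr a.val a.2
    constructor
    · intro hall
      have h2 : ((List.range 32).all fun b => Nat.beq (qMulT a.val b) (qMulT b a.val)) = true := by
        simp only [List.all_eq_true, List.mem_range, Nat.beq_eq]
        intro b hb
        exact (hcom a ⟨b, hb⟩).1 (hall (eq ⟨b, hb⟩)).symm
      rw [h2, Bool.or_eq_true, Nat.beq_eq, Nat.beq_eq] at h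
      exact h
    · intro ha g
      obtain ⟨b, rfl⟩ := beq'.2 g
      have h2 : (Nat.beq a.val 0 || Nat.beq a.val qZ) = true := by rw [Bool.or_eq_true, Nat.beq_eq, Nat.beq_eq]; exact ha
      rw [h2] at h
      simp only [eq_comm (a := true), List.all_eq_true, List.mem_range, Nat.beq_eq] at h
      exact ((hcom a b).2 (h b.val b.2)).symm
  have cZ : Nat.card (Subgroup.center Q) = 2 := by
    refine (Nat.card_eq_two_iff' (1 : Subgroup.center Q)).2 ⟨⟨eq ⟨qZ, hz⟩, (hcenter _).2 (Or.inr rfl)⟩, ?_, ?_⟩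
    · intro e1
      have := beq'.1 ((congrArg Subtype.val e1).trans heq1.symm)
      exact nb hzne (congrArg Fin.val this)
    · rintro ⟨g, hg⟩ hne
      obtain ⟨a, rfl⟩ := beq'.2 g
      rcases (hcenter a).1 hg with h | h
      · exact absurd (Subtype.ext (show eq a = 1 by rw [show a = 0 from Fin.ext h, heq1])) hne
      · exact Subtype.ext (congrArg eq (Fin.ext h))
  have hzc : eq ⟨qZ, hz⟩ ∈ Subgroup.center Q := (hcenter _).2 (Or.inr rfl)
  refine ⟨Q, hQn, extraspecial_of cQ cZ ?_ ?_ ?_, cQ, ?_, ⟨K, ?_⟩, ?_⟩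
  · intro x y
    obtain ⟨a, rfl⟩ := beq'.2 x
    obtain ⟨b, rfl⟩ := beq'.2 y
    rcases hcomm a.val a.2 b.val b.2 with h | h
    · rw [(hcom a b).2 h]; simp
    · have e1 : eq a * eq b = eq ⟨qZ, hz⟩ * (eq b * eq a) := by
        rw [hmul, hmul, hmul]; exact congrArg eq (Fin.ext h)
      rw [e1]; simpa [mul_assoc] using hzc
  · intro x
    obtain ⟨a, rfl⟩ := beq'.2 x
    rw [hmul, hcenter]
    exact hsq a.val a.2
  · obtain ⟨a, ha, b, hb, hab⟩ := hna
    exact ⟨eq ⟨a, ha⟩, eq ⟨b, hb⟩, fun e1 => nb hab ((hcom _ _).1 e1)⟩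
  · intro E hE
    by_contra hlt
    have key : ∀ s : Finset Q, s.card ≤ 4 → ∃ x ∈ E, x ∉ s := fun s hs => by
      by_contra hc
      push Not at hc
      have h1 : Nat.card E ≤ s.card := by
        rw [← Nat.card_eq_finsetCard s]
        exact Nat.card_le_card_of_injective (fun x : E => (⟨x.1, hc x.1 x.2⟩ : s))
          (fun x y e => Subtype.ext (congrArg (fun z : s => (z : Q)) e))
      omega
    obtain ⟨a, haE, ha⟩ := key {1} (by simp)
    obtain ⟨b, hbE, hb⟩ := key {1, a} ((Finset.card_insert_le _ _).trans (by simp))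
    obtain ⟨c, hcE, hc⟩ := key {1, a, b, a * b} ((Finset.card_insert_le _ _).trans
      (Nat.succ_le_succ ((Finset.card_insert_le _ _).trans (Nat.succ_le_succ ((Finset.card_insert_le _ _).trans (by simp))))))
    obtain ⟨ia, rfl⟩ := beq'.2 a
    obtain ⟨ib, rfl⟩ := beq'.2 b
    obtain ⟨ic, rfl⟩ := beq'.2 c
    have hcm : ∀ i j, eq i ∈ E → eq j ∈ E → qMulT i.val j.val = qMulT j.val i.val := fun i j hi hj =>
      (hcom i j).1 (congrArg Subtype.val (hE.1.is_comm.comm ⟨eq i, hi⟩ ⟨eq j, hj⟩))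
    have hs2 : ∀ i, eq i ∈ E → qMulT i.val i.val = 0 := fun i hi => by
      have h := hE.2 _ hi
      rw [pow_two, hmul, ← heq1] at h
      exact congrArg Fin.val (beq'.1 h)
    have inj0 : ∀ i : Fin 32, i.val = 0 → eq i = 1 := fun i hi => by rw [show i = 0 from Fin.ext hi, heq1]
    simp only [Finset.mem_insert, Finset.mem_singleton, not_or] at ha hb hc
    have h := helem ia.val ia.2
    rcases h with (h | h) | h
    · exact nb h (hs2 _ haE)
    · exact ha (inj0 _ h)
    rcases h ib.val ib.2 with (((h | h) | h) | h) | h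
    · exact nb h (hs2 _ hbE)
    · exact hb.1 (inj0 _ h)
    · exact hb.2 (congrArg eq (Fin.ext h))
    · exact nb h (hcm _ _ haE hbE)
    rcases h ic.val ic.2 with (((((h | h) | h) | h) | h) | h) | h
    · exact nb h (hs2 _ hcE)
    · exact nb h (hcm _ _ haE hcE)
    · exact nb h (hcm _ _ hbE hcE)
    · exact hc.1 (inj0 _ h)
    · exact hc.2.1 (congrArg eq (Fin.ext h))
    · exact hc.2.2.1 (congrArg eq (Fin.ext h))
    · exact hc.2.2.2 ((congrArg eq (Fin.ext h)).trans (hmul ia ib).symm)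
  · refine Subgroup.isComplement'_of_card_mul_and_disjoint ?_ ?_
    · rw [cQ, cK]; exact hC.symm
    · rw [Subgroup.disjoint_def]
      intro x hx1 hx2
      obtain ⟨a, rfl⟩ := (hQ x).1 hx1
      obtain ⟨b, hb⟩ := (hK _).1 hx2
      have h1 := congrArg Subtype.val hb
      simp only [q, k] at h1
      rw [he _ (hklt b.val b.2), he _ (hqlt a.val a.2)] at h1
      have h2 := cv_inj hF hω (hklt b.val b.2) (hqlt a.val a.2) h1
      rcases hqk a.val a.2 b.val b.2 with h3 | h3
      · rw [show a = 0 from Fin.ext h3, hq1]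
      · exact absurd h2.symm (nb h3)
  · have hcompl : Q.IsComplement' K := by
      refine Subgroup.isComplement'_of_card_mul_and_disjoint (by rw [cQ, cK]; exact hC.symm) ?_
      rw [Subgroup.disjoint_def]
      intro x hx1 hx2
      obtain ⟨a, rfl⟩ := (hQ x).1 hx1
      obtain ⟨b, hb⟩ := (hK _).1 hx2
      have h1 := congrArg Subtype.val hb
      simp only [q, k] at h1
      rw [he _ (hklt b.val b.2), he _ (hqlt a.val a.2)] at h1
      have h2 := cv_inj hF hω (hklt b.val b.2) (hqlt a.val a.2) h1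
      rcases hqk a.val a.2 b.val b.2 with h3 | h3
      · rw [show a = 0 from Fin.ext h3, hq1]
      · exact absurd h2.symm (nb h3)
    have hp := perms_ok
    simp only [okPerms, Bool.and_eq_true, List.all_eq_true, List.mem_range, List.any_eq_true, Bool.or_eq_true,
      Bool.not_eq_true', Nat.beq_eq, Nat.blt_eq] at hp
    obtain ⟨⟨hp1, hp2⟩, hp3⟩ := hp
    let img : Fin 60 → Fin 5 → Fin 5 := fun a i => ⟨kImg a.val i.val, hp1 a.val a.2 i.val i.2⟩
    have himg : ∀ a b i, img (Tk a b) i = img a (img b i) := fun a b i => Fin.ext (hp2 a.val a.2 b.val b.2 i.val i.2)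
    have himg0 : ∀ a, (∀ i, img a i = i) → a = 0 := fun a h => by
      rcases hp3 a.val a.2 with h1 | ⟨i, hi, h1⟩
      · exact Fin.ext h1
      · exact absurd (congrArg Fin.val (h ⟨i, hi⟩)) (nb h1)
    let idx : K → Fin 60 := Function.invFun ek
    have hidx : ∀ x, ek (idx x) = x := Function.rightInverse_invFun bek.2
    have hidm : ∀ x y, idx (x * y) = Tk (idx x) (idx y) := fun x y => bek.1 (by
      rw [hidx]
      refine Subtype.ext (Eq.trans ?_ (hTk (idx x) (idx y)))
      exact congrArg₂ (· * ·) (congrArg Subtype.val (hidx x)).symm (congrArg Subtype.val (hidx y)).symm)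
    have hid1 : idx 1 = 0 := bek.1 (by rw [hidx]; exact Subtype.ext hk1.symm)
    let π : K →* Function.End (Fin 5) :=
      { toFun := fun x => img (idx x)
        map_one' := by
          funext i
          have h0 : Tk 0 0 = 0 := by
            rw [← hid1, ← hidm, mul_one]
          have hb : Function.Bijective (img 0) := by
            refine Finite.injective_iff_bijective.1 fun i j e1 => ?_
            have : ∀ i j : Fin 5, kImg 0 i.val = kImg 0 j.val → i = j := by decide +kernel
            exact this i j (congrArg Fin.val e1)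
          obtain ⟨j, hj⟩ := hb.2 i
          show img (idx 1) i = i
          rw [hid1, ← hj, ← himg, h0]
        map_mul' := fun x y => by
          funext i
          show img (idx (x * y)) i = img (idx x) (img (idx y) i)
          rw [hidm, himg] }
    let ρ : K →* Equiv.Perm (Fin 5) :=
      { toFun := fun x => ⟨π x, π x⁻¹, fun i => by
            show (π x⁻¹ * π x) i = i
            rw [← map_mul, inv_mul_cancel, map_one]; rfl,
          fun i => by
            show (π x * π x⁻¹) i = i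
            rw [← map_mul, mul_inv_cancel, map_one]; rfl⟩
        map_one' := Equiv.ext fun i => by show π 1 i = i; rw [map_one]; rfl
        map_mul' := fun x y => Equiv.ext fun i => by show π (x * y) i = π x (π y i); rw [map_mul]; rfl }
    have hρ : Function.Injective ρ := (MonoidHom.ker_eq_bot_iff ρ).1 (eq_bot_iff.2 fun x hx => by
      have h1 : idx x = 0 := himg0 _ fun i => congrArg (fun p : Equiv.Perm (Fin 5) => p i) (MonoidHom.mem_ker.1 hx)
      rw [Subgroup.mem_bot, ← hidx x, h1, ← hid1, hidx])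
    have hrange : ρ.range = alternatingGroup (Fin 5) := by
      refine Equiv.Perm.eq_alternatingGroup_of_index_eq_two ?_
      have h := Subgroup.index_mul_card ρ.range
      rw [← Nat.card_congr (MonoidHom.ofInjective hρ).toEquiv, cK, Nat.card_perm, Nat.card_fin] at h
      rw [show Nat.factorial 5 = 120 by decide] at h
      omega
    exact ⟨(hcompl.symm.QuotientMulEquiv).trans ((MonoidHom.ofInjective hρ).trans (MulEquiv.subgroupCongr hrange))⟩

omit hF hω in
/-- The shape is carried along an isomorphism. -/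
theorem shape_transfer {G : Type*} [Group G] {H : Type*} [Group H] (e : G ≃* H)
    (h : ∃ t : G, orderOf t = 2 ∧ (∀ z : G, orderOf z = 2 → IsConj t z) ∧
      ∃ (Q : Subgroup ↥(Subgroup.centralizer ({t} : Set G))) (_ : Q.Normal),
        Cfsg.IsExtraspecial 2 Q ∧ Nat.card Q = 32 ∧
        (∀ E : Subgroup Q, Cfsg.IsElementaryAbelian 2 E → Nat.card E ≤ 2 ^ 2) ∧
        (∃ K : Subgroup ↥(Subgroup.centralizer ({t} : Set G)), Q.IsComplement' K) ∧
        Nonempty (↥(Subgroup.centralizer ({t} : Set G)) ⧸ Q ≃* ↥(alternatingGroup (Fin 5)))) :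
    (∀ x y : H, orderOf x = 2 → orderOf y = 2 → IsConj x y) ∧ ∃ t : H, orderOf t = 2 ∧
      ∃ (Q : Subgroup ↥(Subgroup.centralizer ({t} : Set H))) (_ : Q.Normal),
        Cfsg.IsExtraspecial 2 Q ∧ Nat.card Q = 32 ∧
        (∀ E : Subgroup Q, Cfsg.IsElementaryAbelian 2 E → Nat.card E ≤ 2 ^ 2) ∧
        (∃ K : Subgroup ↥(Subgroup.centralizer ({t} : Set H)), Q.IsComplement' K) ∧
        Nonempty (↥(Subgroup.centralizer ({t} : Set H)) ⧸ Q ≃* ↥(alternatingGroup (Fin 5))) := by
  obtain ⟨t, ht, hcl, Q, hQn, hX, h32, hel, ⟨K, hK⟩, ⟨ψ⟩⟩ := h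
  have hcl' : ∀ z : H, orderOf z = 2 → IsConj (e t) z := fun z hz => by
    have h1 := e.toMonoidHom.map_isConj (hcl (e.symm z) (by rw [MulEquiv.orderOf_eq, hz]))
    simpa using h1
  refine ⟨fun x y hx hy => (hcl' x hx).symm.trans (hcl' y hy), e t, by rw [MulEquiv.orderOf_eq, ht], ?_⟩
  have hmap : (Subgroup.centralizer ({t} : Set G)).map e.toMonoidHom = Subgroup.centralizer ({e t} : Set H) := by
    ext x
    rw [Subgroup.mem_centralizer_singleton_iff]
    constructor
    · rintro ⟨y, hy, rfl⟩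
      show e y * e t = e t * e y
      rw [← map_mul, ← map_mul, Subgroup.mem_centralizer_singleton_iff.1 hy]
    · intro hx
      refine ⟨e.symm x, Subgroup.mem_centralizer_singleton_iff.2 (e.injective ?_), e.apply_symm_apply x⟩
      rw [map_mul, map_mul, e.apply_symm_apply, hx]
  let ε : ↥(Subgroup.centralizer ({t} : Set G)) ≃* ↥(Subgroup.centralizer ({e t} : Set H)) :=
    (e.subgroupMap _).trans (MulEquiv.subgroupCongr hmap)
  let εQ : Q ≃* Q.map ε.toMonoidHom := ε.subgroupMap Q
  haveI : Finite Q := Nat.finite_of_card_ne_zero (by rw [h32]; norm_num)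
  haveI : Finite (Q.map ε.toMonoidHom) := Finite.of_equiv _ εQ.toEquiv
  haveI hN : (Q.map ε.toMonoidHom).Normal := hQn.map _ ε.surjective
  refine ⟨Q.map ε.toMonoidHom, hN, ?_, ?_, fun E hE => ?_, ⟨K.map ε.toMonoidHom, ?_⟩, ⟨?_⟩⟩
  · obtain ⟨⟨hp, hfr, hco⟩, hz⟩ := hX
    refine extraspecial_of ((Nat.card_congr εQ.toEquiv).symm.trans h32)
      ((Nat.card_congr (Subgroup.centerCongr εQ).toEquiv).symm.trans hz) (fun a b => ?_) (fun a => ?_) ?_
    · obtain ⟨a, rfl⟩ := εQ.surjective a
      obtain ⟨b, rfl⟩ := εQ.surjective b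
      have h1 : a * b * a⁻¹ * b⁻¹ ∈ Subgroup.center Q := by
        rw [← hco, commutator_def, ← commutatorElement_def]
        exact Subgroup.commutator_mem_commutator (Subgroup.mem_top _) (Subgroup.mem_top _)
      refine Subgroup.mem_center_iff.2 fun g => ?_
      obtain ⟨g, rfl⟩ := εQ.surjective g
      simp only [← map_mul, ← map_inv, Subgroup.mem_center_iff.1 h1]
    · obtain ⟨a, rfl⟩ := εQ.surjective a
      haveI : Fact (Nat.Prime 2) := ⟨Nat.prime_two⟩
      have h1 : a * a ∈ Subgroup.center Q := by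
        rw [← hfr, ← pow_two]
        exact CfsgLib.CoprimeAction.pow_mem_frattini hp a
      refine Subgroup.mem_center_iff.2 fun g => ?_
      obtain ⟨g, rfl⟩ := εQ.surjective g
      simp only [← map_mul, Subgroup.mem_center_iff.1 h1]
    · by_contra hall
      push Not at hall
      have htop : Subgroup.center Q = ⊤ := eq_top_iff.2 fun a _ => Subgroup.mem_center_iff.2 fun g =>
        εQ.injective (by rw [map_mul, map_mul]; exact hall _ _)
      rw [htop, Subgroup.card_top, h32] at hz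
      norm_num at hz
  · exact (Nat.card_congr εQ.toEquiv).symm.trans h32
  · have h1 : Cfsg.IsElementaryAbelian 2 (E.comap εQ.toMonoidHom) := by
      refine ⟨⟨⟨fun a b => ?_⟩⟩, fun a ha => εQ.injective ?_⟩
      · refine Subtype.ext (εQ.injective ?_)
        have h2 := hE.1.is_comm.comm ⟨_, a.2⟩ ⟨_, b.2⟩
        rw [Subgroup.coe_mul, Subgroup.coe_mul, map_mul, map_mul]
        exact congrArg Subtype.val h2
      · rw [map_pow, map_one]
        exact hE.2 _ ha
    refine le_trans (le_of_eq ?_) (hel _ h1)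
    exact (Nat.card_congr (εQ.toEquiv.subtypeEquiv (p := (· ∈ E.comap εQ.toMonoidHom)) (q := (· ∈ E))
      (fun a => Iff.rfl))).symm
  · have hbij : Function.Bijective fun x : Q.map ε.toMonoidHom × K.map ε.toMonoidHom =>
        x.1.val * x.2.val := by
      constructor
      · rintro ⟨⟨_, a, ha, rfl⟩, ⟨_, b, hb, rfl⟩⟩ ⟨⟨_, a', ha', rfl⟩, ⟨_, b', hb', rfl⟩⟩ h
        have h' : ε (a * b) = ε (a' * b') := by rw [map_mul, map_mul]; exact h
        have h2 := hK.1 (a₁ := (⟨a, ha⟩, ⟨b, hb⟩)) (a₂ := (⟨a', ha'⟩, ⟨b', hb'⟩)) (ε.injective h')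
        simp only [Prod.mk.injEq, Subtype.mk.injEq] at h2
        obtain ⟨rfl, rfl⟩ := h2
        rfl
      · intro x
        obtain ⟨⟨a, b⟩, hab⟩ := hK.2 (ε.symm x)
        refine ⟨(⟨_, a, a.2, rfl⟩, ⟨_, b, b.2, rfl⟩), ?_⟩
        show ε a * ε b = x
        rw [← map_mul, show (a : ↥(Subgroup.centralizer ({t} : Set G))) * b = ε.symm x from hab, ε.apply_symm_apply]
    exact hbij
  · exact (QuotientGroup.congr Q (Q.map ε.toMonoidHom) ε rfl).symm.trans ψ

end CfsgLib.J3Mult
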