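import Cfsg.Agent.J3Mult.Code

set_option autoImplicit false
set_option maxRecDepth 100000
set_option Elab.async false

/-!
Kernel evaluation of the checks on representatives and stabiliser.
-/

namespace CfsgLib.J3Mult

theorem stabMulA_ok : okStabMul (hGens.getD 0 oneC) hMulA = true := by decide +kernel

theorem stabMulB_ok : okStabMul (hGens.getD 1 oneC) hMulB = true := by decide +kernel

theorem stabParents_ok : okStabParents = true := by decide +kernel

theorem fixed_ok : okFixed = true := by decide +kernel

theorem parents0_ok : okParents 0 2000 = true := by decide +kernel

theorem parents1_ok : okParents 2000 2000 = true := by decide +kernel

theorem parents2_ok : okParents 4000 2000 = true := by decide +kernel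

theorem parents3_ok : okParents 6000 2000 = true := by decide +kernel

theorem parents4_ok : okParents 8000 2000 = true := by decide +kernel

theorem parents5_ok : okParents 10000 2000 = true := by decide +kernel

theorem parents6_ok : okParents 12000 2000 = true := by decide +kernel

theorem parents7_ok : okParents 14000 2000 = true := by decide +kernel

theorem parents8_ok : okParents 16000 2000 = true := by decide +kernel

theorem parents9_ok : okParents 18000 2000 = true := by decide +kernel

theorem parents10_ok : okParents 20000 2000 = true := by decide +kernel

theorem parents11_ok : okParents 22000 1255 = true := by decide +kernel

theorem distinct0_ok : okDistinct 0 2000 = true := by decide +kernel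

theorem distinct1_ok : okDistinct 2000 2000 = true := by decide +kernel

theorem distinct2_ok : okDistinct 4000 2000 = true := by decide +kernel

theorem distinct3_ok : okDistinct 6000 2000 = true := by decide +kernel

theorem distinct4_ok : okDistinct 8000 2000 = true := by decide +kernel

theorem distinct5_ok : okDistinct 10000 2000 = true := by decide +kernel

theorem distinct6_ok : okDistinct 12000 2000 = true := by decide +kernel

theorem distinct7_ok : okDistinct 14000 2000 = true := by decide +kernel

theorem distinct8_ok : okDistinct 16000 2000 = true := by decide +kernel

theorem distinct9_ok : okDistinct 18000 2000 = true := by decide +kernel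

theorem distinct10_ok : okDistinct 20000 2000 = true := by decide +kernel

theorem distinct11_ok : okDistinct 22000 1256 = true := by decide +kernel

end CfsgLib.J3Mult
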