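import Cfsg.Agent.J3Mult.Code
import Cfsg.Agent.J3Mult.Tabs

set_option autoImplicit false
set_option maxRecDepth 100000
set_option Elab.async false

/-!
Kernel evaluation of part of a coset table.
-/

namespace CfsgLib.J3Mult

theorem tblU0_0_ok : okTable (gens.getD 0 oneC) tblU 0 1000 = true := by decide +kernel

theorem tblU0_1_ok : okTable (gens.getD 0 oneC) tblU 1000 1000 = true := by decide +kernel

theorem tblU0_2_ok : okTable (gens.getD 0 oneC) tblU 2000 1000 = true := by decide +kernel

theorem tblU0_3_ok : okTable (gens.getD 0 oneC) tblU 3000 1000 = true := by decide +kernel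

theorem tblU0_4_ok : okTable (gens.getD 0 oneC) tblU 4000 1000 = true := by decide +kernel

theorem tblU0_5_ok : okTable (gens.getD 0 oneC) tblU 5000 1000 = true := by decide +kernel

theorem tblU0_6_ok : okTable (gens.getD 0 oneC) tblU 6000 1000 = true := by decide +kernel

theorem tblU0_7_ok : okTable (gens.getD 0 oneC) tblU 7000 1000 = true := by decide +kernel

theorem tblU0_8_ok : okTable (gens.getD 0 oneC) tblU 8000 1000 = true := by decide +kernel

theorem tblU0_9_ok : okTable (gens.getD 0 oneC) tblU 9000 1000 = true := by decide +kernel

theorem tblU0_10_ok : okTable (gens.getD 0 oneC) tblU 10000 1000 = true := by decide +kernel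

theorem tblU0_11_ok : okTable (gens.getD 0 oneC) tblU 11000 628 = true := by decide +kernel

end CfsgLib.J3Mult
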