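import Cfsg.Agent.J3Mult.Code
import Cfsg.Agent.J3Mult.Tabs

set_option autoImplicit false
set_option maxRecDepth 100000
set_option Elab.async false

/-!
Kernel evaluation of part of a coset table.
-/

namespace CfsgLib.J3Mult

theorem tblV1_0_ok : okTable (gens.getD 1 oneC) tblV 11628 1000 = true := by decide +kernel

theorem tblV1_1_ok : okTable (gens.getD 1 oneC) tblV 12628 1000 = true := by decide +kernel

theorem tblV1_2_ok : okTable (gens.getD 1 oneC) tblV 13628 1000 = true := by decide +kernel

theorem tblV1_3_ok : okTable (gens.getD 1 oneC) tblV 14628 1000 = true := by decide +kernel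

theorem tblV1_4_ok : okTable (gens.getD 1 oneC) tblV 15628 1000 = true := by decide +kernel

theorem tblV1_5_ok : okTable (gens.getD 1 oneC) tblV 16628 1000 = true := by decide +kernel

theorem tblV1_6_ok : okTable (gens.getD 1 oneC) tblV 17628 1000 = true := by decide +kernel

theorem tblV1_7_ok : okTable (gens.getD 1 oneC) tblV 18628 1000 = true := by decide +kernel

theorem tblV1_8_ok : okTable (gens.getD 1 oneC) tblV 19628 1000 = true := by decide +kernel

theorem tblV1_9_ok : okTable (gens.getD 1 oneC) tblV 20628 1000 = true := by decide +kernel

theorem tblV1_10_ok : okTable (gens.getD 1 oneC) tblV 21628 1000 = true := by decide +kernel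

theorem tblV1_11_ok : okTable (gens.getD 1 oneC) tblV 22628 628 = true := by decide +kernel

end CfsgLib.J3Mult
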