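import Cfsg.Agent.J3Mult.Stab
import Cfsg.Agent.J3Mult.Reps

set_option autoImplicit false

/-!
Packed matrices of degree nine over four elements, two bits an entry.
-/

namespace CfsgLib.J3Mult

/-- The low bits of nine digits. -/
def loBits : ℕ := 87381

/-- Multiplication of a coded vector by the cube root of unity. -/
def omV (v : ℕ) : ℕ :=
  ((v >>> 1) &&& loBits) ||| ((((v &&& loBits) ^^^ ((v >>> 1) &&& loBits))) <<< 1)

/-- A multiple of a coded vector. -/
def selV (d r : ℕ) : ℕ :=
  bif Nat.beq d 0 then 0 else bif Nat.beq d 1 then r else bif Nat.beq d 2 then omV r else r ^^^ omV r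

/-- A digit. -/
def digB (v j : ℕ) : ℕ := (v >>> (2 * j)) &&& 3

/-- A row. -/
def rowN (n i : ℕ) : ℕ := (n >>> (18 * i)) &&& 262143

/-- The combination of rows. -/
def accRows (v h : ℕ) : ℕ → ℕ
  | 0 => 0
  | n + 1 => accRows v h n ^^^ selV (digB v n) (rowN h n)

/-- A row times a matrix. -/
def rowX (v h : ℕ) : ℕ := accRows v h 9

/-- Rows put together. -/
def asm (f : ℕ → ℕ) : ℕ → ℕ
  | 0 => 0
  | n + 1 => asm f n ||| (f n <<< (18 * n))

/-- The product. -/
def mulC (g h : ℕ) : ℕ := asm (fun i => rowX (rowN g i) h) 9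

/-- The identity. -/
def oneC : ℕ := asm (fun i => 4 ^ (i % 9)) 9

/-- Multiplication of a coded matrix by the cube root of unity. -/
def omC (g : ℕ) : ℕ := asm (fun i => omV (rowN g i)) 9

/-- The product of a list. -/
def prodC (l : List ℕ) : ℕ := l.foldr mulC oneC

/-- A field of a packed two-level table. -/
def fieldAt (t : List (List ℕ)) (w i : ℕ) : ℕ :=
  (((t.getD (i / 1600) []).getD (i / 100 % 16) 0) >>> (w * (i % 100))) &&& (2 ^ w - 1)

/-- A representative. -/
def rep (i : ℕ) : ℕ := fieldAt reps 162 i

/-- The parent of a representative. -/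
def parent (i : ℕ) : ℕ := fieldAt parents 16 i

/-- An element of the stabiliser. -/
def hEl (a : ℕ) : ℕ := fieldAt hTab 162 a

/-- The parent in the stabiliser. -/
def hParent (a : ℕ) : ℕ := fieldAt hParents 14 a

/-- The target of an entry. -/
def eJ (e : ℕ) : ℕ := e &&& 32767

/-- The stabiliser part of an entry. -/
def eH (e : ℕ) : ℕ := e >>> 15

/-- Validity of an entry. -/
def okEntry (g : ℕ) (i e : ℕ) : Bool :=
  Nat.blt (eJ e) 23256 && Nat.blt (eH e) 6480 && Nat.beq (mulC g (rep i)) (mulC (rep (eJ e)) (hEl (eH e)))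

/-- Validity of a range of a table. -/
def okTable (g : ℕ) (t : List (List ℕ)) (s n : ℕ) : Bool :=
  (List.range n).all fun k => okEntry g (s + k) (fieldAt t 28 (s + k))

/-- Each representative is a generator times an earlier one. -/
def okParents (s n : ℕ) : Bool := Nat.beq (rep 0) oneC && (List.range n).all fun j =>
  let k := s + j
  Nat.blt (parent (k + 1) / 2) (k + 1) &&
    Nat.beq (mulC (gens.getD (parent (k + 1) % 2) oneC) (rep (parent (k + 1) / 2))) (rep (k + 1))

/-- Left multiplication in the stabiliser. -/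
def okStabMul (g : ℕ) (t : List (List ℕ)) : Bool := (List.range 6480).all fun a =>
  Nat.blt (fieldAt t 13 a) 6480 && Nat.beq (mulC g (hEl a)) (hEl (fieldAt t 13 a))

/-- Each element of the stabiliser is a generator times an earlier one. -/
def okStabParents : Bool := Nat.beq (hEl 0) oneC && (List.range 6479).all fun k =>
  Nat.blt (hParent (k + 1) / 2) (k + 1) &&
    Nat.beq (mulC (hGens.getD (hParent (k + 1) % 2) oneC) (hEl (hParent (k + 1) / 2))) (hEl (k + 1))

/-- The least of the multiples. -/
def cminV (v : ℕ) : ℕ := min v (min (omV v) (omV (omV v)))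

/-- The first column, as a vector. -/
def colZero (g : ℕ) : ℕ := (List.range 9).foldr (fun i s => s + digB (rowN g i) 0 * 4 ^ i) 0

/-- The value of a representative. -/
def valR (i : ℕ) : ℕ := cminV (colZero (rep i))

/-- The values are strictly increasing along the indices. -/
def okDistinct (s n : ℕ) : Bool := (List.range n).all fun j =>
  let k := s + j
  Nat.blt (fieldAt rankTab 15 k) 23256 && Nat.beq (fieldAt idxTab 15 (fieldAt rankTab 15 k)) k &&
    (Nat.beq k 23255 || Nat.blt (valR (fieldAt idxTab 15 k)) (valR (fieldAt idxTab 15 (k + 1))))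

/-- Each element of the stabiliser fixes the first line. -/
def okFixed : Bool := (List.range 6480).all fun a =>
  Nat.beq (cminV (colZero (hEl a))) 1

end CfsgLib.J3Mult
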