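import Cfsg.Agent.J3Mult.ChkU0
import Cfsg.Agent.J3Mult.ChkU1
import Cfsg.Agent.J3Mult.ChkV0
import Cfsg.Agent.J3Mult.ChkV1
import Cfsg.Agent.J3Mult.ChkMisc

set_option autoImplicit false

/-!
The checks put together.
-/

namespace CfsgLib.J3Mult

theorem okTable_at {g : ℕ} {t : List (List ℕ)} {s n i : ℕ} (h : okTable g t s n = true) (h1 : s ≤ i) (h2 : i < s + n) :
    okEntry g i (fieldAt t 28 i) = true := by
  simp only [okTable, List.all_eq_true, List.mem_range] at h
  have h3 := h (i - s) (by omega)
  rwa [Nat.add_sub_cancel' h1] at h3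

theorem tblU_spec {i : ℕ} (hi : i < 23256) : okEntry (gens.getD 0 oneC) i (fieldAt tblU 28 i) = true := by
  by_cases h0 : i < 1000
  · exact okTable_at tblU0_0_ok (by omega) (by omega)
  by_cases h1 : i < 2000
  · exact okTable_at tblU0_1_ok (by omega) (by omega)
  by_cases h2 : i < 3000
  · exact okTable_at tblU0_2_ok (by omega) (by omega)
  by_cases h3 : i < 4000
  · exact okTable_at tblU0_3_ok (by omega) (by omega)
  by_cases h4 : i < 5000
  · exact okTable_at tblU0_4_ok (by omega) (by omega)
  by_cases h5 : i < 6000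
  · exact okTable_at tblU0_5_ok (by omega) (by omega)
  by_cases h6 : i < 7000
  · exact okTable_at tblU0_6_ok (by omega) (by omega)
  by_cases h7 : i < 8000
  · exact okTable_at tblU0_7_ok (by omega) (by omega)
  by_cases h8 : i < 9000
  · exact okTable_at tblU0_8_ok (by omega) (by omega)
  by_cases h9 : i < 10000
  · exact okTable_at tblU0_9_ok (by omega) (by omega)
  by_cases h10 : i < 11000
  · exact okTable_at tblU0_10_ok (by omega) (by omega)
  by_cases h11 : i < 11628
  · exact okTable_at tblU0_11_ok (by omega) (by omega)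
  by_cases h12 : i < 12628
  · exact okTable_at tblU1_0_ok (by omega) (by omega)
  by_cases h13 : i < 13628
  · exact okTable_at tblU1_1_ok (by omega) (by omega)
  by_cases h14 : i < 14628
  · exact okTable_at tblU1_2_ok (by omega) (by omega)
  by_cases h15 : i < 15628
  · exact okTable_at tblU1_3_ok (by omega) (by omega)
  by_cases h16 : i < 16628
  · exact okTable_at tblU1_4_ok (by omega) (by omega)
  by_cases h17 : i < 17628
  · exact okTable_at tblU1_5_ok (by omega) (by omega)
  by_cases h18 : i < 18628
  · exact okTable_at tblU1_6_ok (by omega) (by omega)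
  by_cases h19 : i < 19628
  · exact okTable_at tblU1_7_ok (by omega) (by omega)
  by_cases h20 : i < 20628
  · exact okTable_at tblU1_8_ok (by omega) (by omega)
  by_cases h21 : i < 21628
  · exact okTable_at tblU1_9_ok (by omega) (by omega)
  by_cases h22 : i < 22628
  · exact okTable_at tblU1_10_ok (by omega) (by omega)
  exact okTable_at tblU1_11_ok (by omega) (by omega)

theorem tblV_spec {i : ℕ} (hi : i < 23256) : okEntry (gens.getD 1 oneC) i (fieldAt tblV 28 i) = true := by
  by_cases h0 : i < 1000
  · exact okTable_at tblV0_0_ok (by omega) (by omega)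
  by_cases h1 : i < 2000
  · exact okTable_at tblV0_1_ok (by omega) (by omega)
  by_cases h2 : i < 3000
  · exact okTable_at tblV0_2_ok (by omega) (by omega)
  by_cases h3 : i < 4000
  · exact okTable_at tblV0_3_ok (by omega) (by omega)
  by_cases h4 : i < 5000
  · exact okTable_at tblV0_4_ok (by omega) (by omega)
  by_cases h5 : i < 6000
  · exact okTable_at tblV0_5_ok (by omega) (by omega)
  by_cases h6 : i < 7000
  · exact okTable_at tblV0_6_ok (by omega) (by omega)
  by_cases h7 : i < 8000
  · exact okTable_at tblV0_7_ok (by omega) (by omega)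
  by_cases h8 : i < 9000
  · exact okTable_at tblV0_8_ok (by omega) (by omega)
  by_cases h9 : i < 10000
  · exact okTable_at tblV0_9_ok (by omega) (by omega)
  by_cases h10 : i < 11000
  · exact okTable_at tblV0_10_ok (by omega) (by omega)
  by_cases h11 : i < 11628
  · exact okTable_at tblV0_11_ok (by omega) (by omega)
  by_cases h12 : i < 12628
  · exact okTable_at tblV1_0_ok (by omega) (by omega)
  by_cases h13 : i < 13628
  · exact okTable_at tblV1_1_ok (by omega) (by omega)
  by_cases h14 : i < 14628
  · exact okTable_at tblV1_2_ok (by omega) (by omega)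
  by_cases h15 : i < 15628
  · exact okTable_at tblV1_3_ok (by omega) (by omega)
  by_cases h16 : i < 16628
  · exact okTable_at tblV1_4_ok (by omega) (by omega)
  by_cases h17 : i < 17628
  · exact okTable_at tblV1_5_ok (by omega) (by omega)
  by_cases h18 : i < 18628
  · exact okTable_at tblV1_6_ok (by omega) (by omega)
  by_cases h19 : i < 19628
  · exact okTable_at tblV1_7_ok (by omega) (by omega)
  by_cases h20 : i < 20628
  · exact okTable_at tblV1_8_ok (by omega) (by omega)
  by_cases h21 : i < 21628
  · exact okTable_at tblV1_9_ok (by omega) (by omega)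
  by_cases h22 : i < 22628
  · exact okTable_at tblV1_10_ok (by omega) (by omega)
  exact okTable_at tblV1_11_ok (by omega) (by omega)

theorem parents_all {k : ℕ} (hk : k < 23255) : ∃ s n, s ≤ k ∧ k < s + n ∧ okParents s n = true := by
  by_cases h0 : k < 2000
  · exact ⟨0, 2000, by omega, by omega, parents0_ok⟩
  by_cases h1 : k < 4000
  · exact ⟨2000, 2000, by omega, by omega, parents1_ok⟩
  by_cases h2 : k < 6000
  · exact ⟨4000, 2000, by omega, by omega, parents2_ok⟩
  by_cases h3 : k < 8000
  · exact ⟨6000, 2000, by omega, by omega, parents3_ok⟩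
  by_cases h4 : k < 10000
  · exact ⟨8000, 2000, by omega, by omega, parents4_ok⟩
  by_cases h5 : k < 12000
  · exact ⟨10000, 2000, by omega, by omega, parents5_ok⟩
  by_cases h6 : k < 14000
  · exact ⟨12000, 2000, by omega, by omega, parents6_ok⟩
  by_cases h7 : k < 16000
  · exact ⟨14000, 2000, by omega, by omega, parents7_ok⟩
  by_cases h8 : k < 18000
  · exact ⟨16000, 2000, by omega, by omega, parents8_ok⟩
  by_cases h9 : k < 20000
  · exact ⟨18000, 2000, by omega, by omega, parents9_ok⟩
  by_cases h10 : k < 22000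
  · exact ⟨20000, 2000, by omega, by omega, parents10_ok⟩
  exact ⟨22000, 1255, by omega, by omega, parents11_ok⟩

theorem distinct_all {k : ℕ} (hk : k < 23256) : ∃ s n, s ≤ k ∧ k < s + n ∧ okDistinct s n = true := by
  by_cases h0 : k < 2000
  · exact ⟨0, 2000, by omega, by omega, distinct0_ok⟩
  by_cases h1 : k < 4000
  · exact ⟨2000, 2000, by omega, by omega, distinct1_ok⟩
  by_cases h2 : k < 6000
  · exact ⟨4000, 2000, by omega, by omega, distinct2_ok⟩
  by_cases h3 : k < 8000
  · exact ⟨6000, 2000, by omega, by omega, distinct3_ok⟩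
  by_cases h4 : k < 10000
  · exact ⟨8000, 2000, by omega, by omega, distinct4_ok⟩
  by_cases h5 : k < 12000
  · exact ⟨10000, 2000, by omega, by omega, distinct5_ok⟩
  by_cases h6 : k < 14000
  · exact ⟨12000, 2000, by omega, by omega, distinct6_ok⟩
  by_cases h7 : k < 16000
  · exact ⟨14000, 2000, by omega, by omega, distinct7_ok⟩
  by_cases h8 : k < 18000
  · exact ⟨16000, 2000, by omega, by omega, distinct8_ok⟩
  by_cases h9 : k < 20000
  · exact ⟨18000, 2000, by omega, by omega, distinct9_ok⟩
  by_cases h10 : k < 22000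
  · exact ⟨20000, 2000, by omega, by omega, distinct10_ok⟩
  exact ⟨22000, 1256, by omega, by omega, distinct11_ok⟩

theorem parents_spec {k : ℕ} (hk : k < 23255) : rep 0 = oneC ∧ parent (k + 1) / 2 < k + 1 ∧
    mulC (gens.getD (parent (k + 1) % 2) oneC) (rep (parent (k + 1) / 2)) = rep (k + 1) := by
  obtain ⟨s, n, h1, h2, h⟩ := parents_all hk
  simp only [okParents, Bool.and_eq_true, Nat.beq_eq, List.all_eq_true, List.mem_range, Nat.blt_eq] at h
  have h3 := h.2 (k - s) (by omega)
  rw [Nat.add_sub_cancel' h1] at h3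
  exact ⟨h.1, h3⟩

theorem distinct_spec {k : ℕ} (hk : k < 23256) : fieldAt rankTab 15 k < 23256 ∧
    fieldAt idxTab 15 (fieldAt rankTab 15 k) = k ∧
    (k = 23255 ∨ valR (fieldAt idxTab 15 k) < valR (fieldAt idxTab 15 (k + 1))) := by
  obtain ⟨s, n, h1, h2, h⟩ := distinct_all hk
  simp only [okDistinct, Bool.and_eq_true, Bool.or_eq_true, Nat.beq_eq, List.all_eq_true, List.mem_range, Nat.blt_eq] at h
  have h3 := h (k - s) (by omega)
  rw [Nat.add_sub_cancel' h1] at h3
  exact ⟨h3.1.1, h3.1.2, h3.2⟩

end CfsgLib.J3Mult
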