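import Mathlib.GroupTheory.Coset.Card
import Mathlib.GroupTheory.Index
import Mathlib.Data.Fintype.Card
import Mathlib.GroupTheory.OrderOfElement

set_option autoImplicit false

/-!
Counting a finite group by coset tables.
-/

namespace CfsgLib.J3Mult

universe u

variable {H : Type u} [Group H] [Finite H] {ι : Type}

/-- The elements that map the listed cosets into themselves. -/
def keepSub (P : Subgroup H) (r : ι → H) : Subgroup H :=
  let N : Submonoid H :=
    { carrier := {g | ∀ i, ∃ j, g • ((r i : H) : H ⧸ P) = ((r j : H) : H ⧸ P)}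
      one_mem' := fun i => ⟨i, one_smul _ _⟩
      mul_mem' := by
        intro g g' hg hg' i
        obtain ⟨j, hj⟩ := hg' i
        obtain ⟨k, hk⟩ := hg j
        exact ⟨k, by rw [mul_smul, hj, hk]⟩ }
  { N with
    inv_mem' := fun {g} hg => by
      have h1 : g ^ (orderOf g - 1) = g⁻¹ := by
        refine eq_inv_of_mul_eq_one_left ?_
        rw [← pow_succ, Nat.sub_add_cancel (orderOf_pos g), pow_orderOf_eq_one]
      exact h1 ▸ (Submonoid.pow_mem N hg _ : g ^ (orderOf g - 1) ∈ N) }

theorem mem_keepSub {P : Subgroup H} {r : ι → H} {g : H}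
    (h : ∀ i, ∃ j, ∃ p ∈ P, g * r i = r j * p) : g ∈ keepSub P r := fun i => by
  obtain ⟨j, p, hp, e⟩ := h i
  refine ⟨j, ?_⟩
  rw [MulAction.Quotient.smul_coe, smul_eq_mul, e]
  exact QuotientGroup.mk_mul_of_mem _ hp

/-- The order from complete distinct representatives. -/
theorem card_eq_of_reps [Fintype ι] {P : Subgroup H} {r : ι → H} (htop : keepSub P r = ⊤) (i0 : ι)
    (hinj : ∀ i j, (r i)⁻¹ * r j ∈ P → i = j) : Nat.card H = Fintype.card ι * Nat.card P := by
  classical
  have hb : Function.Bijective fun i => ((r i : H) : H ⧸ P) := by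
    refine ⟨fun i j e => hinj i j (QuotientGroup.eq.1 e), fun q => ?_⟩
    obtain ⟨g, rfl⟩ := QuotientGroup.mk_surjective q
    have hg : g * (r i0)⁻¹ ∈ keepSub P r := htop ▸ Subgroup.mem_top _
    obtain ⟨j, hj⟩ := hg i0
    refine ⟨j, hj.symm.trans ?_⟩
    simp only [MulAction.Quotient.smul_coe, smul_eq_mul, inv_mul_cancel_right]
  rw [Subgroup.card_eq_card_quotient_mul_card_subgroup P, ← Nat.card_eq_fintype_card,
    Nat.card_congr (Equiv.ofBijective _ hb)]

/-- A subgroup generated by elements whose left multiplications keep a list is listed. -/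
theorem closure_subset_range (f : ι → H) (S : Set H) (i0 : ι) (h0 : f i0 = 1)
    (h : ∀ g ∈ S, ∀ a, ∃ b, g * f a = f b) : ∀ x ∈ Subgroup.closure S, ∃ a, f a = x := by
  intro x hx
  have hx' : x ∈ Submonoid.closure S := by
    rw [← Subgroup.closure_toSubmonoid_of_finite]; exact hx
  induction hx' using Submonoid.closure_induction_left with
  | one => exact ⟨i0, h0⟩
  | mul_left g hg y hy ih =>
    obtain ⟨a, rfl⟩ := ih ((SetLike.mem_coe).2 (Submonoid.closure_le.2 Subgroup.subset_closure hy))
    obtain ⟨b, hb⟩ := h g hg a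
    exact ⟨b, hb.symm⟩

end CfsgLib.J3Mult
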