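import Cfsg.Agent.SchurCert.Gen

set_option autoImplicit false
set_option maxRecDepth 100000

/-!
Certificates for the Sylow subgroups at two and three.
-/

namespace CfsgLib.J3Mult

/-- The certificate at 2. -/
def cert2 : SchurCert.GCert where
  p := 2
  n := 7
  rels := [([0, 0], [3]),
   ([1, 0], [0, 1, 3]),
   ([1, 1], []),
   ([2, 0], [0, 2, 4]),
   ([2, 1], [1, 2]),
   ([2, 2], []),
   ([3, 0], [0, 3]),
   ([3, 1], [1, 3, 6]),
   ([3, 2], [2, 3, 5, 6]),
   ([3, 3], [6]),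
   ([4, 0], [0, 4, 5]),
   ([4, 1], [1, 4, 5]),
   ([4, 2], [2, 4, 6]),
   ([4, 3], [3, 4, 6]),
   ([4, 4], [6]),
   ([5, 0], [0, 5, 6]),
   ([5, 1], [1, 5]),
   ([5, 2], [2, 5]),
   ([5, 3], [3, 5]),
   ([5, 4], [4, 5]),
   ([5, 5], []),
   ([6, 0], [0, 6]),
   ([6, 1], [1, 6]),
   ([6, 2], [2, 6]),
   ([6, 3], [3, 6]),
   ([6, 4], [4, 6]),
   ([6, 5], [5, 6]),
   ([6, 6], []),
   ([7, 0, 1, 3, 4, 6], [2, 4, 5, 6, 7]),
   ([8, 1, 6], [0, 1, 8]),
   ([9, 0, 1, 3, 4, 6], [5, 6, 9]),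
   ([9, 0, 1, 5, 6], [3, 9]),
   ([9, 0, 1, 4, 5, 6], [0, 1, 4, 5, 6, 9]),
   ([9, 3, 4], [0, 1, 5, 6, 9]),
   ([9, 3, 4, 5, 6], [3, 5, 6, 9]),
   ([10, 2, 5, 6], [1, 2, 3, 4, 10])]
  eqs := [([0, 0, 0], [(0, false, 0), (6, false, 0)], [(0, false, 1)]),
   ([1, 0, 0], [(1, false, 0), (6, false, 2), (1, false, 1), (0, false, 0), (7, false, 0), (24, false, 2), (9, false, 1), (27, false, 1)], [(0, false, 1)]),
   ([2, 0, 0], [(3, false, 0), (10, false, 2), (3, false, 1), (0, false, 0), (8, false, 0), (25, false, 3), (19, false, 2), (25, false, 4), (19, false, 3), (14, false, 2), (26, false, 2), (27, false, 3), (20, false, 2)], [(0, false, 1)]),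
   ([2, 1, 0], [(4, false, 0), (3, false, 1), (1, false, 0), (8, false, 2), (25, false, 5), (19, false, 4)], [(1, false, 1), (3, false, 0), (11, false, 2), (4, false, 1), (18, false, 4), (13, false, 3), (26, false, 5)]),
   ([2, 2, 0], [(5, false, 0)], [(3, false, 1), (3, false, 0), (12, false, 2), (5, false, 1), (25, false, 2), (14, false, 1), (27, false, 1)]),
   ([3, 1, 0], [(7, false, 0), (21, false, 2), (6, false, 1), (1, false, 0), (9, false, 2), (27, false, 2)], [(1, false, 1), (6, false, 0), (7, false, 1), (24, false, 3), (9, false, 2), (27, false, 2)]),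
   ([3, 1, 1], [(7, false, 0), (22, false, 2), (7, false, 1), (2, false, 0), (27, false, 1)], [(2, false, 1)]),
   ([3, 2, 0], [(8, false, 0), (21, false, 3), (15, false, 2), (6, false, 1), (3, false, 0), (13, false, 2), (26, false, 4), (27, false, 5)], [(3, false, 1), (6, false, 0), (8, false, 1), (25, false, 4), (19, false, 3)]),
   ([3, 2, 1], [(8, false, 0), (22, false, 3), (16, false, 2), (7, false, 1), (4, false, 0), (26, false, 3), (27, false, 4)], [(4, false, 1), (7, false, 0), (23, false, 2), (8, false, 1), (27, false, 4)]),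
   ([3, 2, 2], [(8, false, 0), (23, false, 3), (17, false, 2), (8, false, 1), (5, false, 0), (26, false, 2), (20, false, 1), (27, false, 1)], [(5, false, 1)]),
   ([3, 3, 0], [(9, false, 0), (21, false, 0)], [(6, false, 1), (6, false, 0), (9, false, 1)]),
   ([3, 3, 2], [(9, false, 0), (23, false, 0)], [(8, false, 1), (8, false, 0), (24, false, 3), (18, false, 2), (9, false, 1), (26, false, 1), (27, false, 2), (20, false, 1)]),
   ([4, 0, 0], [(10, false, 0), (15, false, 2), (10, false, 1), (0, false, 0), (20, false, 2)], [(0, false, 1), (13, false, 0)]),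
   ([4, 1, 0], [(11, false, 0), (15, false, 2), (10, false, 1), (1, false, 0), (20, false, 4)], [(1, false, 1), (10, false, 0), (16, false, 2), (11, false, 1), (20, false, 3), (13, false, 2)]),
   ([4, 2, 0], [(12, false, 0), (21, false, 2), (10, false, 1), (3, false, 0), (14, false, 2), (26, false, 2), (27, false, 3)], [(3, false, 1), (10, false, 0), (17, false, 2), (12, false, 1), (26, false, 3), (25, false, 4), (19, false, 3), (14, false, 2), (26, false, 2), (27, false, 3)]),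
   ([4, 2, 1], [(12, false, 0), (22, false, 2), (11, false, 1), (4, false, 0)], [(4, false, 1), (11, false, 0), (17, false, 2), (12, false, 1), (26, false, 3)]),
   ([4, 3, 0], [(13, false, 0), (21, false, 2), (10, false, 1), (6, false, 0)], [(6, false, 1), (10, false, 0), (18, false, 2), (13, false, 1), (26, false, 3)]),
   ([4, 3, 1], [(13, false, 0), (22, false, 2), (11, false, 1), (7, false, 0), (25, false, 2), (26, false, 3), (27, false, 4)], [(7, false, 1), (11, false, 0), (18, false, 2), (13, false, 1), (26, false, 3), (27, false, 4)]),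
   ([7, 0, 1, 3, 4, 6, 0, 1, 3, 4, 6], [(28, false, 0), (28, false, 4), (23, false, 3), (17, false, 2), (12, false, 1), (5, false, 0), (26, false, 1), (27, false, 2), (19, false, 1), (14, false, 0), (26, false, 0), (26, false, 1), (20, false, 0), (27, false, 0)], [(21, false, 5), (10, false, 4), (6, false, 3), (1, false, 2), (0, false, 1), (7, false, 1), (24, false, 3), (9, false, 2), (27, false, 2), (22, false, 5), (16, false, 4), (11, false, 3), (7, false, 2), (2, false, 1), (25, false, 2), (26, false, 3), (26, false, 4), (20, false, 3), (27, false, 3), (13, false, 2), (9, false, 1), (25, false, 1), (27, false, 2), (14, false, 1), (27, false, 1)]),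
   ([8, 1, 6, 1, 6], [(29, false, 0), (29, false, 2), (1, false, 1), (0, false, 0), (7, false, 0), (24, false, 2), (9, false, 1), (27, false, 1), (2, false, 0)], [(22, false, 2), (2, false, 1), (27, false, 1)]),
   ([9, 0, 1, 3, 4, 6, 0, 1, 3, 4, 6], [(30, false, 0), (30, false, 2), (26, false, 1), (20, false, 0), (27, false, 0)], [(21, false, 5), (10, false, 4), (6, false, 3), (1, false, 2), (0, false, 1), (7, false, 1), (24, false, 3), (9, false, 2), (27, false, 2), (22, false, 5), (16, false, 4), (11, false, 3), (7, false, 2), (2, false, 1), (25, false, 2), (26, false, 3), (26, false, 4), (20, false, 3), (27, false, 3), (13, false, 2), (9, false, 1), (25, false, 1), (27, false, 2), (14, false, 1), (27, false, 1)]),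
   ([9, 0, 1, 5, 6, 0, 1, 4, 5, 6], [(31, false, 0), (32, false, 1), (6, false, 0), (7, false, 1), (25, false, 3), (26, false, 4), (27, false, 5)], [(21, false, 4), (15, false, 3), (1, false, 2), (0, false, 1), (7, false, 1), (24, false, 3), (9, false, 2), (27, false, 2), (27, false, 3), (16, false, 2), (2, false, 1), (19, false, 1), (20, false, 2), (20, true, 2), (2, true, 1), (11, true, 2), (27, true, 3), (20, true, 3), (27, true, 2), (9, true, 2), (24, true, 3), (7, true, 1), (0, true, 1), (1, true, 2), (10, true, 3), (15, true, 4), (21, true, 5), (32, false, 0), (31, false, 5), (24, false, 4), (18, false, 3), (13, false, 2), (26, false, 4), (27, false, 5)]),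
   ([9, 3, 4, 3, 4, 5, 6], [(33, false, 0), (34, false, 4), (24, false, 3), (18, false, 2), (26, false, 4), (20, false, 3), (27, false, 3)], [(13, false, 2), (9, false, 1), (25, false, 1), (27, false, 2), (14, false, 1), (26, false, 1), (27, false, 2), (27, true, 2), (26, true, 1), (14, true, 1), (19, true, 2), (25, true, 3), (27, true, 2), (25, true, 1), (9, true, 1), (13, true, 2), (18, true, 3), (24, true, 4), (34, false, 0), (33, false, 3), (21, false, 2), (15, false, 1), (6, false, 0), (27, false, 3), (16, false, 2), (7, false, 1), (26, false, 3), (26, false, 4), (20, false, 3), (27, false, 3)]),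
   ([10, 2, 5, 6, 2, 5, 6], [(35, false, 0), (35, false, 4), (11, false, 3), (7, false, 2), (4, false, 1), (2, false, 0), (25, false, 2), (26, false, 3), (23, false, 4), (17, false, 3), (12, false, 2), (8, false, 1), (5, false, 0), (25, false, 2), (19, false, 1), (27, false, 3), (20, false, 2), (24, false, 2), (13, false, 1), (9, false, 0), (25, false, 0), (27, false, 1), (25, false, 1), (14, false, 0), (27, false, 0)], [(23, false, 3), (17, false, 2), (5, false, 1), (26, false, 2), (20, false, 1), (27, false, 1)])]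
  D := [[],
   [],
   [],
   [0, 1, 0, 0, 0, 0, 0, 0, 0, 0, 0, 0, 0, 0, 0, 0, 0, 0, 0, 0, 0, 0, 0, 0, 0, 0, 0, 0],
   [0, 0, 0, 1, 0, 0, 0, 0, 0, 0, 0, 0, 0, 0, 0, 0, 0, 0, 0, 0, 0, 0, 0, 0, 0, 0, 0, 0],
   [0, 0, 0, 0, 0, 0, 0, 0, 0, 0, 1, 0, 0, 0, 0, 0, 0, 0, 0, 0, 0, 0, 0, 0, 0, 0, 0, 0],
   [0, 0, 0, 0, 0, 0, 0, 0, 0, 0, 0, 0, 0, 0, 0, 1, 0, 0, 0, 0, 0, 0, 0, 0, 0, 0, 0, 0]]
  phi := [0, 0, 0, 0, 0, 0, 0, 0, 0, 0, 0, 0, 0, 0, 0, 0, 0, 0, 0, 0, 0, 0, 0, 0, 0, 0, 0, 0, 0, 0, 0, 0, 0, 0, 0, 0]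
  sol := [(0, [(0, 1), (1, 1), (6, 1), (19, 1)]),
   (0, []),
   (0, [(1, 1), (2, 1), (3, 1), (5, 1), (6, 1), (12, 1), (13, 1), (14, 1), (15, 1), (16, 1), (19, 1), (20, 1)]),
   (0, []),
   (0, [(0, 1), (2, 1), (4, 1), (5, 1), (6, 1), (10, 1), (12, 1), (13, 1), (14, 1), (15, 1), (19, 1), (20, 1), (23, 1)]),
   (0, [(4, 1), (7, 1), (9, 1), (10, 1), (12, 1), (18, 1), (20, 1)]),
   (0, [(0, 1)]),
   (0, [(0, 1), (7, 1), (13, 1), (22, 1)]),
   (0, [(3, 1), (6, 1), (7, 1), (8, 1), (10, 1), (11, 1), (13, 1), (16, 1), (21, 1), (22, 1)]),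
   (0, [(1, 1), (6, 1), (7, 1), (9, 1), (10, 1), (11, 1), (13, 1), (15, 1), (16, 1), (22, 1)]),
   (0, []),
   (0, [(6, 1), (9, 1), (10, 1), (11, 1), (12, 1), (15, 1), (21, 1), (22, 1)]),
   (0, [(2, 1), (3, 1), (4, 1), (6, 1), (9, 1), (11, 1), (14, 1), (17, 1), (21, 1), (22, 1)]),
   (0, [(5, 1), (7, 1), (8, 1), (11, 1), (12, 1), (13, 1), (14, 1), (15, 1), (16, 1)]),
   (0, [(2, 1), (3, 1), (5, 1), (6, 1), (8, 1), (9, 1), (10, 1), (12, 1), (13, 1), (14, 1), (21, 1), (22, 1)]),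
   (0, []),
   (0, [(5, 1), (7, 1), (8, 1), (11, 1), (12, 1), (14, 1), (15, 1), (16, 1)]),
   (0, [(6, 1), (8, 1), (9, 1), (12, 1), (13, 1)]),
   (0, [(5, 1), (6, 1), (8, 1), (10, 1), (11, 1), (12, 1), (13, 1)]),
   (0, [(5, 1), (6, 1), (8, 1), (11, 1), (12, 1), (13, 1), (14, 1), (15, 1), (17, 1)]),
   (0, [(5, 1), (7, 1), (8, 1), (11, 1), (13, 1), (14, 1), (15, 1), (16, 1)]),
   (0, [(10, 1)]),
   (0, [(5, 1), (9, 1), (11, 1), (15, 1), (16, 1)]),
   (0, [(5, 1), (6, 1), (7, 1), (8, 1), (9, 1), (11, 1), (13, 1), (14, 1), (16, 1)]),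
   (0, [(5, 1), (10, 1)]),
   (0, [(6, 1), (8, 1), (9, 1), (10, 1), (12, 1), (13, 1), (15, 1), (16, 1), (17, 1)]),
   (0, [(5, 1), (6, 1), (8, 1), (11, 1), (12, 1), (13, 1), (16, 1)]),
   (0, [(5, 1), (6, 1), (9, 1), (11, 1), (15, 1), (16, 1)])]
  nf := [[], [0], [1], [0, 1], [2], [0, 2], [1, 2], [0, 1, 2], [3], [0, 3], [1, 3], [0, 1, 3], [2, 3], [0, 2, 3], [1, 2, 3], [0, 1, 2, 3], [4], [0, 4], [1, 4], [0, 1, 4], [2, 4], [0, 2, 4], [1, 2, 4], [0, 1, 2, 4], [3, 4], [0, 3, 4], [1, 3, 4], [0, 1, 3, 4], [2, 3, 4], [0, 2, 3, 4], [1, 2, 3, 4], [0, 1, 2, 3, 4], [5], [0, 5], [1, 5], [0, 1, 5], [2, 5], [0, 2, 5], [1, 2, 5], [0, 1, 2, 5], [3, 5], [0, 3, 5], [1, 3, 5], [0, 1, 3, 5], [2, 3, 5], [0, 2, 3, 5], [1, 2, 3, 5], [0, 1, 2, 3, 5], [4, 5], [0, 4, 5], [1, 4, 5], [0, 1, 4, 5], [2, 4, 5], [0, 2, 4, 5], [1, 2, 4, 5], [0, 1, 2, 4, 5], [3, 4, 5], [0, 3, 4, 5], [1, 3, 4, 5], [0, 1, 3, 4, 5], [2, 3, 4, 5], [0, 2, 3, 4, 5], [1, 2, 3, 4,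 5], [0, 1, 2, 3, 4, 5], [6], [0, 6], [1, 6], [0, 1, 6], [2, 6], [0, 2, 6], [1, 2, 6], [0, 1, 2, 6], [3, 6], [0, 3, 6], [1, 3, 6], [0, 1, 3, 6], [2, 3, 6], [0, 2, 3, 6], [1, 2, 3, 6], [0, 1, 2, 3, 6], [4, 6], [0, 4, 6], [1, 4, 6], [0, 1, 4, 6], [2, 4, 6], [0, 2, 4, 6], [1, 2, 4, 6], [0, 1, 2, 4, 6], [3, 4, 6], [0, 3, 4, 6], [1, 3, 4, 6], [0, 1, 3, 4, 6], [2, 3, 4, 6], [0, 2, 3, 4, 6], [1, 2, 3, 4, 6], [0, 1, 2, 3, 4, 6], [5, 6], [0, 5, 6], [1, 5, 6], [0, 1, 5, 6], [2, 5, 6], [0, 2, 5, 6], [1, 2, 5, 6], [0, 1, 2, 5, 6], [3, 5, 6], [0, 3, 5, 6], [1, 3, 5, 6], [0, 1, 3, 5, 6], [2, 3, 5, 6], [0, 2, 3, 5, 6], [1, 2, 3, 5, 6], [0, 1, 2, 3, 5, 6], [4, 5, 6], [0, 4, 5, 6], [1, 4, 5, 6], [0, 1, 4, 5, 6], [2, 4, 5, 6], [0, 2, 4, 5, 6], [1, 2, 4, 5, 6], [0, 1, 2, 4, 5, 6], [3, 4, 5, 6], [0, 3, 4, 5, 6], [1, 3, 4, 5, 6], [0, 1, 3, 4, 5, 6], [2, 3, 4, 5, 6], [0, 2, 3, 4, 5, 6], [1, 2, 3, 4, 5, 6], [0, 1, 2, 3, 4, 5, 6]]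

/-- The letters: code, representative and stabiliser part. -/
def lets2 : List (ℕ × ℕ × ℕ) :=
  [(0x14db212417e42a61045e50e13eaaef6df7ae5a997, 17299, 3119),
   (0x80a64b2b47539386e4281a513b57e7eb57f9a997, 13344, 2880),
   (0x13481014e60351500b461c1c48149c11321155555, 13339, 5409),
   (0x4c4744c1f1cc1c054cd4133cd07c03503c7575fe, 23251, 586),
   (0x346517644524d56351657051c654156d541e55555, 13339, 3427),
   (0x18d45d1944156d95c15d911541e47195493555555, 13339, 2988),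
   (0x100010000040100010000040000004000400001, 0, 3162),
   (0x13c0343010c0420a00b200c200a0009010240010, 22702, 3191),
   (0x2d485e81d4aad46ee963e582fc31102766b6d5478, 3967, 4797),
   (0x28200a200000fc228020a000c0f030f00c3300001, 0, 2635),
   (0xc02400202801004807c004078000e01400e01c01, 22963, 1714)]

/-- The certificate at 3. -/
def cert3 : SchurCert.GCert where
  p := 3
  n := 5
  rels := [([0, 0, 0], [4, 4]),
   ([1, 0], [0, 1, 2]),
   ([1, 1, 1], [3]),
   ([2, 0], [0, 2, 3]),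
   ([2, 1], [1, 2, 4]),
   ([2, 2, 2], []),
   ([3, 0], [0, 3]),
   ([3, 1], [1, 3]),
   ([3, 2], [2, 3]),
   ([3, 3, 3], []),
   ([4, 0], [0, 4]),
   ([4, 1], [1, 4]),
   ([4, 2], [2, 4]),
   ([4, 3], [3, 4]),
   ([4, 4, 4], []),
   ([5, 0], [0, 1, 2, 2, 3, 3, 4, 5]),
   ([5, 1], [0, 0, 1, 2, 3, 5]),
   ([5, 2], [2, 2, 3, 3, 4, 5]),
   ([5, 3], [3, 3, 4, 4, 5]),
   ([5, 4], [3, 4, 4, 5])]
  eqs := [([2, 1, 0], [(4, false, 0), (10, false, 2), (3, false, 1), (1, false, 0)], [(1, false, 1), (3, false, 0), (7, false, 2), (4, false, 1), (13, false, 3), (12, false, 4), (8, false, 3)]),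
   ([3, 1, 0], [(7, false, 0), (6, false, 1), (1, false, 0)], [(1, false, 1), (6, false, 0), (7, false, 1), (8, false, 2)]),
   ([3, 2, 1], [(8, false, 0), (7, false, 1), (4, false, 0), (13, false, 2)], [(4, false, 1), (7, false, 0), (8, false, 1)]),
   ([4, 1, 0], [(11, false, 0), (10, false, 1), (1, false, 0)], [(1, false, 1), (10, false, 0), (11, false, 1), (12, false, 2)]),
   ([0, 0, 0, 0], [(0, false, 0), (10, false, 1), (10, false, 0)], [(0, false, 1)]),
   ([1, 0, 0, 0], [(1, false, 0), (3, false, 2), (1, false, 1), (6, false, 5), (3, false, 4), (3, false, 3), (1, false, 2), (0, false, 0), (11, false, 1), (11, false, 0), (12, false, 2), (12, false, 1), (12, false, 3), (12, false, 2), (13, false, 4), (13, false, 3), (12, false, 5), (12, false, 4), (8, false, 3), (5, false, 1), (13, false, 3), (13, false, 2), (13, false, 4), (13, false, 3), (9, false, 1)], [(0, false, 1)]),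
   ([1, 1, 1, 0], [(2, false, 0), (6, false, 0)], [(1, false, 2), (1, false, 1), (1, false, 0), (4, false, 2), (12, false, 4), (11, false, 5), (4, false, 4), (4, false, 3), (2, false, 1), (8, false, 1), (12, false, 3), (8, false, 2), (14, false, 4), (8, false, 3), (5, false, 1)]),
   ([2, 0, 0, 0], [(3, false, 0), (6, false, 2), (3, false, 1), (6, false, 4), (6, false, 3), (3, false, 2), (0, false, 0), (12, false, 1), (12, false, 0), (13, false, 2), (13, false, 1), (13, false, 3), (13, false, 2), (13, false, 4), (13, false, 3), (9, false, 1)], [(0, false, 1)]),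
   ([2, 1, 1, 1], [(4, false, 0), (11, false, 2), (4, false, 1), (11, false, 4), (11, false, 3), (4, false, 2), (2, false, 0), (8, false, 0), (14, false, 2)], [(2, false, 1)]),
   ([2, 2, 2, 0], [(5, false, 0)], [(3, false, 2), (3, false, 1), (3, false, 0), (8, false, 2), (8, false, 4), (8, false, 3), (5, false, 1), (9, false, 1)]),
   ([5, 0, 0, 0], [(15, false, 0), (15, false, 7), (15, false, 14), (10, false, 6), (6, false, 5), (6, false, 4), (3, false, 3), (3, false, 2), (1, false, 1), (8, false, 5), (5, false, 3), (9, false, 3), (11, false, 4), (7, false, 3), (12, false, 5), (8, false, 4), (12, false, 6), (8, false, 5), (13, false, 7), (13, false, 8), (9, false, 6), (10, false, 7), (10, false, 6), (3, false, 5), (3, false, 4), (1, false, 3), (1, false, 2), (0, false, 0), (11, false, 1), (11, false, 0), (12, false, 2), (12, false, 1), (11, false, 3), (11, false, 2), (4, false, 1), (14, false, 3), (5, false, 2), (8, false,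 2), (11, false, 6), (11, false, 5), (7, false, 4), (7, false, 3), (4, false, 2), (2, false, 0), (8, false, 0), (13, false, 2), (13, false, 3), (9, false, 1), (14, false, 1), (5, false, 0)], [(0, false, 1), (19, false, 0), (19, false, 3), (13, false, 2), (13, false, 1), (14, false, 2)]),
   ([5, 1, 0], [(16, false, 0), (15, false, 5), (6, false, 4), (3, false, 3), (1, false, 2), (0, false, 0), (11, false, 1), (11, false, 0), (12, false, 2), (12, false, 1), (12, false, 3), (12, false, 2), (13, false, 4), (13, false, 3), (13, false, 5), (13, false, 4), (11, false, 6), (11, false, 5), (7, false, 4), (7, false, 3), (4, false, 2), (4, false, 1), (12, false, 3), (13, false, 5), (13, false, 4), (13, false, 6), (13, false, 5), (14, false, 6), (12, false, 6), (8, false, 5), (8, false, 4), (5, false, 2), (12, false, 4), (8, false, 3), (8, false, 2), (13, false, 5), (9, false, 3), (13, false, 3)], [(1, false, 1), (15, false, 0), (16,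 false, 7), (17, false, 12), (10, false, 6), (6, false, 5), (6, false, 4), (3, false, 3), (3, false, 2), (1, false, 1), (8, false, 5), (5, false, 3), (9, false, 3), (10, false, 4), (6, false, 3), (1, false, 2), (0, false, 0), (11, false, 1), (11, false, 0), (12, false, 2), (12, false, 1), (13, false, 3), (13, false, 2), (14, false, 3), (7, false, 2), (4, false, 1), (13, false, 3), (12, false, 4), (8, false, 3), (13, false, 5), (12, false, 6), (8, false, 5), (8, false, 4), (5, false, 2), (12, false, 4), (8, false, 3), (8, false, 2), (13, false, 5), (9, false, 3), (13, false, 3)]),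
   ([5, 1, 1, 1], [(16, false, 0), (16, false, 5), (16, false, 10), (6, false, 4), (3, false, 3), (1, false, 2), (0, false, 0), (11, false, 1), (11, false, 0), (12, false, 2), (12, false, 1), (12, false, 3), (12, false, 2), (13, false, 4), (13, false, 3), (13, false, 5), (13, false, 4), (10, false, 6), (10, false, 5), (6, false, 4), (6, false, 3), (3, false, 2), (3, false, 1), (1, false, 0), (8, false, 4), (5, false, 2), (9, false, 2), (11, false, 4), (11, false, 3), (7, false, 2), (12, false, 5), (12, false, 4), (8, false, 3), (13, false, 6), (13, false, 5), (10, false, 7), (10, false, 6), (6, false, 5), (6, false, 4), (3, false, 3), (1, false, 2), (1, false, 1), (4, false, 3), (12, false, 5), (12, false, 6), (5, false, 4), (13, false, 4), (13, false, 5), (13, false, 6), (9, false, 4), (14, false, 4), (1, false, 3), (1, false, 2), (0, false, 0), (11, false, 1), (11, false, 0), (12, false, 2), (12, false, 1), (11, false,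 3), (11, false, 2), (4, false, 1), (14, false, 3), (4, false, 3), (4, false, 2), (2, false, 0), (8, false, 0), (12, false, 2), (8, false, 1), (12, false, 4), (12, false, 3), (8, false, 2), (5, false, 0), (13, false, 2), (13, false, 1)], [(2, false, 1), (18, false, 0)]),
   ([5, 2, 0], [(17, false, 0), (15, false, 5), (10, false, 4), (6, false, 3), (6, false, 2), (3, false, 1), (3, false, 0), (8, false, 2), (9, false, 3), (11, false, 4), (7, false, 3), (4, false, 2), (4, false, 1), (12, false, 3), (13, false, 5), (13, false, 4), (14, false, 5), (8, false, 4), (5, false, 2), (8, false, 2), (9, false, 3)], [(3, false, 1), (15, false, 0), (17, false, 7), (18, false, 12), (12, false, 6), (8, false, 5), (8, false, 4), (5, false, 2), (12, false, 4), (8, false, 3), (8, false, 2), (13, false, 5), (9, false, 3), (13, false, 3), (13, false, 5), (13, false, 4), (13, false, 6), (13, false, 5), (9, false, 3), (14, false, 3)]),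
   ([5, 2, 1], [(17, false, 0), (16, false, 5), (10, false, 4), (6, false, 3), (6, false, 2), (3, false, 1), (3, false, 0), (8, false, 2), (9, false, 3), (10, false, 4), (6, false, 3), (3, false, 2), (3, false, 1), (8, false, 3), (9, false, 4), (11, false, 4), (4, false, 3), (4, false, 2), (12, false, 4), (14, false, 5), (5, false, 3)], [(4, false, 1), (16, false, 0), (17, false, 5), (19, false, 10), (8, false, 4), (8, false, 5), (5, false, 3), (9, false, 3), (13, false, 3), (14, false, 4)]),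
   ([5, 2, 2, 2], [(17, false, 0), (17, false, 5), (17, false, 10), (12, false, 4), (8, false, 3), (8, false, 2), (5, false, 0), (12, false, 2), (8, false, 1), (8, false, 0), (13, false, 3), (9, false, 1), (13, false, 1), (12, false, 3), (12, false, 2), (8, false, 1), (12, false, 4), (12, false, 3), (8, false, 2), (5, false, 0), (13, false, 2), (13, false, 1), (13, false, 3), (13, false, 2), (9, false, 0), (14, false, 0)], [(5, false, 1)]),
   ([5, 3, 0], [(18, false, 0), (15, false, 4), (10, false, 3), (10, false, 2), (6, false, 1), (6, false, 0), (11, false, 4), (11, false, 3), (7, false, 2), (7, false, 1), (12, false, 5), (12, false, 4), (8, false, 3), (8, false, 2), (12, false, 6), (12, false, 5), (8, false, 4), (8, false, 3), (13, false, 7), (13, false, 6), (9, false, 4), (13, false, 5), (13, false, 4), (14, false, 5)], [(6, false, 1), (15, false, 0), (18, false, 7), (13, false, 6), (9, false, 4), (13, false, 4), (14,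 false, 5)]),
   ([5, 3, 1], [(18, false, 0), (16, false, 4), (10, false, 3), (10, false, 2), (6, false, 1), (6, false, 0), (10, false, 4), (10, false, 3), (6, false, 2), (6, false, 1), (11, false, 5), (11, false, 4), (7, false, 3), (7, false, 2), (12, false, 6), (12, false, 5), (8, false, 4), (8, false, 3), (13, false, 7), (13, false, 6), (9, false, 4)], [(7, false, 1), (16, false, 0), (18, false, 5), (9, false, 4)]),
   ([5, 3, 2], [(18, false, 0), (17, false, 4), (12, false, 3), (12, false, 2), (8, false, 1), (8, false, 0), (12, false, 4), (12, false, 3), (8, false, 2), (8, false, 1), (13, false, 5), (13, false, 4), (9, false, 2), (13, false, 3), (13, false, 2), (14, false, 3)], [(8, false, 1), (17, false, 0), (18, false, 5), (13, false, 4), (9, false, 2), (13, false, 2), (14, false, 3)]),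
   ([5, 3, 3, 3], [(18, false, 0), (18, false, 4), (18, false, 8), (13, false, 3), (13, false, 2), (9, false, 0), (13, false, 1), (13, false, 0), (14, false, 1), (13, false, 1), (13, false, 2), (9, false, 0), (14, false, 0)], [(9, false, 1)]),
   ([5, 4, 0], [(19, false, 0), (15, false, 3), (10, false, 2), (10, false, 1), (6, false, 0), (11, false, 3), (11, false, 2), (7, false, 1), (12, false, 4), (12, false, 3), (8, false, 2), (12, false, 5), (12, false, 4), (8, false, 3), (13, false, 6), (13, false, 5), (13, false, 7), (13, false, 6), (9, false, 4), (14, false, 4)], [(10, false, 1), (15, false, 0), (19, false, 7), (13, false, 6), (9, false, 4), (14, false, 4)]),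
   ([5, 4, 1], [(19, false, 0), (16, false, 3), (10, false, 2), (10, false, 1), (6, false, 0), (10, false, 3), (10, false, 2), (6, false, 1), (11, false, 4), (11, false, 3), (7, false, 2), (12, false, 5), (12, false, 4), (8, false, 3), (13, false, 6), (13, false, 5)], [(11, false, 1), (16, false, 0), (19, false, 5)]),
   ([5, 4, 2], [(19, false, 0), (17, false, 3), (12, false, 2), (12, false, 1), (8, false, 0), (12, false, 3), (12, false, 2), (8, false, 1), (13, false, 4), (13, false, 3), (13, false, 5), (13, false, 4), (9, false, 2), (14, false, 2)], [(12, false, 1), (17, false, 0), (19, false, 5), (13, false, 4), (9, false, 2), (14, false, 2)]),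
   ([5, 4, 3], [(19, false, 0), (18, false, 3), (13, false, 2), (13, false, 1), (13, false, 3), (13, false, 2), (9, false, 0), (14, false, 0)], [(13, false, 1), (18, false, 0), (19, false, 4), (13, false, 3), (13, false, 2), (9, false, 0), (14, false, 0)]),
   ([5, 4, 4, 4], [(19, false, 0), (19, false, 3), (19, false, 6), (13, false, 2), (13, false, 1), (14, false, 2), (13, false, 2), (9, false, 0), (14, false, 0)], [(14, false, 1)])]
  D := [[],
   [],
   [0, 1, 0, 0, 0, 0, 0, 0, 0, 0, 0, 0, 0, 0, 0],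
   [0, 0, 0, 1, 0, 0, 0, 0, 0, 0, 0, 0, 0, 0, 0],
   [0, 0, 0, 0, 1, 0, 0, 0, 0, 0, 0, 0, 0, 0, 0]]
  phi := [1, 0, 0, 0, 7, 0, 0, 0, 0, 0, 0, 0, 0, 0, 0, 0, 0, 0, 0, 0]
  sol := [(1, []),
   (0, []),
   (2, [(0, 2), (2, 2), (5, 2), (6, 2), (7, 2), (10, 1), (12, 2), (13, 1), (14, 1), (16, 2), (17, 1), (18, 1)]),
   (0, []),
   (0, []),
   (0, [(5, 2), (6, 1), (7, 1), (8, 1)]),
   (1, [(2, 2), (5, 1), (6, 1), (8, 2), (12, 1), (13, 2), (16, 1), (17, 1)]),
   (0, [(0, 1), (2, 1), (16, 2), (17, 1)]),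
   (0, [(2, 1), (5, 2), (6, 2), (7, 1), (8, 2), (16, 1), (17, 1), (18, 2)]),
   (0, [(2, 1), (7, 1), (18, 1)]),
   (0, [(0, 2), (2, 1), (5, 2), (6, 2), (7, 1), (8, 2), (17, 2)]),
   (1, [(2, 1), (5, 1), (6, 1), (8, 2), (12, 1), (13, 2), (16, 2), (17, 2)]),
   (0, [(2, 1), (18, 1)]),
   (0, [(2, 1)]),
   (0, [(2, 2), (5, 1), (6, 1), (7, 2), (8, 2), (16, 2), (17, 2), (18, 1)])]
  nf := [[], [0], [0, 0], [1], [0, 1], [0, 0, 1], [1, 1], [0, 1, 1], [0, 0, 1, 1], [2], [0, 2], [0, 0, 2], [1, 2], [0, 1, 2], [0, 0, 1, 2], [1, 1, 2], [0, 1, 1, 2], [0, 0, 1, 1, 2], [2, 2], [0, 2, 2], [0, 0, 2, 2], [1, 2, 2], [0, 1, 2, 2], [0, 0, 1, 2, 2], [1, 1, 2, 2], [0, 1, 1, 2, 2], [0, 0, 1, 1, 2, 2], [3], [0, 3], [0, 0, 3], [1, 3], [0, 1, 3], [0, 0, 1, 3], [1, 1, 3], [0, 1, 1, 3], [0, 0, 1, 1, 3], [2, 3], [0, 2, 3], [0, 0, 2, 3], [1, 2, 3], [0, 1, 2, 3], [0, 0, 1, 2, 3], [1, 1, 2, 3], [0, 1, 1, 2, 3], [0, 0, 1, 1, 2, 3], [2, 2, 3], [0, 2, 2, 3],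 [0, 0, 2, 2, 3], [1, 2, 2, 3], [0, 1, 2, 2, 3], [0, 0, 1, 2, 2, 3], [1, 1, 2, 2, 3], [0, 1, 1, 2, 2, 3], [0, 0, 1, 1, 2, 2, 3], [3, 3], [0, 3, 3], [0, 0, 3, 3], [1, 3, 3], [0, 1, 3, 3], [0, 0, 1, 3, 3], [1, 1, 3, 3], [0, 1, 1, 3, 3], [0, 0, 1, 1, 3, 3], [2, 3, 3], [0, 2, 3, 3], [0, 0, 2, 3, 3], [1, 2, 3, 3], [0, 1, 2, 3, 3], [0, 0, 1, 2, 3, 3], [1, 1, 2, 3, 3], [0, 1, 1, 2, 3, 3], [0, 0, 1, 1, 2, 3, 3], [2, 2, 3, 3], [0, 2, 2, 3, 3], [0, 0, 2, 2, 3, 3], [1, 2, 2, 3, 3], [0, 1, 2, 2, 3, 3], [0, 0, 1, 2, 2, 3, 3], [1, 1, 2, 2, 3, 3], [0, 1, 1, 2, 2, 3, 3], [0, 0, 1, 1, 2, 2, 3, 3], [4], [0, 4], [0, 0, 4], [1, 4], [0, 1, 4], [0, 0, 1, 4], [1, 1, 4], [0, 1, 1, 4], [0, 0, 1, 1, 4], [2, 4], [0, 2, 4], [0, 0, 2, 4], [1, 2, 4], [0, 1, 2, 4], [0, 0, 1, 2, 4], [1, 1, 2, 4], [0, 1, 1, 2, 4], [0, 0, 1, 1, 2, 4], [2, 2, 4], [0, 2, 2, 4], [0, 0, 2, 2, 4], [1, 2, 2, 4], [0, 1, 2, 2, 4], [0, 0, 1, 2, 2, 4], [1, 1, 2, 2, 4], [0, 1, 1, 2,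 2, 4], [0, 0, 1, 1, 2, 2, 4], [3, 4], [0, 3, 4], [0, 0, 3, 4], [1, 3, 4], [0, 1, 3, 4], [0, 0, 1, 3, 4], [1, 1, 3, 4], [0, 1, 1, 3, 4], [0, 0, 1, 1, 3, 4], [2, 3, 4], [0, 2, 3, 4], [0, 0, 2, 3, 4], [1, 2, 3, 4], [0, 1, 2, 3, 4], [0, 0, 1, 2, 3, 4], [1, 1, 2, 3, 4], [0, 1, 1, 2, 3, 4], [0, 0, 1, 1, 2, 3, 4], [2, 2, 3, 4], [0, 2, 2, 3, 4], [0, 0, 2, 2, 3, 4], [1, 2, 2, 3, 4], [0, 1, 2, 2, 3, 4], [0, 0, 1, 2, 2, 3, 4], [1, 1, 2, 2, 3, 4], [0, 1, 1, 2, 2, 3, 4], [0, 0, 1, 1, 2, 2, 3, 4], [3, 3, 4], [0, 3, 3, 4], [0, 0, 3, 3, 4], [1, 3, 3, 4], [0, 1, 3, 3, 4], [0, 0, 1, 3, 3, 4], [1, 1, 3, 3, 4], [0, 1, 1, 3, 3, 4], [0, 0, 1, 1, 3, 3, 4], [2, 3, 3, 4], [0, 2, 3, 3, 4], [0, 0, 2, 3, 3, 4], [1, 2, 3, 3, 4], [0, 1, 2, 3, 3, 4], [0, 0, 1, 2, 3, 3, 4], [1, 1, 2, 3, 3, 4], [0, 1, 1, 2, 3, 3, 4], [0, 0, 1, 1, 2, 3, 3, 4], [2, 2, 3, 3, 4], [0, 2, 2, 3, 3, 4], [0, 0, 2, 2, 3, 3, 4], [1, 2, 2, 3, 3, 4], [0, 1, 2, 2, 3, 3, 4], [0, 0, 1,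 2, 2, 3, 3, 4], [1, 1, 2, 2, 3, 3, 4], [0, 1, 1, 2, 2, 3, 3, 4], [0, 0, 1, 1, 2, 2, 3, 3, 4], [4, 4], [0, 4, 4], [0, 0, 4, 4], [1, 4, 4], [0, 1, 4, 4], [0, 0, 1, 4, 4], [1, 1, 4, 4], [0, 1, 1, 4, 4], [0, 0, 1, 1, 4, 4], [2, 4, 4], [0, 2, 4, 4], [0, 0, 2, 4, 4], [1, 2, 4, 4], [0, 1, 2, 4, 4], [0, 0, 1, 2, 4, 4], [1, 1, 2, 4, 4], [0, 1, 1, 2, 4, 4], [0, 0, 1, 1, 2, 4, 4], [2, 2, 4, 4], [0, 2, 2, 4, 4], [0, 0, 2, 2, 4, 4], [1, 2, 2, 4, 4], [0, 1, 2, 2, 4, 4], [0, 0, 1, 2, 2, 4, 4], [1, 1, 2, 2, 4, 4], [0, 1, 1, 2, 2, 4, 4], [0, 0, 1, 1, 2, 2, 4, 4], [3, 4, 4], [0, 3, 4, 4], [0, 0, 3, 4, 4], [1, 3, 4, 4], [0, 1, 3, 4, 4], [0, 0, 1, 3, 4, 4], [1, 1, 3, 4, 4], [0, 1, 1, 3, 4, 4], [0, 0, 1, 1, 3, 4, 4], [2, 3, 4, 4], [0, 2, 3, 4, 4], [0, 0, 2, 3, 4, 4], [1, 2, 3, 4, 4], [0, 1, 2, 3, 4, 4], [0, 0, 1, 2, 3, 4, 4], [1, 1, 2, 3, 4, 4], [0, 1, 1, 2, 3, 4, 4], [0, 0, 1, 1, 2, 3, 4, 4], [2, 2, 3, 4, 4], [0, 2, 2, 3, 4, 4], [0, 0, 2, 2,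 3, 4, 4], [1, 2, 2, 3, 4, 4], [0, 1, 2, 2, 3, 4, 4], [0, 0, 1, 2, 2, 3, 4, 4], [1, 1, 2, 2, 3, 4, 4], [0, 1, 1, 2, 2, 3, 4, 4], [0, 0, 1, 1, 2, 2, 3, 4, 4], [3, 3, 4, 4], [0, 3, 3, 4, 4], [0, 0, 3, 3, 4, 4], [1, 3, 3, 4, 4], [0, 1, 3, 3, 4, 4], [0, 0, 1, 3, 3, 4, 4], [1, 1, 3, 3, 4, 4], [0, 1, 1, 3, 3, 4, 4], [0, 0, 1, 1, 3, 3, 4, 4], [2, 3, 3, 4, 4], [0, 2, 3, 3, 4, 4], [0, 0, 2, 3, 3, 4, 4], [1, 2, 3, 3, 4, 4], [0, 1, 2, 3, 3, 4, 4], [0, 0, 1, 2, 3, 3, 4, 4], [1, 1, 2, 3, 3, 4, 4], [0, 1, 1, 2, 3, 3, 4, 4], [0, 0, 1, 1, 2, 3, 3, 4, 4], [2, 2, 3, 3, 4, 4], [0, 2, 2, 3, 3, 4, 4], [0, 0, 2, 2, 3, 3, 4, 4], [1, 2, 2, 3, 3, 4, 4], [0, 1, 2, 2, 3, 3, 4, 4], [0, 0, 1, 2, 2, 3, 3, 4, 4], [1, 1, 2, 2, 3, 3, 4, 4], [0, 1, 1, 2, 2, 3, 3, 4, 4], [0, 0, 1, 1, 2, 2, 3, 3, 4, 4]]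

/-- The letters: code, representative and stabiliser part. -/
def lets3 : List (ℕ × ℕ × ℕ) :=
  [(0xc00008000040000400004000050000100001000, 2, 5005),
   (0x800004001000000c000040010000004000040010, 12, 5490),
   (0x10000300001000030000200003000010000300001, 0, 3005),
   (0x20000200002000030000300003000010000100001, 0, 3200),
   (0x20000300001000020000300001000020000300001, 0, 3058),
   (0x1000000100400000400040100000100400000001, 0, 5675)]

/-- Three times the form modulo nine. -/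
def nine : List (ℕ × ℕ) := [(4, 6), (5, 6), (6, 6), (7, 3), (8, 6), (12, 3), (13, 6), (17, 8), (18, 4), (20, 1), (22, 6), (24, 3)]

end CfsgLib.J3Mult
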