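import Mathlib.Data.List.Basic

set_option autoImplicit false

/-!
Elements of order nineteen and seventeen.
-/

namespace CfsgLib.J3Mult

/-- An element of order nineteen. -/
def ltX : ℕ × ℕ × ℕ := (0x1ff187909aad90d8f731064c1886baade3c6d7ad6, 12998, 2869)

/-- An element of order seventeen. -/
def ltY : ℕ × ℕ × ℕ := (0x6ae41fe016c648866c5d354954c6b0c97d7ef0dd, 7663, 878)

/-- The column of the projection to the fixed vectors of the second. -/
def projCol : ℕ := 0x1a839

/-- The row of the projection to the fixed vectors of the second. -/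
def projRow : ℕ := 0x1fc2d

/-- Pairs with products the two generators, elements of order nineteen. -/
def ltsX : List (ℕ × ℕ × ℕ) :=
  [(0x2f95743a0f1f72b8e3df1017fe69c68ad69769e21, 13263, 333),
   (0x2ed9f4a9163a7115a71a6dba2fe029d043f217b6b, 19076, 3622),
   (0x3d3306918b906a0088a71012ba4ec7e1f60fe388c, 19515, 5193),
   (0xd9d31efa0a72e512df589c5532d8190081da160c, 10044, 1032)]

/-- Pairs with products the two generators, elements of order seventeen. -/
def ltsY : List (ℕ × ℕ × ℕ) :=
  [(0x16edea90fac1c8507ef3d92ca45a4ac06513b4749, 16170, 1087),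
   (0x39ae9ed3708b813ed2711bb4e15941c39b581b782, 12357, 1991),
   (0x15dba95e40fcd71ba8c77251282b6840e3d4fb596, 20326, 5522),
   (0x28d2a5d48ef05a9a7b51cb5302fc1611bd9a65c1f, 13624, 3687)]

end CfsgLib.J3Mult
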