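import Cfsg.Agent.J3Mult.Mat
import Cfsg.Agent.J3Mult.Cosets
import Cfsg.Agent.J3Mult.Combine
import Cfsg.Agent.J3Mult.StabSort
import Cfsg.Agent.H29.ThreeJ.Main
import Cfsg.Agent.H29.ThreeJ.Data.Tabs

set_option autoImplicit false
set_option maxRecDepth 100000

/-!
The packed matrices in the triple cover, and its order.
-/

namespace CfsgLib.J3Mult

open Cfsg.Spor H29.ThreeJ Matrix

/-- The checked tables of base matrices. -/
noncomputable def wTabs : Tabs :=
  ⟨H29.ThreeJData.T, H29.ThreeJData.WA, H29.ThreeJData.WE, H29.ThreeJData.WD, H29.ThreeJData.WB,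
    H29.ThreeJData.WC, H29.ThreeJData.ordE, H29.ThreeJData.tabs_ok, H29.ThreeJData.words_ok,
    H29.ThreeJData.words'_ok, H29.ThreeJData.pows_ok⟩

/-- The codes of the base matrices are right. -/
def okBase : Bool := (List.range 6).all fun b => (List.range 9).all fun i => (List.range 9).all fun j =>
  Nat.beq (digB (rowN (baseCodes.getD b (0, 0, 0)).1 i) j) (cBase b (fz i) (fz j))

theorem base_ok : okBase = true := by decide +kernel

/-- The two generators and the other data are consistent. -/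
def okData : Bool :=
  Nat.beq (gens.getD 0 oneC) (mulC (baseCodes.getD 3 (0, 0, 0)).1 (baseCodes.getD 2 (0, 0, 0)).1) &&
  Nat.beq (gens.getD 1 oneC) (baseCodes.getD 4 (0, 0, 0)).1 &&
  (baseCodes.all fun q => Nat.blt q.2.1 23256 && Nat.blt q.2.2 6480 &&
    Nat.beq q.1 (mulC (rep q.2.1) (hEl q.2.2))) &&
  ((List.range 2).all fun k => Nat.beq (hGens.getD k oneC)
    (hEl (eH (fieldAt (bif Nat.beq (hGenSrc.getD k (0, 0)).1 0 then tblU else tblV) 28 (hGenSrc.getD k (0, 0)).2)))) &&
  ((List.range 2).all fun k => Nat.blt (hGenSrc.getD k (0, 0)).1 2 && Nat.blt (hGenSrc.getD k (0, 0)).2 23256) &&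
  ((List.range 2).all fun k => wf (hGens.getD k oneC)) && wf oneC && Nat.beq (rep 0) oneC &&
  Nat.beq (mulC (baseCodes.getD 0 (0, 0, 0)).1 (baseCodes.getD 2 (0, 0, 0)).1)
    (omC (mulC (baseCodes.getD 2 (0, 0, 0)).1 (baseCodes.getD 0 (0, 0, 0)).1))

theorem data_ok : okData = true := by decide +kernel

variable {F : Type} [Field F] [Fintype F] {ω : F} (hF : Fintype.card F = 4) (hω : ω ^ 2 + ω + 1 = 0)

variable (F ω) in
/-- The matrices of the cover. -/
noncomputable def mat : threeJ3 F ω →* Matrix F9 F9 F := (Units.coeHom _).comp (threeJ3 F ω).subtype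

omit [Fintype F] in
theorem mat_inj : Function.Injective (mat F ω) := fun _ _ e => Subtype.ext (Units.ext e)

variable (F ω) in
/-- The matrix is that of an element. -/
def Att (n : ℕ) : Prop := ∃ x : threeJ3 F ω, mat F ω x = toM ω n

include hF hω

theorem base_code {b : ℕ} (hb : b < 6) : baseMat F ω b = toM ω (baseCodes.getD b (0, 0, 0)).1 := by
  refine Matrix.ext fun i j => ?_
  have h := base_ok
  simp only [okBase, List.all_eq_true, List.mem_range, Nat.beq_eq] at h
  have h1 := h b hb (ix i) (ix_lt i) (ix j) (ix_lt j)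
  rw [fz_ix, fz_ix, digB_eq] at h1
  rw [baseMat_code, ← h1]
  rfl

theorem att_one : Att F ω oneC := ⟨1, by rw [map_one, toM_one hF hω]⟩

theorem att_mul {g h : ℕ} (hg : Att F ω g) (hh : Att F ω h) : Att F ω (mulC g h) := by
  obtain ⟨x, hx⟩ := hg
  obtain ⟨y, hy⟩ := hh
  exact ⟨x * y, by rw [map_mul, hx, hy, toM_mul hF hω]⟩

theorem att_base {b : ℕ} (hb : b < 5) : Att F ω (baseCodes.getD b (0, 0, 0)).1 := by
  obtain ⟨g, hg, e⟩ := base_mem hF hω wTabs hb
  exact ⟨⟨g, hg⟩, e.trans (base_code hF hω (by omega))⟩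

theorem att_gen {k : ℕ} (hk : k < 2) : Att F ω (gens.getD k oneC) := by
  have h := data_ok
  simp only [okData, Bool.and_eq_true, Nat.beq_eq] at h
  obtain ⟨⟨⟨⟨⟨⟨⟨⟨h1, h2⟩, -⟩, -⟩, -⟩, -⟩, -⟩, -⟩, -⟩ := h
  interval_cases k
  · rw [h1]; exact att_mul hF hω (att_base hF hω (by norm_num)) (att_base hF hω (by norm_num))
  · rw [h2]; exact att_base hF hω (by norm_num)

theorem att_rep : ∀ i, i < 23256 → Att F ω (rep i) := by
  intro i
  induction i using Nat.strong_induction_on with
  | _ i ih =>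
    intro hi
    rcases Nat.eq_zero_or_pos i with rfl | hp
    · rw [(parents_spec (k := 0) (by norm_num)).1]; exact att_one hF hω
    · obtain ⟨k, rfl⟩ : ∃ k, i = k + 1 := ⟨i - 1, by omega⟩
      obtain ⟨-, h1, h2⟩ := parents_spec (k := k) (by omega)
      rw [← h2]
      exact att_mul hF hω (att_gen hF hω (Nat.mod_lt _ (by norm_num))) (ih _ h1 (by omega))

theorem att_left {g r h : ℕ} (hg : Att F ω g) (hr : Att F ω r) {r' : ℕ} (hr' : Att F ω r')
    (e : mulC g r = mulC r' h) : Att F ω h := by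
  obtain ⟨x, hx⟩ := hg
  obtain ⟨y, hy⟩ := hr
  obtain ⟨z, hz⟩ := hr'
  refine ⟨z⁻¹ * (x * y), ?_⟩
  have h1 : mat F ω z⁻¹ * mat F ω z = 1 := by rw [← map_mul, inv_mul_cancel, map_one]
  rw [map_mul, map_mul, hx, hy, toM_mul hF hω, e, ← toM_mul hF hω, ← hz, ← mul_assoc, h1, one_mul]

theorem att_hGen {k : ℕ} (hk : k < 2) : Att F ω (hGens.getD k oneC) := by
  have h := data_ok
  simp only [okData, Bool.and_eq_true, Nat.beq_eq, List.all_eq_true, List.mem_range, Nat.blt_eq] at h
  obtain ⟨⟨⟨⟨⟨⟨-, h4⟩, h5⟩, -⟩, -⟩, -⟩, -⟩ := h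
  obtain ⟨h6, h7⟩ := h5 k hk
  rw [h4 k hk]
  generalize (hGenSrc.getD k (0, 0)).1 = t at h6 ⊢
  generalize (hGenSrc.getD k (0, 0)).2 = i at h7 ⊢
  have key : ∀ (g : ℕ) (T : List (List ℕ)), Att F ω g → okEntry g i (fieldAt T 28 i) = true →
      Att F ω (hEl (eH (fieldAt T 28 i))) := fun g T hg he => by
    simp only [okEntry, Bool.and_eq_true, Nat.blt_eq, Nat.beq_eq] at he
    exact att_left hF hω hg (att_rep hF hω i h7) (att_rep hF hω _ he.1.1) he.2
  interval_cases t
  · exact key _ tblU (att_gen hF hω (k := 0) (by norm_num)) (tblU_spec h7)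
  · exact key _ tblV (att_gen hF hω (k := 1) (by norm_num)) (tblV_spec h7)

theorem att_hEl : ∀ a, a < 6480 → Att F ω (hEl a) := by
  have h := stabParents_ok
  simp only [okStabParents, Bool.and_eq_true, List.all_eq_true, List.mem_range, Nat.beq_eq, Nat.blt_eq] at h
  intro a
  induction a using Nat.strong_induction_on with
  | _ a ih =>
    intro ha
    rcases Nat.eq_zero_or_pos a with rfl | hp
    · rw [h.1]; exact att_one hF hω
    · obtain ⟨k, rfl⟩ : ∃ k, a = k + 1 := ⟨a - 1, by omega⟩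
      obtain ⟨h1, h2⟩ := h.2 k (by omega)
      rw [← h2]
      exact att_mul hF hω (att_hGen hF hω (Nat.mod_lt _ (by norm_num))) (ih _ h1 (by omega))

omit hF hω in
theorem elk_exists : ∃ f : ℕ → threeJ3 F ω, ∀ n, Att F ω n → mat F ω (f n) = toM ω n := by
  classical
  exact ⟨fun n => if h : Att F ω n then h.choose else 1, fun n h => by
    simp only [dif_pos h]; exact h.choose_spec⟩

omit hF hω in
variable (F ω) in
/-- The element of a code, with its definition hidden. -/
noncomputable def elk : ℕ → threeJ3 F ω := (elk_exists (F := F) (ω := ω)).choose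

omit hF hω in
theorem mat_elk {n : ℕ} (h : Att F ω n) : mat F ω (elk F ω n) = toM ω n :=
  (elk_exists (F := F) (ω := ω)).choose_spec n h

theorem elk_mul {g h : ℕ} (hg : Att F ω g) (hh : Att F ω h) : elk F ω g * elk F ω h = elk F ω (mulC g h) :=
  mat_inj (by rw [map_mul, mat_elk hg, mat_elk hh, mat_elk (att_mul hF hω hg hh), toM_mul hF hω])

theorem elk_one : elk F ω oneC = 1 := mat_inj (by rw [mat_elk (att_one hF hω), map_one, toM_one hF hω])

/-- The stabiliser of the first line. -/
noncomputable abbrev stabH (F : Type) [Field F] [Fintype F] (ω : F) : Subgroup (threeJ3 F ω) :=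
  Subgroup.closure (Set.range fun k : Fin 2 => elk F ω (hGens.getD k.val oneC))

theorem hEl_mem : ∀ a, a < 6480 → elk F ω (hEl a) ∈ stabH F ω := by
  have h := stabParents_ok
  simp only [okStabParents, Bool.and_eq_true, List.all_eq_true, List.mem_range, Nat.beq_eq, Nat.blt_eq] at h
  intro a
  induction a using Nat.strong_induction_on with
  | _ a ih =>
    intro ha
    rcases Nat.eq_zero_or_pos a with rfl | hp
    · rw [h.1, elk_one hF hω]; exact one_mem _
    · obtain ⟨k, rfl⟩ : ∃ k, a = k + 1 := ⟨a - 1, by omega⟩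
      obtain ⟨h1, h2⟩ := h.2 k (by omega)
      have hm : hParent (k + 1) % 2 < 2 := Nat.mod_lt _ (by norm_num)
      rw [← h2, ← elk_mul hF hω (att_hGen hF hω hm) (att_hEl hF hω _ (by omega))]
      exact mul_mem (Subgroup.subset_closure ⟨⟨_, hm⟩, rfl⟩) (ih _ h1 (by omega))

omit hF hω in
theorem finite_cover : Finite (threeJ3 F ω) := inferInstance

theorem stab_listed {x : threeJ3 F ω} (hx : x ∈ stabH F ω) : ∃ a : Fin 6480, elk F ω (hEl a.val) = x := by
  refine closure_subset_range (fun a : Fin 6480 => elk F ω (hEl a.val)) _ ⟨0, by norm_num⟩ ?_ ?_ x hx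
  · have h := stabParents_ok
    simp only [okStabParents, Bool.and_eq_true, Nat.beq_eq] at h
    rw [h.1, elk_one hF hω]
  · rintro g ⟨k, rfl⟩ a
    have key : ∀ (c : ℕ) (T : List (List ℕ)), Att F ω c → okStabMul c T = true →
        ∃ b : Fin 6480, elk F ω c * elk F ω (hEl a.val) = elk F ω (hEl b.val) := fun c T hc ok => by
      simp only [okStabMul, List.all_eq_true, List.mem_range, Bool.and_eq_true, Nat.blt_eq, Nat.beq_eq] at ok
      obtain ⟨h1, h2⟩ := ok a a.2
      exact ⟨⟨_, h1⟩, by rw [elk_mul hF hω hc (att_hEl hF hω a a.2), h2]⟩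
    fin_cases k
    · exact key _ hMulA (att_hGen hF hω (k := 0) (by norm_num)) stabMulA_ok
    · exact key _ hMulB (att_hGen hF hω (k := 1) (by norm_num)) stabMulB_ok

theorem wf_hEl {a : ℕ} (ha : a < 6480) : wf (hEl a) = true := by
  have h := stabParents_ok
  simp only [okStabParents, Bool.and_eq_true, List.all_eq_true, List.mem_range, Nat.beq_eq, Nat.blt_eq] at h
  rcases Nat.eq_zero_or_pos a with rfl | hp
  · have hd := data_ok
    simp only [okData, Bool.and_eq_true] at hd
    rw [h.1]; exact hd.1.1.2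
  · obtain ⟨k, rfl⟩ : ∃ k, a = k + 1 := ⟨a - 1, by omega⟩
    rw [← (h.2 k (by omega)).2]; exact wf_mulC _ _

theorem card_stab : Nat.card (stabH F ω) = 6480 := by
  let f : Fin 6480 → stabH F ω := fun a => ⟨_, hEl_mem hF hω a.val a.2⟩
  have hf : Function.Bijective f := by
    refine ⟨fun a b e => ?_, fun x => ?_⟩
    · have e1 : hEl a.val = hEl b.val := toM_inj hF hω (wf_hEl hF hω a.2) (wf_hEl hF hω b.2) (by
        rw [← mat_elk (att_hEl hF hω a a.2), ← mat_elk (att_hEl hF hω b b.2)]
        exact congrArg (fun y : stabH F ω => mat F ω y.1) e)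
      have h := stabDistinct_ok
      simp only [okStabDistinct, List.all_eq_true, List.mem_range, Bool.and_eq_true, Bool.or_eq_true,
        Nat.blt_eq, Nat.beq_eq] at h
      have hmono : ∀ i j, i < j → j < 6480 → hEl (fieldAt hIdx 13 i) < hEl (fieldAt hIdx 13 j) := by
        intro i j hij hj
        induction j with
        | zero => omega
        | succ j ih =>
          have h1 : hEl (fieldAt hIdx 13 j) < hEl (fieldAt hIdx 13 (j + 1)) :=
            (h j (by omega)).2.resolve_left (by omega)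
          rcases Nat.lt_succ_iff_lt_or_eq.1 hij with h2 | h2
          · exact (ih h2 (by omega)).trans h1
          · exact h2 ▸ h1
      obtain ⟨⟨ha1, ha2⟩, -⟩ := h a a.2
      obtain ⟨⟨hb1, hb2⟩, -⟩ := h b b.2
      refine Fin.ext ?_
      rcases lt_trichotomy (fieldAt hRank 13 a.val) (fieldAt hRank 13 b.val) with h3 | h3 | h3
      · have := hmono _ _ h3 hb1; rw [ha2, hb2, e1] at this; exact absurd this (lt_irrefl _)
      · rw [← ha2, h3, hb2]
      · have := hmono _ _ h3 ha1; rw [ha2, hb2, e1] at this; exact absurd this (lt_irrefl _)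
    · obtain ⟨a, ha⟩ := stab_listed hF hω x.2
      exact ⟨a, Subtype.ext ha⟩
  rw [← Nat.card_eq_of_bijective f hf, Nat.card_fin]

end CfsgLib.J3Mult
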