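import Cfsg.Agent.J3Mult.InvCode

set_option autoImplicit false
set_option maxRecDepth 100000
set_option Elab.async false

/-!
Kernel evaluation of checks on the involutions.
-/

namespace CfsgLib.J3Mult

theorem invLead0_ok : okInvLead 0 171 = true := by decide +kernel

theorem invLead1_ok : okInvLead 171 171 = true := by decide +kernel

theorem invLead2_ok : okInvLead 342 171 = true := by decide +kernel

theorem invLead3_ok : okInvLead 513 171 = true := by decide +kernel

theorem invLead4_ok : okInvLead 684 171 = true := by decide +kernel

theorem invLead5_ok : okInvLead 855 171 = true := by decide +kernel

theorem invLead6_ok : okInvLead 1026 171 = true := by decide +kernel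

theorem invLead7_ok : okInvLead 1197 171 = true := by decide +kernel

theorem invLead8_ok : okInvLead 1368 171 = true := by decide +kernel

theorem invDistinct0_ok : okInvDistinct 0 2907 = true := by decide +kernel

theorem invDistinct1_ok : okInvDistinct 2907 2907 = true := by decide +kernel

theorem invDistinct2_ok : okInvDistinct 5814 2907 = true := by decide +kernel

theorem invDistinct3_ok : okInvDistinct 8721 2907 = true := by decide +kernel

theorem invDistinct4_ok : okInvDistinct 11628 2907 = true := by decide +kernel

theorem invDistinct5_ok : okInvDistinct 14535 2907 = true := by decide +kernel

theorem invDistinct6_ok : okInvDistinct 17442 2907 = true := by decide +kernel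

theorem invDistinct7_ok : okInvDistinct 20349 2907 = true := by decide +kernel

theorem invDistinct8_ok : okInvDistinct 23256 2907 = true := by decide +kernel

end CfsgLib.J3Mult
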