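import Cfsg.Agent.J3Mult.Code
import Cfsg.Agent.H29.ThreeJ.Bridge

set_option autoImplicit false
set_option maxRecDepth 100000

/-!
The packed product is the product of matrices over four elements.
-/

namespace CfsgLib.J3Mult

open Cfsg.Spor H29.ThreeJ Matrix

theorem digB_eq (v j : ℕ) : digB v j = dig v j := by
  rw [digB, dig, Nat.shiftRight_eq_div_pow, show (3 : ℕ) = 2 ^ 2 - 1 by norm_num, Nat.and_two_pow_sub_one_eq_mod]

theorem dig_bits (v j : ℕ) : dig v j = (v.testBit (2 * j)).toNat + 2 * (v.testBit (2 * j + 1)).toNat := by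
  rw [dig, Nat.toNat_testBit, Nat.toNat_testBit, pow_succ, ← Nat.div_div_eq_div_mul]
  omega

theorem loBits_bit : ∀ j < 9, loBits.testBit (2 * j) = true ∧ loBits.testBit (2 * j + 1) = false := by
  decide

theorem dig_omV (v : ℕ) {j : ℕ} (hj : j < 9) : dig (omV v) j = mul4 2 (dig v j) := by
  obtain ⟨h0, h1⟩ := loBits_bit j hj
  have e0 : (omV v).testBit (2 * j) = v.testBit (2 * j + 1) := by
    rw [omV, Nat.testBit_or, Nat.testBit_shiftLeft, Nat.testBit_and, Nat.testBit_shiftRight, h0, Bool.and_true,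
      show 1 + 2 * j = 2 * j + 1 by ring]
    rcases Nat.eq_zero_or_pos j with rfl | hp
    · simp
    · rw [show (2 * j - 1) = 2 * (j - 1) + 1 by omega]
      simp [(loBits_bit (j - 1) (by omega)).2]
  have e1 : (omV v).testBit (2 * j + 1) = (v.testBit (2 * j) ^^ v.testBit (2 * j + 1)) := by
    rw [omV, Nat.testBit_or, Nat.testBit_shiftLeft, Nat.testBit_and, Nat.testBit_shiftRight, h1,
      decide_eq_true (show 2 * j + 1 ≥ 1 by omega), Bool.and_false, Bool.false_or, Bool.true_and,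
      Nat.add_sub_cancel, Nat.testBit_xor, Nat.testBit_and, Nat.testBit_and, Nat.testBit_shiftRight, h0,
      Bool.and_true, Bool.and_true, show 1 + 2 * j = 2 * j + 1 by ring]
  rw [dig_bits, e0, e1, dig_bits v]
  cases v.testBit (2 * j) <;> cases v.testBit (2 * j + 1) <;> rfl

theorem omV_lt (v : ℕ) : omV v < 2 ^ 18 := by
  have hlo : ∀ x : ℕ, x &&& loBits < 2 ^ 17 := fun x =>
    lt_of_le_of_lt Nat.and_le_right (by norm_num [loBits])
  rw [omV]
  refine Nat.or_lt_two_pow ((hlo _).trans (by norm_num)) ?_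
  rw [Nat.shiftLeft_eq]
  have := Nat.xor_lt_two_pow (hlo v) (hlo (v >>> 1))
  omega

theorem rowN_eq (n i : ℕ) : rowN n i = (n >>> (18 * i)) % 2 ^ 18 := by
  rw [rowN, show (262143 : ℕ) = 2 ^ 18 - 1 by norm_num, Nat.and_two_pow_sub_one_eq_mod]

theorem rowN_lt (n i : ℕ) : rowN n i < 2 ^ 18 := by
  rw [rowN_eq]; exact Nat.mod_lt _ (by norm_num)

theorem selV_lt (d : ℕ) {r : ℕ} (hr : r < 2 ^ 18) : selV d r < 2 ^ 18 := by
  rw [selV]
  cases Nat.beq d 0 <;> cases Nat.beq d 1 <;> cases Nat.beq d 2 <;> simp only [cond] <;>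
    first | exact hr | exact omV_lt r | exact Nat.xor_lt_two_pow hr (omV_lt r) | norm_num

theorem accRows_lt (v h : ℕ) : ∀ n, accRows v h n < 2 ^ 18
  | 0 => by rw [accRows]; norm_num
  | n + 1 => by rw [accRows]; exact Nat.xor_lt_two_pow (accRows_lt v h n) (selV_lt _ (rowN_lt _ _))

theorem rowX_lt (v h : ℕ) : rowX v h < 2 ^ 18 := by rw [rowX]; exact accRows_lt v h _

theorem asm_lt (f : ℕ → ℕ) (hf : ∀ i, f i < 2 ^ 18) : ∀ n, asm f n < 2 ^ (18 * n)
  | 0 => by rw [asm]; norm_num
  | n + 1 => by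
    rw [asm]
    refine Nat.or_lt_two_pow ((asm_lt f hf n).trans_le (Nat.pow_le_pow_right (by norm_num) (by omega))) ?_
    rw [Nat.shiftLeft_eq, show 18 * (n + 1) = 18 + 18 * n by ring, pow_add]
    exact Nat.mul_lt_mul_of_pos_right (hf n) (pow_pos (by norm_num) _)

theorem asm_row (f : ℕ → ℕ) (hf : ∀ i, f i < 2 ^ 18) : ∀ n i, i < n → rowN (asm f n) i = f i
  | 0, i, hi => absurd hi (Nat.not_lt_zero i)
  | n + 1, i, hi => by
    refine Nat.eq_of_testBit_eq fun b => ?_
    rw [rowN_eq, Nat.testBit_mod_two_pow, Nat.testBit_shiftRight]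
    rcases Nat.lt_or_ge b 18 with hb | hb
    · rw [decide_eq_true hb, Bool.true_and, asm, Nat.testBit_or, Nat.testBit_shiftLeft]
      rcases Nat.lt_succ_iff_lt_or_eq.1 hi with h | rfl
      · rw [decide_eq_false (show ¬ 18 * i + b ≥ 18 * n by omega), Bool.false_and, Bool.or_false]
        have h2 := congrArg (fun x => Nat.testBit x b) (asm_row f hf n i h)
        simp only [rowN_eq, Nat.testBit_mod_two_pow, Nat.testBit_shiftRight, decide_eq_true hb, Bool.true_and] at h2
        exact h2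
      · rw [decide_eq_true (show 18 * i + b ≥ 18 * i by omega), Bool.true_and,
          Nat.testBit_lt_two_pow ((asm_lt f hf i).trans_le (Nat.pow_le_pow_right (by norm_num) (by omega))),
          Bool.false_or, Nat.add_sub_cancel_left]
    · rw [decide_eq_false (not_lt.2 hb), Bool.false_and,
        Nat.testBit_lt_two_pow ((hf i).trans_le (Nat.pow_le_pow_right (by norm_num) hb))]

theorem mulC_row (g h : ℕ) {i : ℕ} (hi : i < 9) : rowN (mulC g h) i = rowX (rowN g i) h := by
  rw [mulC]; exact asm_row (fun i => rowX (rowN g i) h) (fun _ => rowX_lt _ _) _ _ hi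

theorem omC_row (g : ℕ) {i : ℕ} (hi : i < 9) : rowN (omC g) i = omV (rowN g i) := by
  rw [omC]; exact asm_row (fun i => omV (rowN g i)) (fun _ => omV_lt _) _ _ hi

theorem oneC_row : ∀ i < 9, rowN oneC i = 4 ^ i := by decide +kernel

/-- The code is that of a matrix. -/
def wf (n : ℕ) : Bool := Nat.blt n (2 ^ 162)

theorem wf_mulC (g h : ℕ) : wf (mulC g h) = true := by
  rw [wf, Nat.blt_eq, mulC]; exact asm_lt _ (fun _ => rowX_lt _ _) 9

theorem wf_omC (g : ℕ) : wf (omC g) = true := by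
  rw [wf, Nat.blt_eq, omC]; exact asm_lt _ (fun _ => omV_lt _) 9

variable {F : Type} [Field F] [Fintype F] {ω : F} (hF : Fintype.card F = 4) (hω : ω ^ 2 + ω + 1 = 0)

include hF hω

theorem kv_omV (v : ℕ) : κv ω (omV v) = ω • κv ω v := by
  funext z
  simp only [κv, Pi.smul_apply, smul_eq_mul]
  rw [dig_omV v (ix_lt z), κ_mul hF hω (by norm_num) (dig_lt _ _)]
  simp [κ]

theorem kv_selV {d : ℕ} (hd : d < 4) (r : ℕ) : κv ω (selV d r) = κ ω d • κv ω r := by
  interval_cases d <;> simp only [selV, κ, Nat.beq_eq, cond] <;>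
    first
    | (norm_num; rfl)
    | norm_num
    | skip
  · funext z; simp [κv, dig, κ]
  · exact kv_omV hF hω r
  · rw [κv_xor hF hω, kv_omV hF hω]
    have h2 : ω ^ 2 = 1 + ω := by linear_combination hω - (1 + ω) * two_eq_zero hF
    rw [h2, add_smul, one_smul]

theorem accRows_spec (v h : ℕ) : ∀ n,
    κv ω (accRows v h n) = ∑ k ∈ Finset.range n, κ ω (dig v k) • κv ω (rowN h k)
  | 0 => by rw [accRows, Finset.range_zero, Finset.sum_empty]; funext z; simp [κv, dig, κ]
  | n + 1 => by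
    rw [accRows, κv_xor hF hω, accRows_spec v h n, Finset.sum_range_succ, digB_eq, kv_selV hF hω (dig_lt _ _)]

omit hF hω in
/-- The matrix of a code. -/
def toM (ω : F) (n : ℕ) : Matrix F9 F9 F := Matrix.of fun i j => κv ω (rowN n (ix i)) j

omit hF hω [Fintype F] in
theorem sum_ix {M : Type*} [AddCommMonoid M] (f : ℕ → M) : ∑ z : F9, f (ix z) = ∑ k ∈ Finset.range 9, f k := by
  refine Finset.sum_nbij' ix fz (fun z _ => Finset.mem_range.2 (ix_lt z)) (fun _ _ => Finset.mem_univ _)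
    (fun z _ => fz_ix z) (fun k hk => ix_fz (Finset.mem_range.1 hk)) (fun _ _ => rfl)

theorem kv_rowX (v h : ℕ) : κv ω (rowX v h) = κv ω v ᵥ* toM ω h := by
  rw [rowX, accRows_spec hF hω]
  funext z
  rw [Finset.sum_apply, ← sum_ix (fun k => (κ ω (dig v k) • κv ω (rowN h k)) z)]
  rfl

theorem toM_mul (g h : ℕ) : toM ω g * toM ω h = toM ω (mulC g h) := by
  refine Matrix.ext fun i j => ?_
  have e : toM ω (mulC g h) i j = κv ω (rowX (rowN g (ix i)) h) j := by
    show κv ω (rowN (mulC g h) (ix i)) j = _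
    rw [mulC_row g h (ix_lt i)]
  rw [e, kv_rowX hF hω]
  rfl

theorem toM_omC (g : ℕ) : toM ω (omC g) = ω • toM ω g := by
  refine Matrix.ext fun i j => ?_
  show κv ω (rowN (omC g) (ix i)) j = _
  rw [omC_row g (ix_lt i), kv_omV hF hω]
  rfl

theorem toM_one : toM ω oneC = 1 := by
  refine Matrix.ext fun i j => ?_
  show κv ω (rowN oneC (ix i)) j = _
  rw [oneC_row _ (ix_lt i)]
  have h : ∀ z y : F9, dig (4 ^ ix z) (ix y) = if z = y then 1 else 0 := by decide
  rw [κv, h, Matrix.one_apply]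
  split_ifs <;> simp [κ]

theorem kv_inj {a b : ℕ} (ha : a < 2 ^ 18) (hb : b < 2 ^ 18) (e : κv ω a = κv ω b) : a = b := by
  refine Nat.eq_of_testBit_eq fun k => ?_
  rcases Nat.lt_or_ge k 18 with hk | hk
  · have h := congrFun e (fz (k / 2))
    simp only [κv, ix_fz (show k / 2 < 9 by omega)] at h
    have h2 := κ_inj hF hω (dig_lt _ _) (dig_lt _ _) h
    rw [dig_bits, dig_bits] at h2
    rcases Nat.mod_two_eq_zero_or_one k with hm | hm
    · rw [show k = 2 * (k / 2) by omega]
      revert h2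
      cases a.testBit (2 * (k / 2)) <;> cases b.testBit (2 * (k / 2)) <;>
        cases a.testBit (2 * (k / 2) + 1) <;> cases b.testBit (2 * (k / 2) + 1) <;> simp
    · rw [show k = 2 * (k / 2) + 1 by omega]
      revert h2
      cases a.testBit (2 * (k / 2)) <;> cases b.testBit (2 * (k / 2)) <;>
        cases a.testBit (2 * (k / 2) + 1) <;> cases b.testBit (2 * (k / 2) + 1) <;> simp
  · have hp : (2 : ℕ) ^ 18 ≤ 2 ^ k := Nat.pow_le_pow_right (by norm_num) hk
    rw [Nat.testBit_lt_two_pow (ha.trans_le hp), Nat.testBit_lt_two_pow (hb.trans_le hp)]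

theorem toM_inj {g h : ℕ} (hg : wf g = true) (hh : wf h = true) (e : toM ω g = toM ω h) : g = h := by
  rw [wf, Nat.blt_eq] at hg hh
  have hrow : ∀ i < 9, rowN g i = rowN h i := fun i hi => by
    refine kv_inj hF hω (rowN_lt _ _) (rowN_lt _ _) (funext fun z => ?_)
    have h1 := congrFun (congrFun e (fz i)) z
    simp only [toM, Matrix.of_apply, ix_fz hi] at h1
    exact h1
  refine Nat.eq_of_testBit_eq fun b => ?_
  rcases Nat.lt_or_ge b 162 with hb | hb
  · have h1 := congrArg (fun x => Nat.testBit x (b % 18)) (hrow (b / 18) (by omega))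
    simp only [rowN_eq, Nat.testBit_mod_two_pow, Nat.testBit_shiftRight,
      decide_eq_true (Nat.mod_lt b (show 18 > 0 by norm_num)), Bool.true_and, Nat.div_add_mod] at h1
    exact h1
  · have hp : (2 : ℕ) ^ 162 ≤ 2 ^ b := Nat.pow_le_pow_right (by norm_num) hb
    rw [Nat.testBit_lt_two_pow (hg.trans_le hp), Nat.testBit_lt_two_pow (hh.trans_le hp)]

theorem kv_single : κv ω 1 = Pi.single 0 (1 : F) := by
  funext y
  have h : ∀ y : F9, dig 1 (ix y) = if y = 0 then 1 else 0 := by decide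
  rw [κv, h, Pi.single_apply]
  split_ifs <;> simp [κ]

end CfsgLib.J3Mult
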