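import Cfsg.Agent.J3Mult.InvCode
import Cfsg.Agent.J3Mult.CentTabs
import Cfsg.Agent.J3Mult.Data
import Cfsg.Agent.J3Mult.Mat

set_option autoImplicit false
set_option maxRecDepth 100000
set_option Elab.async false

/-!
Checks on the centraliser and on the Sylow subgroup.
-/

namespace CfsgLib.J3Mult

/-- The least of the multiples. -/
def mc (n : ℕ) : ℕ := min n (min (omC n) (omC (omC n)))

/-- An element of the centraliser. -/
def cAt (a : ℕ) : ℕ := fieldAt cTab 162 a

/-- The code of a word in the letters at two. -/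
def wTwo (w : List ℕ) : ℕ := prodC (w.map fun i => (lets2.getD i (oneC, 0, 0)).1)

/-- The basic data. -/
def okInvBasic : Bool :=
  ([eltX, eltN, eltT] ++ cGens ++ frobCodes).all
    (fun q => Nat.blt q.2.1 23256 && Nat.blt q.2.2 6480 && Nat.beq q.1 (mulC (rep q.2.1) (hEl q.2.2))) &&
  Nat.beq (mulC (mulC (mulC (mulC (mulC eltX.1 eltX.1) (mulC eltX.1 eltX.1)) (mulC (mulC eltX.1 eltX.1) (mulC eltX.1 eltX.1)))
    (mulC (mulC (mulC eltX.1 eltX.1) (mulC eltX.1 eltX.1)) (mulC (mulC eltX.1 eltX.1) (mulC eltX.1 eltX.1)))) eltX.1) oneC &&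
  !(isCentC eltX.1) && Nat.beq (mulC eltT.1 eltT.1) oneC && !(isCentC eltT.1) && Nat.beq (invAt 0) eltT.1 &&
  Nat.beq (mulC eltN.1 eltX.1) (mulC (mulC eltX.1 eltX.1) eltN.1) &&
  Nat.blt pairIdx 26163 && Nat.beq solIdx.length 2 && (solIdx.all fun i => Nat.blt i 1539) &&
  ((List.range 2).all fun k => Nat.beq
    (mc (prodC ((pairWords.getD k []).map fun s => bif Nat.beq s 0 then eltX.1 else invAt pairIdx)))
    (mc (gens.getD k oneC)))

theorem invBasic_ok : okInvBasic = true := by decide +kernel

/-- The centraliser is listed. -/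
def okCentMul (g k : ℕ) : Bool := (List.range 1920).all fun a =>
  Nat.blt (fieldAt cMul 13 (1920 * k + a)) 1920 && Nat.beq (mc (mulC g (cAt a))) (cAt (fieldAt cMul 13 (1920 * k + a)))

/-- Parents in the centraliser. -/
def okCentParents : Bool := Nat.beq (cAt 0) (mc oneC) &&
  ((List.range 2).all fun k => Nat.beq (mc (mulC (cGens.getD k (oneC, 0, 0)).1 eltT.1)) (mc (mulC eltT.1 (cGens.getD k (oneC, 0, 0)).1))) &&
  (List.range 1919).all fun k =>
  Nat.blt (fieldAt cParents 14 (k + 1) / 2) (k + 1) &&
    Nat.beq (mc (mulC (cGens.getD (fieldAt cParents 14 (k + 1) % 2) (oneC, 0, 0)).1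
      (cAt (fieldAt cParents 14 (k + 1) / 2)))) (cAt (k + 1))

/-- Distinctness in the centraliser. -/
def okCentDistinct : Bool := (List.range 1920).all fun k =>
  Nat.blt (fieldAt cRank 13 k) 1920 && Nat.beq (fieldAt cIdx 13 (fieldAt cRank 13 k)) k && Nat.beq (mc (cAt k)) (cAt k) &&
    (Nat.beq k 1919 || Nat.blt (cAt (fieldAt cIdx 13 k)) (cAt (fieldAt cIdx 13 (k + 1))))

theorem centMulA_ok : okCentMul (cGens.getD 0 (oneC, 0, 0)).1 0 = true := by decide +kernel

theorem centMulB_ok : okCentMul (cGens.getD 1 (oneC, 0, 0)).1 1 = true := by decide +kernel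

theorem centParents_ok : okCentParents = true := by decide +kernel

theorem centDistinct_ok : okCentDistinct = true := by decide +kernel

/-- The Sylow subgroup is closed and its involutions are listed. -/
def okSyl : Bool := Nat.beq cert2.nf.length 128 && Nat.beq (mc (wTwo (cert2.nf.getD 0 []))) (mc oneC) &&
  ((List.range 7).all fun i => (List.range 128).all fun a =>
    Nat.blt (sylMul.getD (128 * i + a) 0) 128 &&
      Nat.beq (mc (mulC (lets2.getD i (oneC, 0, 0)).1 (wTwo (cert2.nf.getD a []))))
        (mc (wTwo (cert2.nf.getD (sylMul.getD (128 * i + a) 0) [])))) &&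
  (List.range 128).all fun a =>
    bif Nat.beq (sylIdx.getD a 0) 0 then
      isCentC (wTwo (cert2.nf.getD a [])) || !(isCentC (mulC (wTwo (cert2.nf.getD a [])) (wTwo (cert2.nf.getD a []))))
    else Nat.blt (sylIdx.getD a 0 - 1) 26163 && Nat.beq (mc (invAt (sylIdx.getD a 0 - 1))) (mc (wTwo (cert2.nf.getD a [])))

theorem syl_ok : okSyl = true := by decide +kernel

/-- A member of the normal subgroup. -/
def qAt (a : ℕ) : ℕ := cAt (qList.getD a 0)

/-- A member of the complement. -/
def kAt (a : ℕ) : ℕ := cAt (kList.getD a 0)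

/-- The product in the normal subgroup. -/
def qMulT (a b : ℕ) : ℕ := fieldAt qTab 5 (32 * a + b)

/-- The product in the complement. -/
def kMulT (a b : ℕ) : ℕ := fieldAt kTab 6 (60 * a + b)

/-- The image of a point. -/
def kImg (a i : ℕ) : ℕ := (kPerm.getD a 0 >>> (3 * i)) &&& 7

/-- The normal subgroup and the complement are subgroups, and meet trivially. -/
def okQK : Bool := Nat.beq (qList.getD 0 1) 0 && Nat.beq (kList.getD 0 1) 0 &&
  ((List.range 32).all fun a => Nat.blt (qList.getD a 0) 1920) &&
  ((List.range 60).all fun a => Nat.blt (kList.getD a 0) 1920) &&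
  ((List.range 32).all fun a => (List.range 32).all fun b => Nat.beq a b || !(Nat.beq (qList.getD a 0) (qList.getD b 0))) &&
  ((List.range 60).all fun a => (List.range 60).all fun b => Nat.beq a b || !(Nat.beq (kList.getD a 0) (kList.getD b 0))) &&
  ((List.range 32).all fun a => (List.range 60).all fun b => Nat.beq a 0 || !(Nat.beq (qList.getD a 0) (kList.getD b 0))) &&
  ((List.range 32).all fun a => (List.range 32).all fun b =>
    Nat.blt (qMulT a b) 32 && Nat.beq (mc (mulC (qAt a) (qAt b))) (qAt (qMulT a b))) &&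
  ((List.range 60).all fun a => (List.range 60).all fun b =>
    Nat.blt (kMulT a b) 60 && Nat.beq (mc (mulC (kAt a) (kAt b))) (kAt (kMulT a b))) &&
  ((List.range 2).all fun k => (List.range 32).all fun a => (List.range 32).any fun b =>
    Nat.beq (mc (mulC (cGens.getD k (oneC, 0, 0)).1 (qAt a))) (mc (mulC (qAt b) (cGens.getD k (oneC, 0, 0)).1)))

theorem qk_ok : okQK = true := by decide +kernel

/-- The permutations of the complement. -/
def okPerms : Bool :=
  ((List.range 60).all fun a => (List.range 5).all fun i => Nat.blt (kImg a i) 5) &&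
  ((List.range 60).all fun a => (List.range 60).all fun b => (List.range 5).all fun i =>
    Nat.beq (kImg (kMulT a b) i) (kImg a (kImg b i))) &&
  ((List.range 60).all fun a => Nat.beq a 0 || (List.range 5).any fun i => !(Nat.beq (kImg a i) i))

theorem perms_ok : okPerms = true := by decide +kernel

/-- The central involution of the normal subgroup. -/
def qZ : ℕ := ((List.range 32).find? fun a => !(Nat.beq (qMulT a a) 0)).map (fun a => qMulT a a) |>.getD 0

/-- Commutation in the normal subgroup. -/
def qCom (a b : ℕ) : Bool := Nat.beq (qMulT a b) (qMulT b a)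

/-- The normal subgroup is extraspecial with no elementary abelian subgroup of order eight. -/
def okExtra : Bool :=
  Nat.blt qZ 32 && !(Nat.beq qZ 0) && ((List.range 32).any fun a => (List.range 32).any fun b => !(qCom a b)) &&
  ((List.range 32).all fun a => (Nat.beq a 0 || Nat.beq a qZ) == ((List.range 32).all fun b => qCom a b)) &&
  ((List.range 32).all fun a => Nat.beq (qMulT a a) 0 || Nat.beq (qMulT a a) qZ) &&
  ((List.range 32).all fun a => (List.range 32).all fun b =>
    Nat.beq (qMulT a b) (qMulT b a) || Nat.beq (qMulT a b) (qMulT qZ (qMulT b a))) &&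
  ((List.range 32).all fun a => !(Nat.beq (qMulT a a) 0) || Nat.beq a 0 ||
    (List.range 32).all fun b => !(Nat.beq (qMulT b b) 0) || Nat.beq b 0 || Nat.beq b a || !(qCom a b) ||
      (List.range 32).all fun c => !(Nat.beq (qMulT c c) 0) || !(qCom a c) || !(qCom b c) ||
        Nat.beq c 0 || Nat.beq c a || Nat.beq c b || Nat.beq c (qMulT a b))

theorem extra_ok : okExtra = true := by decide +kernel

end CfsgLib.J3Mult
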