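import Cfsg.Agent.J3Mult.InvCode

set_option autoImplicit false
set_option maxRecDepth 100000
set_option Elab.async false

/-!
Kernel evaluation of checks on the involutions.
-/

namespace CfsgLib.J3Mult

theorem invOrbit0_ok : okInvOrbit 0 57 = true := by decide +kernel

theorem invOrbit1_ok : okInvOrbit 57 57 = true := by decide +kernel

theorem invOrbit2_ok : okInvOrbit 114 57 = true := by decide +kernel

theorem invOrbit3_ok : okInvOrbit 171 57 = true := by decide +kernel

theorem invOrbit4_ok : okInvOrbit 228 57 = true := by decide +kernel

theorem invOrbit5_ok : okInvOrbit 285 57 = true := by decide +kernel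

theorem invOrbit6_ok : okInvOrbit 342 57 = true := by decide +kernel

end CfsgLib.J3Mult
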