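import Cfsg.Agent.J3Mult.InvCode

set_option autoImplicit false
set_option maxRecDepth 100000
set_option Elab.async false

/-!
Kernel evaluation of checks on the involutions.
-/

namespace CfsgLib.J3Mult

theorem invOrbit7_ok : okInvOrbit 399 57 = true := by decide +kernel

theorem invOrbit8_ok : okInvOrbit 456 57 = true := by decide +kernel

theorem invOrbit9_ok : okInvOrbit 513 57 = true := by decide +kernel

theorem invOrbit10_ok : okInvOrbit 570 57 = true := by decide +kernel

theorem invOrbit11_ok : okInvOrbit 627 57 = true := by decide +kernel

theorem invOrbit12_ok : okInvOrbit 684 57 = true := by decide +kernel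

theorem invOrbit13_ok : okInvOrbit 741 57 = true := by decide +kernel

end CfsgLib.J3Mult
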