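import Cfsg.Agent.J3Mult.InvCode

set_option autoImplicit false
set_option maxRecDepth 100000
set_option Elab.async false

/-!
Kernel evaluation of checks on the involutions.
-/

namespace CfsgLib.J3Mult

theorem invOrbit14_ok : okInvOrbit 798 57 = true := by decide +kernel

theorem invOrbit15_ok : okInvOrbit 855 57 = true := by decide +kernel

theorem invOrbit16_ok : okInvOrbit 912 57 = true := by decide +kernel

theorem invOrbit17_ok : okInvOrbit 969 57 = true := by decide +kernel

theorem invOrbit18_ok : okInvOrbit 1026 57 = true := by decide +kernel

theorem invOrbit19_ok : okInvOrbit 1083 57 = true := by decide +kernel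

theorem invOrbit20_ok : okInvOrbit 1140 57 = true := by decide +kernel

end CfsgLib.J3Mult
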