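import Cfsg.Agent.J3Mult.InvCode

set_option autoImplicit false
set_option maxRecDepth 100000
set_option Elab.async false

/-!
Kernel evaluation of checks on the involutions.
-/

namespace CfsgLib.J3Mult

theorem invOrbit21_ok : okInvOrbit 1197 57 = true := by decide +kernel

theorem invOrbit22_ok : okInvOrbit 1254 57 = true := by decide +kernel

theorem invOrbit23_ok : okInvOrbit 1311 57 = true := by decide +kernel

theorem invOrbit24_ok : okInvOrbit 1368 57 = true := by decide +kernel

theorem invOrbit25_ok : okInvOrbit 1425 57 = true := by decide +kernel

theorem invOrbit26_ok : okInvOrbit 1482 57 = true := by decide +kernel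

end CfsgLib.J3Mult
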