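import Cfsg.Agent.J3Mult.Simple
import Cfsg.Agent.J3Mult.InvMisc
import Cfsg.Agent.J3Mult.InvLead
import Cfsg.Agent.J3Mult.InvOrb0
import Cfsg.Agent.J3Mult.InvOrb1
import Cfsg.Agent.J3Mult.InvOrb2
import Cfsg.Agent.J3Mult.InvOrb3

set_option autoImplicit false
set_option maxRecDepth 100000

/-!
The involutions form one class, listed, and the centraliser of one is listed.
-/

namespace CfsgLib.J3Mult

open Cfsg.Spor H29.ThreeJ Matrix
open CfsgLib.M23Coh (wordE)

theorem mc_eq (n : ℕ) : mc n = cano n := rfl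

theorem invOrbit_spec {i j : ℕ} (hi : i < 1539) (hj : j < 16) :
    mulC eltX.1 (invAt (17 * i + j)) = mulC (invAt (17 * i + j + 1)) eltX.1 := by
  have key : ∀ s n, okInvOrbit s n = true → s ≤ i → i < s + n →
      mulC eltX.1 (invAt (17 * i + j)) = mulC (invAt (17 * i + j + 1)) eltX.1 := fun s n h h1 h2 => by
    simp only [okInvOrbit, List.all_eq_true, List.mem_range, Nat.beq_eq] at h
    have h3 := h (i - s) (by omega) j hj
    rwa [Nat.add_sub_cancel' h1] at h3
  by_cases h0 : i < 57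
  · exact key _ _ invOrbit0_ok (by omega) (by omega)
  by_cases h1 : i < 114
  · exact key _ _ invOrbit1_ok (by omega) (by omega)
  by_cases h2 : i < 171
  · exact key _ _ invOrbit2_ok (by omega) (by omega)
  by_cases h3 : i < 228
  · exact key _ _ invOrbit3_ok (by omega) (by omega)
  by_cases h4 : i < 285
  · exact key _ _ invOrbit4_ok (by omega) (by omega)
  by_cases h5 : i < 342
  · exact key _ _ invOrbit5_ok (by omega) (by omega)
  by_cases h6 : i < 399
  · exact key _ _ invOrbit6_ok (by omega) (by omega)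
  by_cases h7 : i < 456
  · exact key _ _ invOrbit7_ok (by omega) (by omega)
  by_cases h8 : i < 513
  · exact key _ _ invOrbit8_ok (by omega) (by omega)
  by_cases h9 : i < 570
  · exact key _ _ invOrbit9_ok (by omega) (by omega)
  by_cases h10 : i < 627
  · exact key _ _ invOrbit10_ok (by omega) (by omega)
  by_cases h11 : i < 684
  · exact key _ _ invOrbit11_ok (by omega) (by omega)
  by_cases h12 : i < 741
  · exact key _ _ invOrbit12_ok (by omega) (by omega)
  by_cases h13 : i < 798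
  · exact key _ _ invOrbit13_ok (by omega) (by omega)
  by_cases h14 : i < 855
  · exact key _ _ invOrbit14_ok (by omega) (by omega)
  by_cases h15 : i < 912
  · exact key _ _ invOrbit15_ok (by omega) (by omega)
  by_cases h16 : i < 969
  · exact key _ _ invOrbit16_ok (by omega) (by omega)
  by_cases h17 : i < 1026
  · exact key _ _ invOrbit17_ok (by omega) (by omega)
  by_cases h18 : i < 1083
  · exact key _ _ invOrbit18_ok (by omega) (by omega)
  by_cases h19 : i < 1140
  · exact key _ _ invOrbit19_ok (by omega) (by omega)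
  by_cases h20 : i < 1197
  · exact key _ _ invOrbit20_ok (by omega) (by omega)
  by_cases h21 : i < 1254
  · exact key _ _ invOrbit21_ok (by omega) (by omega)
  by_cases h22 : i < 1311
  · exact key _ _ invOrbit22_ok (by omega) (by omega)
  by_cases h23 : i < 1368
  · exact key _ _ invOrbit23_ok (by omega) (by omega)
  by_cases h24 : i < 1425
  · exact key _ _ invOrbit24_ok (by omega) (by omega)
  by_cases h25 : i < 1482
  · exact key _ _ invOrbit25_ok (by omega) (by omega)
  exact key _ _ invOrbit26_ok (by omega) (by omega)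

theorem invLead_spec {i : ℕ} (hi : i < 1539) : eJ (fieldAt invConj 28 i) < 23256 ∧ eH (fieldAt invConj 28 i) < 6480 ∧
    mulC (conjAt i) eltT.1 = mulC (invAt (17 * i)) (conjAt i) := by
  have key : ∀ s n, okInvLead s n = true → s ≤ i → i < s + n → eJ (fieldAt invConj 28 i) < 23256 ∧
      eH (fieldAt invConj 28 i) < 6480 ∧ mulC (conjAt i) eltT.1 = mulC (invAt (17 * i)) (conjAt i) := fun s n h h1 h2 => by
    simp only [okInvLead, List.all_eq_true, List.mem_range, Nat.beq_eq, Bool.and_eq_true, Nat.blt_eq] at h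
    have h3 := h (i - s) (by omega)
    rw [Nat.add_sub_cancel' h1] at h3
    exact ⟨h3.1.1, h3.1.2, h3.2⟩
  by_cases h0 : i < 171
  · exact key _ _ invLead0_ok (by omega) (by omega)
  by_cases h1 : i < 342
  · exact key _ _ invLead1_ok (by omega) (by omega)
  by_cases h2 : i < 513
  · exact key _ _ invLead2_ok (by omega) (by omega)
  by_cases h3 : i < 684
  · exact key _ _ invLead3_ok (by omega) (by omega)
  by_cases h4 : i < 855
  · exact key _ _ invLead4_ok (by omega) (by omega)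
  by_cases h5 : i < 1026
  · exact key _ _ invLead5_ok (by omega) (by omega)
  by_cases h6 : i < 1197
  · exact key _ _ invLead6_ok (by omega) (by omega)
  by_cases h7 : i < 1368
  · exact key _ _ invLead7_ok (by omega) (by omega)
  exact key _ _ invLead8_ok (by omega) (by omega)

theorem invDistinct_spec {k : ℕ} (hk : k < 26163) : fieldAt invRank 15 k < 26163 ∧
    fieldAt invIdx 15 (fieldAt invRank 15 k) = k ∧
    (k = 26162 ∨ invAt (fieldAt invIdx 15 k) < invAt (fieldAt invIdx 15 (k + 1))) := by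
  have key : ∀ s n, okInvDistinct s n = true → s ≤ k → k < s + n → fieldAt invRank 15 k < 26163 ∧
      fieldAt invIdx 15 (fieldAt invRank 15 k) = k ∧
      (k = 26162 ∨ invAt (fieldAt invIdx 15 k) < invAt (fieldAt invIdx 15 (k + 1))) := fun s n h h1 h2 => by
    simp only [okInvDistinct, List.all_eq_true, List.mem_range, Nat.beq_eq, Bool.and_eq_true, Bool.or_eq_true, Nat.blt_eq] at h
    have h3 := h (k - s) (by omega)
    rw [Nat.add_sub_cancel' h1] at h3
    exact ⟨h3.1.1, h3.1.2, h3.2⟩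
  by_cases h0 : k < 2907
  · exact key _ _ invDistinct0_ok (by omega) (by omega)
  by_cases h1 : k < 5814
  · exact key _ _ invDistinct1_ok (by omega) (by omega)
  by_cases h2 : k < 8721
  · exact key _ _ invDistinct2_ok (by omega) (by omega)
  by_cases h3 : k < 11628
  · exact key _ _ invDistinct3_ok (by omega) (by omega)
  by_cases h4 : k < 14535
  · exact key _ _ invDistinct4_ok (by omega) (by omega)
  by_cases h5 : k < 17442
  · exact key _ _ invDistinct5_ok (by omega) (by omega)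
  by_cases h6 : k < 20349
  · exact key _ _ invDistinct6_ok (by omega) (by omega)
  by_cases h7 : k < 23256
  · exact key _ _ invDistinct7_ok (by omega) (by omega)
  exact key _ _ invDistinct8_ok (by omega) (by omega)

theorem inj_of_sorted (f idx rank : ℕ → ℕ) (n : ℕ)
    (h1 : ∀ k < n, rank k < n ∧ idx (rank k) = k) (h2 : ∀ k, k + 1 < n → f (idx k) < f (idx (k + 1)))
    {a b : ℕ} (ha : a < n) (hb : b < n) (e : f a = f b) : a = b := by
  have hmono : ∀ i j, i < j → j < n → f (idx i) < f (idx j) := by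
    intro i j hij hj
    induction j with
    | zero => omega
    | succ j ih =>
      rcases Nat.lt_succ_iff_lt_or_eq.1 hij with h | h
      · exact (ih h (by omega)).trans (h2 j hj)
      · rw [h]; exact h2 j hj
  rcases lt_trichotomy (rank a) (rank b) with h | h | h
  · have := hmono _ _ h (h1 b hb).1; rw [(h1 a ha).2, (h1 b hb).2, e] at this; exact absurd this (lt_irrefl _)
  · rw [← (h1 a ha).2, h, (h1 b hb).2]
  · have := hmono _ _ h (h1 a ha).1; rw [(h1 a ha).2, (h1 b hb).2, e] at this; exact absurd this (lt_irrefl _)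

theorem wf_oneC : wf oneC = true := by
  have hd := data_ok
  simp only [okData, Bool.and_eq_true] at hd
  exact hd.1.1.2

theorem wf_field (t : List (List ℕ)) (i : ℕ) : wf (fieldAt t 162 i) = true := by
  rw [wf, Nat.blt_eq, fieldAt]
  exact lt_of_le_of_lt Nat.and_le_right (Nat.sub_lt (pow_pos (by norm_num) _) (by norm_num))

variable {F : Type} [Field F] [Fintype F] {ω : F} (hF : Fintype.card F = 4) (hω : ω ^ 2 + ω + 1 = 0)

include hF hω

theorem att_special {q : ℕ × ℕ × ℕ} (hq : q ∈ [eltX, eltN, eltT] ++ cGens ++ frobCodes) : Att F ω q.1 := by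
  have h := invBasic_ok
  simp only [okInvBasic, Bool.and_eq_true] at h
  obtain ⟨⟨⟨⟨⟨⟨⟨⟨⟨⟨h0, -⟩, -⟩, -⟩, -⟩, -⟩, -⟩, -⟩, -⟩, -⟩, -⟩ := h
  simp only [List.all_eq_true, Bool.and_eq_true, Nat.blt_eq, Nat.beq_eq] at h0
  obtain ⟨⟨h1, h2⟩, h3⟩ := h0 q hq
  rw [h3]
  exact att_mul hF hω (att_rep hF hω _ h1) (att_hEl hF hω _ h2)

theorem att_X : Att F ω eltX.1 := att_special hF hω (by simp)

theorem att_T : Att F ω eltT.1 := att_special hF hω (by simp)

theorem att_N : Att F ω eltN.1 := att_special hF hω (by simp)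

theorem cent_iff {a : ℕ} (ha : Att F ω a) (wa : wf a = true) : isCentC a = true ↔ qel F ω a = 1 := by
  have ho := att_one (F := F) (ω := ω) hF hω
  obtain ⟨h1, e1⟩ := qel_omC hF hω ho
  obtain ⟨-, e2⟩ := qel_omC hF hω h1
  simp only [isCentC, Bool.or_eq_true, Nat.beq_eq]
  constructor
  · rintro ((rfl | rfl) | rfl)
    · exact qel_one hF hω
    · rw [e1, qel_one hF hω]
    · rw [e2, e1, qel_one hF hω]
  · intro e
    rw [qel_def, QuotientGroup.eq_one_iff] at e
    obtain ⟨c, hc⟩ := central_smul hF hω e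
    rw [mat_elk ha, ← toM_one hF hω] at hc
    have hc0 : c ≠ 0 := fun e0 => by
      rw [e0, zero_smul] at hc
      obtain ⟨x, hx⟩ := ha
      have h1 : mat F ω x * mat F ω x⁻¹ = 1 := by rw [← map_mul, mul_inv_cancel, map_one]
      rw [hx, hc, zero_mul] at h1
      exact zero_ne_one (congrFun (congrFun h1 0) 0)
    have hc3 : c ^ 3 = 1 := by
      have := FiniteField.pow_card_sub_one_eq_one c hc0
      rwa [hF] at this
    have hz' : (c - 1) * ((c - ω) * (c - ω * ω)) = 0 := by
      linear_combination hc3 + (-c ^ 2 + c * ω - (ω - 1)) * hω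
    simp only [mul_eq_zero, sub_eq_zero] at hz'
    rcases hz' with h | h | h <;> rw [h] at hc
    · rw [one_smul] at hc
      exact Or.inl (Or.inl (toM_inj hF hω wa wf_oneC hc))
    · rw [← toM_omC hF hω] at hc
      exact Or.inl (Or.inr (toM_inj hF hω wa (wf_omC _) hc))
    · rw [mul_smul, ← toM_omC hF hω, ← toM_omC hF hω] at hc
      exact Or.inr (toM_inj hF hω wa (wf_omC _) hc)

theorem elk_X_pow : elk F ω eltX.1 ^ 17 = 1 := by
  refine mat_inj ?_
  have h := invBasic_ok
  simp only [okInvBasic, Bool.and_eq_true, Nat.beq_eq] at h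
  obtain ⟨⟨⟨⟨⟨⟨⟨⟨⟨⟨-, h1⟩, -⟩, -⟩, -⟩, -⟩, -⟩, -⟩, -⟩, -⟩, -⟩ := h
  have h2 := congrArg (toM ω) h1
  simp only [← toM_mul hF hω] at h2
  rw [map_pow, mat_elk (att_X hF hω), map_one, ← toM_one hF hω, ← h2]
  simp only [pow_succ, pow_zero, one_mul, mul_assoc]

theorem orderOf_qX : orderOf (qel F ω eltX.1) = 17 := by
  haveI : Fact (Nat.Prime 17) := ⟨by norm_num⟩
  refine orderOf_eq_prime ?_ fun e => ?_
  · rw [qel_def, ← QuotientGroup.mk_pow, elk_X_pow hF hω]; rfl
  · have h := invBasic_ok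
    simp only [okInvBasic, Bool.and_eq_true, Bool.not_eq_true'] at h
    obtain ⟨⟨⟨⟨⟨⟨⟨⟨⟨⟨-, -⟩, h2⟩, -⟩, -⟩, -⟩, -⟩, -⟩, -⟩, -⟩, -⟩ := h
    have hwf : wf eltX.1 = true := by decide +kernel
    rw [(cent_iff hF hω (att_X hF hω) hwf).2 e] at h2
    exact absurd h2 (by decide)

theorem att_conj {b g t : ℕ} (hg : Att F ω g) (ht : Att F ω t) (e : mulC g t = mulC b g) :
    Att F ω b ∧ elk F ω b = elk F ω g * elk F ω t * (elk F ω g)⁻¹ := by
  have hm : mat F ω (elk F ω g * elk F ω t * (elk F ω g)⁻¹) = toM ω b := by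
    rw [elk_mul hF hω hg ht, map_mul, mat_elk (att_mul hF hω hg ht), e, ← toM_mul hF hω, Matrix.mul_assoc,
      ← mat_elk hg, ← map_mul, mul_inv_cancel, map_one, mul_one]
  exact ⟨⟨_, hm⟩, mat_inj (by rw [mat_elk ⟨_, hm⟩, hm])⟩

theorem inv_conj {k : ℕ} (hk : k < 26163) :
    Att F ω (invAt k) ∧ ∃ h, elk F ω (invAt k) = h * elk F ω eltT.1 * h⁻¹ := by
  obtain ⟨i, j, hi, hj, rfl⟩ : ∃ i j, i < 1539 ∧ j < 17 ∧ k = 17 * i + j :=
    ⟨k / 17, k % 17, by omega, Nat.mod_lt _ (by norm_num), (Nat.div_add_mod k 17).symm⟩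
  clear hk
  induction j with
  | zero =>
    obtain ⟨h1, h2, h3⟩ := invLead_spec hi
    have hg : Att F ω (conjAt i) := by
      rw [conjAt]; exact att_mul hF hω (att_rep hF hω _ h1) (att_hEl hF hω _ h2)
    obtain ⟨a1, a2⟩ := att_conj hF hω hg (att_T hF hω) h3
    exact ⟨a1, _, a2⟩
  | succ j ih =>
    obtain ⟨a1, h, a2⟩ := ih (by omega)
    obtain ⟨b1, b2⟩ := att_conj hF hω (att_X hF hω) a1 (invOrbit_spec hi (show j < 16 by omega))
    refine ⟨b1, elk F ω eltX.1 * h, ?_⟩
    rw [show 17 * i + (j + 1) = 17 * i + j + 1 by omega, b2, a2]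
    group

theorem elk_T_sq : elk F ω eltT.1 ^ 2 = 1 := by
  have h := invBasic_ok
  simp only [okInvBasic, Bool.and_eq_true, Nat.beq_eq] at h
  obtain ⟨⟨⟨⟨⟨⟨⟨⟨⟨⟨-, -⟩, -⟩, h3⟩, -⟩, -⟩, -⟩, -⟩, -⟩, -⟩, -⟩ := h
  rw [pow_two, elk_mul hF hω (att_T hF hω) (att_T hF hω), h3, elk_one hF hω]

omit hF hω in
variable (F ω) in
theorem iv_exists : ∃ f : ℕ → J3 F ω, ∀ k, f k = qel F ω (invAt k) := ⟨fun k => qel F ω (invAt k), fun _ => rfl⟩

omit hF hω in
variable (F ω) in
/-- The listed involutions. -/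
noncomputable def iv : ℕ → J3 F ω := (iv_exists F ω).choose

omit hF hω in
theorem iv_def (k : ℕ) : iv F ω k = qel F ω (invAt k) := (iv_exists F ω).choose_spec k

theorem iv_isConj {k : ℕ} (hk : k < 26163) : ∃ g, iv F ω k = g * qel F ω eltT.1 * g⁻¹ := by
  obtain ⟨-, h, e⟩ := inv_conj hF hω hk
  refine ⟨QuotientGroup.mk h, ?_⟩
  rw [iv_def, qel_def, qel_def, e]
  rfl

theorem iv_inj {a b : ℕ} (ha : a < 26163) (hb : b < 26163) (e : iv F ω a = iv F ω b) : a = b := by
  haveI : Finite (threeJ3 F ω) := finite_cover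
  obtain ⟨a1, g, ga⟩ := inv_conj hF hω ha
  obtain ⟨b1, g', gb⟩ := inv_conj hF hω hb
  refine inj_of_sorted invAt (fieldAt invIdx 15) (fieldAt invRank 15) 26163
    (fun k hk => ⟨(invDistinct_spec hk).1, (invDistinct_spec hk).2.1⟩)
    (fun k hk => (invDistinct_spec (show k < 26163 by omega)).2.2.resolve_left (by omega)) ha hb ?_
  rw [iv_def, iv_def, qel_def, qel_def] at e
  have hc := QuotientGroup.eq.1 e
  have hsa : elk F ω (invAt a) ^ 2 = 1 := by rw [ga, conj_pow, elk_T_sq hF hω]; group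
  have hsb : elk F ω (invAt b) ^ 2 = 1 := by rw [gb, conj_pow, elk_T_sq hF hω]; group
  set c := (elk F ω (invAt a))⁻¹ * elk F ω (invAt b) with hc'
  have hcomm : Commute (elk F ω (invAt a)) c := Subgroup.mem_center_iff.1 hc _
  have h2 : c ^ 2 = 1 := by
    have h := hcomm.mul_pow 2
    rw [hc', mul_inv_cancel_left, hsb, hsa, one_mul] at h
    exact h.symm
  have h3 : c ^ 3 = 1 := by
    have := congrArg Subtype.val (pow_card_eq_one' (x := (⟨c, hc⟩ : Subgroup.center (threeJ3 F ω))))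
    rwa [card_center hF hω] at this
  have h1 : c = 1 := by rwa [pow_succ, h2, one_mul] at h3
  refine toM_inj hF hω (wf_field _ _) (wf_field _ _) ?_
  change toM ω (invAt a) = toM ω (invAt b)
  rw [← mat_elk a1, ← mat_elk b1, inv_mul_eq_one.1 h1]

omit hF hω in
variable (F ω) in
theorem cv_exists : ∃ f : ℕ → J3 F ω, ∀ k, f k = qel F ω (cAt k) := ⟨fun k => qel F ω (cAt k), fun _ => rfl⟩

omit hF hω in
variable (F ω) in
/-- The listed members of the centraliser. -/
noncomputable def cv : ℕ → J3 F ω := (cv_exists F ω).choose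

omit hF hω in
theorem cv_def (k : ℕ) : cv F ω k = qel F ω (cAt k) := (cv_exists F ω).choose_spec k

theorem att_mc {a : ℕ} (ha : Att F ω a) : Att F ω (mc a) := by
  obtain ⟨h1, -⟩ := qel_omC hF hω ha
  obtain ⟨h2, -⟩ := qel_omC hF hω h1
  rw [mc]
  rcases min_choice a (min (omC a) (omC (omC a))) with h | h <;> rw [h]
  · exact ha
  rcases min_choice (omC a) (omC (omC a)) with h | h <;> rw [h]
  · exact h1
  · exact h2

theorem qel_mc {a : ℕ} (ha : Att F ω a) : qel F ω (mc a) = qel F ω a := by rw [mc_eq, qel_cano hF hω ha]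

theorem att_cGen {k : ℕ} : Att F ω (cGens.getD k (oneC, 0, 0)).1 := by
  rcases Nat.lt_or_ge k cGens.length with hk | hk
  · rw [List.getD_eq_getElem _ _ hk]
    exact att_special hF hω (List.mem_append_left _ (List.mem_append_right _ (List.getElem_mem hk)))
  · rw [List.getD_eq_default _ _ hk]; exact att_one hF hω

theorem cAt_spec : ∀ a, a < 1920 → Att F ω (cAt a) ∧
    cv F ω a ∈ Subgroup.centralizer ({qel F ω eltT.1} : Set (J3 F ω)) := by
  have h := centParents_ok
  simp only [okCentParents, Bool.and_eq_true, List.all_eq_true, List.mem_range, Nat.beq_eq, Nat.blt_eq] at h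
  obtain ⟨⟨h0, hcomm⟩, hpar⟩ := h
  intro a
  induction a using Nat.strong_induction_on with
  | _ a ih =>
    intro ha
    rcases Nat.eq_zero_or_pos a with rfl | hp
    · have e : Att F ω (cAt 0) := by rw [h0]; exact att_mc hF hω (att_one hF hω)
      refine ⟨e, ?_⟩
      rw [cv_def, h0, qel_mc hF hω (att_one hF hω), qel_one hF hω]
      exact one_mem _
    · obtain ⟨k, rfl⟩ : ∃ k, a = k + 1 := ⟨a - 1, by omega⟩
      obtain ⟨h1, h2⟩ := hpar k (by omega)
      obtain ⟨i1, i2⟩ := ih _ h1 (by omega)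
      have hm : fieldAt cParents 14 (k + 1) % 2 < 2 := Nat.mod_lt _ (by norm_num)
      have hg := att_cGen hF hω (k := fieldAt cParents 14 (k + 1) % 2)
      refine ⟨by rw [← h2]; exact att_mc hF hω (att_mul hF hω hg i1), ?_⟩
      rw [cv_def, ← h2, qel_mc hF hω (att_mul hF hω hg i1), ← qel_mul hF hω hg i1, ← cv_def]
      refine mul_mem (Subgroup.mem_centralizer_singleton_iff.2 ?_) i2
      have e := congrArg (qel F ω) (hcomm _ hm)
      rw [qel_mc hF hω (att_mul hF hω hg (att_T hF hω)), qel_mc hF hω (att_mul hF hω (att_T hF hω) hg),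
        ← qel_mul hF hω hg (att_T hF hω), ← qel_mul hF hω (att_T hF hω) hg] at e
      exact e

theorem cv_inj {a b : ℕ} (ha : a < 1920) (hb : b < 1920) (e : cv F ω a = cv F ω b) : a = b := by
  have hd := centDistinct_ok
  simp only [okCentDistinct, List.all_eq_true, List.mem_range, Bool.and_eq_true, Bool.or_eq_true, Nat.blt_eq, Nat.beq_eq] at hd
  refine inj_of_sorted cAt (fieldAt cIdx 13) (fieldAt cRank 13) 1920 (fun k hk => (hd k hk).1.1)
    (fun k hk => (hd k (by omega)).2.resolve_left (by omega)) ha hb ?_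
  rw [cv_def, cv_def] at e
  have h := cano_eq_of_qel hF hω (cAt_spec hF hω a ha).1 (cAt_spec hF hω b hb).1 (wf_field _ _) (wf_field _ _) e
  rwa [← mc_eq, ← mc_eq, (hd a ha).1.2, (hd b hb).1.2] at h

/-- The class and the centraliser. -/
theorem class_facts :
    Nat.card (Subgroup.centralizer ({qel F ω eltT.1} : Set (J3 F ω))) = 1920 ∧
      (∀ g, ∃ k < 26163, iv F ω k = g * qel F ω eltT.1 * g⁻¹) ∧
      ∀ x ∈ Subgroup.centralizer ({qel F ω eltT.1} : Set (J3 F ω)), ∃ a < 1920, cv F ω a = x := by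
  classical
  haveI : Finite (J3 F ω) := finite_J3
  set t := qel F ω eltT.1 with ht
  set C := Subgroup.centralizer ({t} : Set (J3 F ω)) with hC
  let f : Fin 1920 → C := fun a => ⟨cv F ω a.val, (cAt_spec hF hω a.val a.2).2⟩
  have hf : Function.Injective f := fun a b e => Fin.ext (cv_inj hF hω a.2 b.2 (congrArg Subtype.val e))
  choose g hg using fun k : Fin 26163 => iv_isConj hF hω k.2
  let p : Fin 26163 → J3 F ω ⧸ C := fun k => QuotientGroup.mk (g k)
  have hp : Function.Injective p := fun a b e => by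
    refine Fin.ext (iv_inj hF hω a.2 b.2 ?_)
    have h : (g a)⁻¹ * g b ∈ C := QuotientGroup.eq.1 e
    rw [hC, Subgroup.mem_centralizer_singleton_iff] at h
    rw [hg a, hg b]
    calc g a * t * (g a)⁻¹ = g a * (t * ((g a)⁻¹ * g b)) * (g b)⁻¹ := by group
      _ = g a * (((g a)⁻¹ * g b) * t) * (g b)⁻¹ := by rw [h]
      _ = g b * t * (g b)⁻¹ := by group
  have h1 : 1920 ≤ Nat.card C := (Nat.card_fin 1920).symm.le.trans (Nat.card_le_card_of_injective f hf)
  have h2 : 26163 ≤ Nat.card (J3 F ω ⧸ C) := (Nat.card_fin 26163).symm.le.trans (Nat.card_le_card_of_injective p hp)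
  have h3 := Subgroup.card_eq_card_quotient_mul_card_subgroup C
  rw [card_J3 hF hω] at h3
  have hC' : Nat.card C = 1920 := by nlinarith
  have hQ' : Nat.card (J3 F ω ⧸ C) = 26163 := by nlinarith
  refine ⟨hC', fun x => ?_, fun x hx => ?_⟩
  · obtain ⟨k, hk⟩ := ((Nat.bijective_iff_injective_and_card p).2 ⟨hp, by rw [Nat.card_fin, hQ']⟩).2 (QuotientGroup.mk x)
    refine ⟨k.val, k.2, ?_⟩
    have h : (g k)⁻¹ * x ∈ C := QuotientGroup.eq.1 hk
    rw [hC, Subgroup.mem_centralizer_singleton_iff] at h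
    rw [hg k]
    calc g k * t * (g k)⁻¹ = g k * (t * ((g k)⁻¹ * x)) * x⁻¹ := by group
      _ = g k * (((g k)⁻¹ * x) * t) * x⁻¹ := by rw [h]
      _ = x * t * x⁻¹ := by group
  · obtain ⟨a, ha⟩ := ((Nat.bijective_iff_injective_and_card f).2 ⟨hf, by rw [Nat.card_fin, hC']⟩).2 ⟨x, hx⟩
    exact ⟨a.val, a.2, congrArg Subtype.val ha⟩

theorem orderOf_qT : orderOf (qel F ω eltT.1) = 2 := by
  haveI : Fact (Nat.Prime 2) := ⟨Nat.prime_two⟩
  refine orderOf_eq_prime ?_ fun e => ?_
  · rw [qel_def, ← QuotientGroup.mk_pow, elk_T_sq hF hω]; rfl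
  · have h := invBasic_ok
    simp only [okInvBasic, Bool.and_eq_true, Bool.not_eq_true'] at h
    obtain ⟨⟨⟨⟨⟨⟨⟨⟨⟨⟨-, -⟩, -⟩, -⟩, h4⟩, -⟩, -⟩, -⟩, -⟩, -⟩, -⟩ := h
    have hwf : wf eltT.1 = true := by decide +kernel
    rw [(cent_iff hF hω (att_T hF hω) hwf).2 e] at h4
    exact absurd h4 (by decide)

/-- Every involution is listed. -/
theorem inv_listed {z : J3 F ω} (hz : z * z = 1) (hz1 : z ≠ 1) : ∃ k < 26163, iv F ω k = z := by
  classical
  haveI : Finite (J3 F ω) := finite_J3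
  haveI : Fact (Nat.Prime 2) := ⟨Nat.prime_two⟩
  have h := syl_ok
  simp only [okSyl, Bool.and_eq_true, List.all_eq_true, List.mem_range, Nat.beq_eq, Nat.blt_eq] at h
  obtain ⟨⟨⟨hlen, h0⟩, hmul⟩, hidx⟩ := h
  have hw : ∀ w, wTwo w = wC lets2 w := fun w => rfl
  simp only [hw] at h0 hmul hidx
  let f : Fin 128 → J3 F ω := fun a => wordE (gel F ω lets2) (cert2.nf.getD a.val [])
  have hf : ∀ a : Fin 128, f a = qel F ω (wC lets2 (cert2.nf.getD a.val [])) := fun a => wordE_gel hF hω lets2_ok _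
  set S := Subgroup.closure (gel F ω lets2 '' {s | s < cert2.n}) with hS
  have hlist : ∀ x ∈ S, ∃ a, f a = x := by
    refine closure_subset_range f _ ⟨0, by norm_num⟩ ?_ ?_
    · rw [hf, ← qel_cano hF hω (att_wC hF hω lets2_ok _), ← mc_eq, h0, qel_mc hF hω (att_one hF hω), qel_one hF hω]
    · rintro x ⟨i, hi, rfl⟩ a
      obtain ⟨h1, h2⟩ := hmul i hi a.val a.2
      refine ⟨⟨_, h1⟩, ?_⟩
      have hA := att_wC hF hω lets2_ok (cert2.nf.getD a.val [])
      have hl := att_let hF hω lets2_ok i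
      rw [hf, hf, gel_def, qel_mul hF hω hl hA, ← qel_mc hF hω (att_mul hF hω hl hA), h2,
        qel_mc hF hω (att_wC hF hω lets2_ok _)]
  have hbig : 128 ≤ Nat.card S := by
    have := (ok2 hF hω).toCore.big
    rwa [show cert2.p ^ cert2.n = 128 from rfl] at this
  have hsmall : Nat.card S ≤ 128 := by
    have h1 := Nat.card_le_card_of_surjective (fun a : {a : Fin 128 // f a ∈ S} => (⟨f a.1, a.2⟩ : S))
      (fun x => by obtain ⟨a, ha⟩ := hlist x.1 x.2; exact ⟨⟨a, ha ▸ x.2⟩, Subtype.ext ha⟩)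
    exact h1.trans ((Finite.card_subtype_le _).trans (le_of_eq (Nat.card_fin 128)))
  have hfac : (2 : ℕ) ^ (Nat.card (J3 F ω)).factorization 2 = 128 := by
    rw [card_J3 hF hω]
    have hn : (50232960 : ℕ) ≠ 0 := by norm_num
    have h7 : 7 ≤ (50232960 : ℕ).factorization 2 :=
      (Nat.prime_two.pow_dvd_iff_le_factorization hn).1 (by norm_num)
    have h8 : ¬ 8 ≤ (50232960 : ℕ).factorization 2 := fun h =>
      absurd ((Nat.prime_two.pow_dvd_iff_le_factorization hn).2 h) (by norm_num)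
    rw [show (50232960 : ℕ).factorization 2 = 7 by omega]; norm_num
  let P : Sylow 2 (J3 F ω) := Sylow.ofCard S (by rw [hfac]; omega)
  have hzp : IsPGroup 2 (Subgroup.zpowers z) := IsPGroup.of_card (n := 1) (by
    rw [Nat.card_zpowers, orderOf_eq_prime (by rw [pow_two, hz]) hz1, pow_one])
  obtain ⟨Q, hQ⟩ := hzp.exists_le_sylow
  obtain ⟨g, hg⟩ := MulAction.exists_smul_eq (J3 F ω) Q P
  have hmem : g * z * g⁻¹ ∈ S := by
    have : g * z * g⁻¹ ∈ ((g • Q : Sylow 2 (J3 F ω)) : Subgroup (J3 F ω)) :=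
      ⟨z, hQ (Subgroup.mem_zpowers z), rfl⟩
    rwa [hg] at this
  obtain ⟨a, ha⟩ := hlist _ hmem
  have hA := att_wC hF hω lets2_ok (cert2.nf.getD a.val [])
  have hfne : f a ≠ 1 := fun e => hz1 (conj_eq_one_iff.1 (ha.symm.trans e))
  have hf2 : f a * f a = 1 := by
    rw [ha, show g * z * g⁻¹ * (g * z * g⁻¹) = g * (z * z) * g⁻¹ by group, hz]; group
  have hia := hidx a.val a.2
  by_cases hs : sylIdx.getD a.val 0 = 0
  · rw [hs] at hia
    simp only [Nat.beq_refl, cond_true, Bool.or_eq_true, Bool.not_eq_true'] at hia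
    rcases hia with h1 | h1
    · exact absurd ((hf a).trans ((cent_iff hF hω hA (wf_wC _ _)).1 h1)) hfne
    · rw [hf, qel_mul hF hω hA hA] at hf2
      rw [(cent_iff hF hω (att_mul hF hω hA hA) (wf_mulC _ _)).2 hf2] at h1
      exact absurd h1 (by decide)
  · rw [show Nat.beq (sylIdx.getD a.val 0) 0 = false from Bool.eq_false_iff.2 fun e => hs (Nat.eq_of_beq_eq_true e)] at hia
    simp only [cond_false, Bool.and_eq_true, Nat.blt_eq, Nat.beq_eq] at hia
    obtain ⟨hk, hke⟩ := hia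
    have he := congrArg (qel F ω) hke
    rw [qel_mc hF hω (inv_conj hF hω hk).1, qel_mc hF hω hA, ← iv_def, ← hf, ha] at he
    obtain ⟨u, hu⟩ := iv_isConj hF hω hk
    obtain ⟨-, hcl, -⟩ := class_facts hF hω
    obtain ⟨k, hk', hk''⟩ := hcl (g⁻¹ * u)
    refine ⟨k, hk', ?_⟩
    rw [hk'', show g⁻¹ * u * qel F ω eltT.1 * (g⁻¹ * u)⁻¹ = g⁻¹ * (u * qel F ω eltT.1 * u⁻¹) * g by group, ← hu, he]
    group

end CfsgLib.J3Mult
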