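import Cfsg.Agent.J3Mult.Code
import Cfsg.Agent.J3Mult.InvData

set_option autoImplicit false

/-!
Checks on the involutions.
-/

namespace CfsgLib.J3Mult

/-- An involution. -/
def invAt (k : ℕ) : ℕ := fieldAt invTab 162 k

/-- The conjugator of a leading involution. -/
def conjAt (i : ℕ) : ℕ := mulC (rep (eJ (fieldAt invConj 28 i))) (hEl (eH (fieldAt invConj 28 i)))

/-- The identity up to the centre. -/
def isCentC (n : ℕ) : Bool :=
  let w := omC oneC
  Nat.beq n oneC || Nat.beq n w || Nat.beq n (omC w)

/-- The cube is central. -/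
def cubeCentral (u : ℕ) : Bool := isCentC (mulC (mulC u u) u)

/-- The fifth power is central. -/
def fifthCentral (u : ℕ) : Bool :=
  let v := mulC u u
  isCentC (mulC (mulC v v) u)

/-- The relations of the pair. -/
def relPair (r b : ℕ) : Bool := cubeCentral (mulC r b) && fifthCentral (mulC (mulC (mulC r r) r) b)

/-- Conjugation along the orbits. -/
def okInvOrbit (s n : ℕ) : Bool := (List.range n).all fun k => (List.range 16).all fun j =>
  let i := 17 * (s + k) + j
  Nat.beq (mulC eltX.1 (invAt i)) (mulC (invAt (i + 1)) eltX.1)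

/-- The leading involutions are conjugates. -/
def okInvLead (s n : ℕ) : Bool := (List.range n).all fun k =>
  let i := s + k
  Nat.blt (eJ (fieldAt invConj 28 i)) 23256 && Nat.blt (eH (fieldAt invConj 28 i)) 6480 &&
    Nat.beq (mulC (conjAt i) eltT.1) (mulC (invAt (17 * i)) (conjAt i))

/-- The solutions of the relations. -/
def okSol (s n : ℕ) : Bool := (List.range n).all fun k =>
  let i := s + k
  (!(relPair eltX.1 (invAt (17 * i))) || solIdx.contains i) &&
    !(relPair (mulC (mulC eltX.1 eltX.1) eltX.1) (invAt (17 * i)))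

/-- The involutions increase along the indices. -/
def okInvDistinct (s n : ℕ) : Bool := (List.range n).all fun j =>
  let k := s + j
  Nat.blt (fieldAt invRank 15 k) 26163 && Nat.beq (fieldAt invIdx 15 (fieldAt invRank 15 k)) k &&
    (Nat.beq k 26162 || Nat.blt (invAt (fieldAt invIdx 15 k)) (invAt (fieldAt invIdx 15 (k + 1))))

end CfsgLib.J3Mult
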