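import Cfsg.Agent.J3Mult.InvCode

set_option autoImplicit false
set_option maxRecDepth 100000
set_option Elab.async false

/-!
Kernel evaluation of checks on the involutions.
-/

namespace CfsgLib.J3Mult

theorem invSol0_ok : okSol 0 81 = true := by decide +kernel

theorem invSol1_ok : okSol 81 81 = true := by decide +kernel

theorem invSol2_ok : okSol 162 81 = true := by decide +kernel

theorem invSol3_ok : okSol 243 81 = true := by decide +kernel

theorem invSol4_ok : okSol 324 81 = true := by decide +kernel

theorem invSol5_ok : okSol 405 81 = true := by decide +kernel

theorem invSol6_ok : okSol 486 81 = true := by decide +kernel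

theorem invSol7_ok : okSol 567 81 = true := by decide +kernel

theorem invSol8_ok : okSol 648 81 = true := by decide +kernel

theorem invSol9_ok : okSol 729 81 = true := by decide +kernel

end CfsgLib.J3Mult
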