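import Cfsg.Agent.J3Mult.InvCode

set_option autoImplicit false
set_option maxRecDepth 100000
set_option Elab.async false

/-!
Kernel evaluation of checks on the involutions.
-/

namespace CfsgLib.J3Mult

theorem invSol10_ok : okSol 810 81 = true := by decide +kernel

theorem invSol11_ok : okSol 891 81 = true := by decide +kernel

theorem invSol12_ok : okSol 972 81 = true := by decide +kernel

theorem invSol13_ok : okSol 1053 81 = true := by decide +kernel

theorem invSol14_ok : okSol 1134 81 = true := by decide +kernel

theorem invSol15_ok : okSol 1215 81 = true := by decide +kernel

theorem invSol16_ok : okSol 1296 81 = true := by decide +kernel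

theorem invSol17_ok : okSol 1377 81 = true := by decide +kernel

theorem invSol18_ok : okSol 1458 81 = true := by decide +kernel

end CfsgLib.J3Mult
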