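import Cfsg.Agent.J3Mult.Parts
import Cfsg.Agent.SchurPrime.Part
import Cfsg.Agent.SchurSylow.Bound
import Cfsg.Agent.S3979

set_option autoImplicit false

/-!
The multiplier of the Janko group is cyclic of order three.
-/

namespace CfsgLib.J3Mult

open Cfsg Cfsg.Spor CfsgLib.Schur CfsgLib.SchurSylow H29.ThreeJ Matrix

universe u v w

open scoped commutatorElement

section generic

variable {G : Type u} [Group G]

/-- The multiplier is carried along an isomorphism. -/
theorem multiplier_congr {H : Type v} [Group H] {A : Type w} [CommGroup A] (e : G ≃* H)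
    (hA : Cfsg.HasSchurMultiplier G A) : Cfsg.HasSchurMultiplier H A := by
  obtain ⟨Γ, iG, iF, σ, hσ, ⟨f⟩⟩ := id hA.1
  refine ⟨?_, fun Δ _ _ τ hτ => ?_⟩
  · have hk : (e.toMonoidHom.comp σ).ker = σ.ker := by
      ext x; simp [MonoidHom.mem_ker]
    have hσ' : Cfsg.IsStemExtension (e.toMonoidHom.comp σ) :=
      ⟨e.surjective.comp hσ.1, hk ▸ hσ.2.1, hk ▸ hσ.2.2⟩
    exact exists_stem_model hσ' ((MulEquiv.subgroupCongr hk).trans f)
  · have hk : (e.symm.toMonoidHom.comp τ).ker = τ.ker := by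
      ext x; simp [MonoidHom.mem_ker]
    have hτ' : Cfsg.IsStemExtension (e.symm.toMonoidHom.comp τ) :=
      ⟨e.symm.surjective.comp hτ.1, hk ▸ hτ.2.1, hk ▸ hτ.2.2⟩
    obtain ⟨π, hπ⟩ := exists_surj hA hτ'
    exact ⟨(MulEquiv.subgroupCongr hk).toMonoidHom.comp π, (MulEquiv.subgroupCongr hk).surjective.comp hπ⟩

theorem small_part {H : Type*} [Group H] [Finite H] (hH : Nat.card H = 50232960) {Γ : Type v} [Group Γ] [Finite Γ]
    {σ : Γ →* H} (hσ : Cfsg.IsStemExtension σ) {p : ℕ} [hp : Fact p.Prime] (h2 : p ≠ 2) (h3 : p ≠ 3)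
    {k : ℕ} (hk : p ^ k ∣ Nat.card σ.ker) : p ^ k ∣ 1 := by
  obtain ⟨Q⟩ : Nonempty (Sylow p H) := inferInstance
  obtain ⟨j, hj⟩ := IsPGroup.iff_card.1 Q.isPGroup'
  have hd : p ^ j ∣ 50232960 := hH ▸ hj ▸ Subgroup.card_subgroup_dvd_card _
  have hcop : Nat.Coprime (p ^ j) (2 ^ 7 * 3 ^ 5) := by
    refine Nat.Coprime.pow_left j (Nat.Coprime.mul_right ?_ ?_)
    · exact ((Nat.coprime_primes hp.out Nat.prime_two).2 h2).pow_right 7
    · exact ((Nat.coprime_primes hp.out Nat.prime_three).2 h3).pow_right 5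
  have h1615 : p ^ j ∣ 1615 :=
    hcop.dvd_of_dvd_mul_left (show p ^ j ∣ 2 ^ 7 * 3 ^ 5 * 1615 by norm_num; exact hd)
  have hj1 : j ≤ 1 := by
    by_contra hj2
    have h4 : p ^ 2 ∣ 1615 := (pow_dvd_pow p (by omega)).trans h1615
    have h5 := Nat.le_of_dvd (by norm_num) h4
    have h6 : p ≤ 40 := by
      by_contra h6
      have := Nat.pow_le_pow_left (show 41 ≤ p by omega) 2
      omega
    have := hp.out.two_le
    interval_cases p <;> norm_num at h4
  haveI : IsCyclic (Q : Subgroup H) := by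
    rcases Nat.le_one_iff_eq_zero_or_eq_one.1 hj1 with rfl | rfl
    · have : Subsingleton (Q : Subgroup H) := (Nat.card_eq_one_iff_unique.1 (hj.trans (pow_zero p))).1
      infer_instance
    · exact isCyclic_of_prime_card (hj.trans (pow_one p))
  have h := pow_dvd_card hσ Q (MulEquiv.refl _) Cfsg.Agent.S3979.result hk
  rwa [Nat.card_congr Multiplicative.toAdd, Nat.card_zmod] at h

end generic

variable {F : Type} [Field F] [Fintype F] {ω : F} (hF : Fintype.card F = 4) (hω : ω ^ 2 + ω + 1 = 0)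

include hF hω

theorem card_ker_dvd {Γ : Type v} [Group Γ] [Finite Γ] {σ : Γ →* J3 F ω} (hσ : Cfsg.IsStemExtension σ) :
    Nat.card σ.ker ∣ 3 := by
  haveI : Finite (J3 F ω) := finite_J3
  refine (Nat.dvd_iff_prime_pow_dvd_dvd 3 _).2 fun p k hp hk => ?_
  haveI := Fact.mk hp
  obtain ⟨Δ, _, _, τ, hτ, hq, hd⟩ := SchurPrime.exists_prime_part hσ p hk
  rcases eq_or_ne p 2 with rfl | h2
  · rw [part2 hF hω hτ hq, Subgroup.card_bot] at hd
    exact hd.trans (one_dvd _)
  rcases eq_or_ne p 3 with rfl | h3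
  · exact hd.trans (part3 hF hω hτ hq)
  exact (small_part (card_J3 hF hω) hσ h2 h3 hk).trans (one_dvd _)

theorem scal_commutator : scal F ω ∈ commutator (threeJ3 F ω) := by
  have h := data_ok
  simp only [okData, Bool.and_eq_true, Nat.beq_eq] at h
  obtain ⟨-, h9⟩ := h
  have e : bEl F ω 0 * bEl F ω 2 = scal F ω * (bEl F ω 2 * bEl F ω 0) := by
    refine mat_inj ?_
    rw [map_mul, map_mul, map_mul, mat_scal hF hω, Matrix.smul_mul, one_mul,
      mat_bEl hF hω (by norm_num), mat_bEl hF hω (by norm_num), base_code hF hω (by norm_num),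
      base_code hF hω (by norm_num), toM_mul hF hω, toM_mul hF hω, h9, toM_omC hF hω]
  have e2 : scal F ω = ⁅bEl F ω 0, bEl F ω 2⁆ := by
    rw [commutatorElement_def, e]; group
  rw [e2, commutator_def]
  exact Subgroup.commutator_mem_commutator (Subgroup.mem_top _) (Subgroup.mem_top _)

theorem multiplier : Cfsg.HasCyclicSchurMultiplier (J3 F ω) 3 := by
  haveI : Finite (J3 F ω) := finite_J3
  haveI : Finite (threeJ3 F ω) := finite_cover
  have hk : (QuotientGroup.mk' (Subgroup.center (threeJ3 F ω))).ker = Subgroup.center (threeJ3 F ω) :=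
    QuotientGroup.ker_mk' _
  have hσ : Cfsg.IsStemExtension (QuotientGroup.mk' (Subgroup.center (threeJ3 F ω))) := by
    refine ⟨QuotientGroup.mk'_surjective _, le_of_eq hk, ?_⟩
    rw [hk, center_eq hF hω, Subgroup.zpowers_le]
    exact scal_commutator hF hω
  exact hasCyclic_of Nat.prime_three.squarefree hσ (by rw [hk, card_center hF hω])
    fun Δ _ _ τ hτ => card_ker_dvd hF hω hτ

omit hF hω

/-- A field isomorphism carries the matrices of the cover. -/
theorem gens_map {K : Type u} [Field K] (e : F ≃+* K) (A : Matrix F9 F9 F) :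
    A ∈ j3Gens F ω ↔ A.map e ∈ j3Gens K (e ω) := by
  have h1 : ∀ Z, (j3A F ω Z).map e = j3A K (e ω) Z := fun Z => by
    rw [j3A, j3A, Matrix.diagonal_map (map_zero e)]
    exact congrArg Matrix.diagonal (funext fun z => map_pow e _ _)
  have h2 : ∀ Z, (j3E F ω Z).map e = j3E K (e ω) Z := fun Z => by
    rw [j3E, j3E, Matrix.diagonal_map (map_zero e)]
    exact congrArg Matrix.diagonal (funext fun z => map_pow e _ _)
  have h3 : ∀ Z, (j3D F ω Z).map e = j3D K (e ω) Z := fun Z => by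
    refine Matrix.ext fun w z => ?_
    simp only [j3D, Matrix.map_apply, Matrix.of_apply, j3Lam]
    split_ifs <;> simp
  have h4 : ∀ Z, (j3B F Z).map e = j3B K Z := fun Z => by
    refine Matrix.ext fun w z => ?_
    simp only [j3B, Matrix.map_apply, Matrix.of_apply]
    split_ifs <;> simp
  have h5 : ∀ Z, (j3C F Z).map e = j3C K Z := fun Z => by
    refine Matrix.ext fun w z => ?_
    simp only [j3C, Matrix.map_apply, Matrix.of_apply]
    split_ifs <;> simp
  have hinj : Function.Injective fun A : Matrix F9 F9 F => A.map e := Matrix.map_injective e.injective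
  constructor
  · rintro ((((⟨Z, rfl⟩ | ⟨Z, rfl⟩) | ⟨Z, rfl⟩) | ⟨Z, hZ, rfl⟩) | ⟨Z, hZ, rfl⟩)
    · exact Or.inl (Or.inl (Or.inl (Or.inl ⟨Z, (h1 Z).symm⟩)))
    · exact Or.inl (Or.inl (Or.inl (Or.inr ⟨Z, (h2 Z).symm⟩)))
    · exact Or.inl (Or.inl (Or.inr ⟨Z, (h3 Z).symm⟩))
    · exact Or.inl (Or.inr ⟨Z, hZ, h4 Z⟩)
    · exact Or.inr ⟨Z, hZ, h5 Z⟩
  · rintro ((((⟨Z, hA⟩ | ⟨Z, hA⟩) | ⟨Z, hA⟩) | ⟨Z, hZ, hA⟩) | ⟨Z, hZ, hA⟩)
    · exact Or.inl (Or.inl (Or.inl (Or.inl ⟨Z, hinj ((h1 Z).trans hA)⟩)))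
    · exact Or.inl (Or.inl (Or.inl (Or.inr ⟨Z, hinj ((h2 Z).trans hA)⟩)))
    · exact Or.inl (Or.inl (Or.inr ⟨Z, hinj ((h3 Z).trans hA)⟩))
    · exact Or.inl (Or.inr ⟨Z, hZ, hinj (hA.trans (h4 Z).symm)⟩)
    · exact Or.inr ⟨Z, hZ, hinj (hA.trans (h5 Z).symm)⟩

/-- The cover is carried along a field isomorphism. -/
theorem cover_iso {K : Type u} [Field K] (e : F ≃+* K) : Nonempty (threeJ3 F ω ≃* threeJ3 K (e ω)) := by
  let ψ : GL F9 F ≃* GL F9 K := Units.mapEquiv (RingEquiv.mapMatrix e : Matrix F9 F9 F ≃+* Matrix F9 F9 K).toMulEquiv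
  have hval : ∀ g : GL F9 F, ((ψ g : GL F9 K) : Matrix F9 F9 K) = (g : Matrix F9 F9 F).map e := fun g => rfl
  have hmap : (threeJ3 F ω).map ψ.toMonoidHom = threeJ3 K (e ω) := by
    rw [threeJ3, MonoidHom.map_closure, threeJ3]
    refine congrArg Subgroup.closure (Set.ext fun k => ⟨?_, fun hk => ⟨ψ.symm k, ?_, ψ.apply_symm_apply k⟩⟩)
    · rintro ⟨g, hg, rfl⟩
      show ((ψ g : GL F9 K) : Matrix F9 F9 K) ∈ j3Gens K (e ω)
      rw [hval]
      exact (gens_map e _).1 hg
    · refine (gens_map e _).2 ?_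
      rw [← hval, ψ.apply_symm_apply]
      exact hk
  exact ⟨(ψ.subgroupMap (threeJ3 F ω)).trans (MulEquiv.subgroupCongr hmap)⟩

/-- The multiplier over any field with four elements. -/
theorem multiplier_field {K : Type u} [Field K] [Fintype K] (hK : Fintype.card K = 4) (η : K)
    (hη : η ^ 2 + η + 1 = 0) : Cfsg.HasCyclicSchurMultiplier (J3 K η) 3 := by
  classical
  haveI : Fact (Nat.Prime 2) := ⟨Nat.prime_two⟩
  letI : Fintype (GaloisField 2 2) := Fintype.ofFinite _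
  have h4 : Fintype.card (GaloisField 2 2) = 4 := by
    rw [← Nat.card_eq_fintype_card, GaloisField.card 2 2 (by norm_num)]; norm_num
  let e : GaloisField 2 2 ≃+* K := FiniteField.ringEquivOfCardEq (h4.trans hK.symm)
  obtain ⟨ω₀, hω₀, rfl⟩ : ∃ ω₀ : GaloisField 2 2, ω₀ ^ 2 + ω₀ + 1 = 0 ∧ e ω₀ = η :=
    ⟨e.symm η, e.injective (by simpa using hη), e.apply_symm_apply η⟩
  obtain ⟨φ⟩ := cover_iso (ω := ω₀) e
  have hc : (Subgroup.center (threeJ3 (GaloisField 2 2) ω₀)).map φ.toMonoidHom =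
      Subgroup.center (threeJ3 K (e ω₀)) := by
    ext x
    constructor
    · rintro ⟨y, hy, rfl⟩
      refine Subgroup.mem_center_iff.2 fun g => ?_
      obtain ⟨g, rfl⟩ := φ.surjective g
      show φ g * φ y = φ y * φ g
      rw [← map_mul, ← map_mul, Subgroup.mem_center_iff.1 hy]
    · intro hx
      refine ⟨φ.symm x, Subgroup.mem_center_iff.2 fun g => φ.injective ?_, φ.apply_symm_apply x⟩
      rw [map_mul, map_mul, φ.apply_symm_apply, Subgroup.mem_center_iff.1 hx]
  exact multiplier_congr (QuotientGroup.congr _ _ φ hc) (multiplier h4 hω₀)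

end CfsgLib.J3Mult
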