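import Cfsg.Agent.J3Mult.Simple
import Cfsg.Agent.J3Mult.Multiplier
import Cfsg.Prelude.Def_Classical
import Cfsg.Prelude.Def_Sporadic

set_option autoImplicit false
set_option maxRecDepth 100000

/-!
The triple cover lies in the special unitary group.
-/

namespace CfsgLib.J3Mult

open Cfsg Cfsg.Spor H29.ThreeJ Matrix CfsgLib.Schur
open scoped commutatorElement

/-- A sum of codes. -/
def xorSum (f : ℕ → ℕ) : ℕ → ℕ
  | 0 => 0
  | n + 1 => xorSum f n ^^^ f n

/-- The base matrices are unitary. -/
def okUnit : Bool := (List.range 6).all fun b => (List.range 9).all fun j => (List.range 9).all fun k =>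
  Nat.beq (xorSum (fun i => mul4 (cBase b (fz i) (fz j)) (mul4 (cBase b (fz i) (fz k)) (cBase b (fz i) (fz k)))) 9)
    (bif Nat.beq j k then 1 else 0)

theorem unit_ok : okUnit = true := by decide +kernel

variable {F : Type} [Field F] [Fintype F] {ω : F} (hF : Fintype.card F = 4) (hω : ω ^ 2 + ω + 1 = 0)

include hF hω

theorem xorSum_spec (f : ℕ → ℕ) (hf : ∀ i, f i < 4) : ∀ n, xorSum f n < 4 ∧
    κ ω (xorSum f n) = ∑ i ∈ Finset.range n, κ ω (f i)
  | 0 => ⟨by norm_num [xorSum], by simp [xorSum, κ]⟩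
  | n + 1 => by
    obtain ⟨h1, h2⟩ := xorSum_spec f hf n
    exact ⟨Nat.xor_lt_two_pow (n := 2) h1 (hf n), by
      rw [xorSum, κ_xor hF hω h1 (hf n), h2, Finset.sum_range_succ]⟩

theorem base_unitary {b : ℕ} (hb : b < 6) (φ : F →+* F) (hφ : ∀ x, φ x = x ^ 2) :
    (baseMat F ω b)ᵀ * (baseMat F ω b).map φ = 1 := by
  refine Matrix.ext fun j k => ?_
  have h := unit_ok
  simp only [okUnit, List.all_eq_true, List.mem_range, Nat.beq_eq] at h
  have h1 := h b hb (ix j) (ix_lt j) (ix k) (ix_lt k)
  rw [fz_ix, fz_ix] at h1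
  have hlt := cBase_lt b
  have h2 := (xorSum_spec hF hω
    (fun i => mul4 (cBase b (fz i) j) (mul4 (cBase b (fz i) k) (cBase b (fz i) k))) (fun i => mul4_lt _ _) 9).2
  rw [h1] at h2
  rw [Matrix.mul_apply, Matrix.one_apply]
  calc ∑ z, (baseMat F ω b)ᵀ j z * (baseMat F ω b).map φ z k
      = ∑ z : F9, (fun i => κ ω (mul4 (cBase b (fz i) j) (mul4 (cBase b (fz i) k) (cBase b (fz i) k)))) (ix z) := by
        refine Finset.sum_congr rfl fun z _ => ?_
        simp only [Matrix.transpose_apply, Matrix.map_apply, hφ, baseMat_code, fz_ix]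
        rw [κ_mul hF hω (hlt _ _) (mul4_lt _ _), κ_mul hF hω (hlt _ _) (hlt _ _), pow_two]
    _ = _ := by
        rw [sum_ix (fun i => κ ω (mul4 (cBase b (fz i) j) (mul4 (cBase b (fz i) k) (cBase b (fz i) k)))), ← h2]
        have e : (Nat.beq (ix j) (ix k)) = decide (j = k) := by
          rw [Bool.eq_iff_iff, Nat.beq_eq, decide_eq_true_iff]
          exact ⟨fun e => by rw [← fz_ix j, e, fz_ix], fun e => by rw [e]⟩
        rw [e]
        by_cases hjk : j = k <;> simp [hjk, κ]

theorem unitary (φ : F →+* F) (hφ : ∀ x, φ x = x ^ 2) (g : threeJ3 F ω) :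
    (mat F ω g)ᵀ * (mat F ω g).map φ = 1 := by
  obtain ⟨w, hw, rfl⟩ := word_prod hF hω g
  revert hw
  induction w with
  | nil =>
    intro _
    rw [List.map_nil, List.prod_nil, map_one, Matrix.transpose_one, one_mul, Matrix.map_one _ (map_zero φ) (map_one φ)]
  | cons b r ih =>
    intro hw
    rw [List.map_cons, List.prod_cons, map_mul, mat_bEl hF hω (hw b List.mem_cons_self), Matrix.transpose_mul,
      Matrix.map_mul, Matrix.mul_assoc, ← Matrix.mul_assoc (baseMat F ω b)ᵀ, base_unitary hF hω (hw b List.mem_cons_self) φ hφ,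
      one_mul]
    exact ih (fun x hx => hw x (List.mem_cons_of_mem _ hx))

theorem perfect : commutator (threeJ3 F ω) = ⊤ := by
  classical
  haveI := simple_J3 hF hω
  haveI : Finite (J3 F ω) := finite_J3
  have hnab : ¬ commutator (J3 F ω) = ⊥ := fun e => by
    have hc : ∀ a b : J3 F ω, a * b = b * a := fun a b => by
      have h1 : ⁅a, b⁆ = 1 := by
        rw [← Subgroup.mem_bot, ← e, commutator_def]
        exact Subgroup.commutator_mem_commutator (Subgroup.mem_top _) (Subgroup.mem_top _)
      exact commutatorElement_eq_one_iff_mul_comm.1 h1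
    letI : CommGroup (J3 F ω) := { (inferInstance : Group (J3 F ω)) with mul_comm := hc }
    have hp := IsSimpleGroup.prime_card (α := J3 F ω)
    rw [card_J3 hF hω] at hp
    norm_num at hp
  have htop : commutator (J3 F ω) = ⊤ :=
    (IsSimpleGroup.eq_bot_or_eq_top_of_normal _ inferInstance).resolve_left hnab
  have hs : Function.Surjective (QuotientGroup.mk' (Subgroup.center (threeJ3 F ω))) := QuotientGroup.mk'_surjective _
  rw [← map_commutator_surjective _ hs] at htop
  have h2 := congrArg (Subgroup.comap (QuotientGroup.mk' (Subgroup.center (threeJ3 F ω)))) htop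
  rw [Subgroup.comap_map_eq, Subgroup.comap_top, QuotientGroup.ker_mk'] at h2
  rw [← h2, eq_comm, sup_eq_left, center_eq hF hω, Subgroup.zpowers_le]
  exact scal_commutator hF hω

theorem det_mat (g : threeJ3 F ω) : (mat F ω g).det = 1 := by
  let d : threeJ3 F ω →* Fˣ := ((Matrix.detMonoidHom : Matrix F9 F9 F →* F).comp (mat F ω)).toHomUnits
  have h : g ∈ d.ker := by
    have hg : g ∈ commutator (threeJ3 F ω) := perfect hF hω ▸ Subgroup.mem_top g
    exact Abelianization.commutator_subset_ker d hg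
  have h1 := congrArg Units.val (MonoidHom.mem_ker.1 h)
  rw [MonoidHom.coe_toHomUnits, Units.val_one, MonoidHom.comp_apply, Matrix.coe_detMonoidHom] at h1
  exact h1

theorem su_realization : ∃ H : Subgroup (Cfsg.SU 9 F 2), Nat.card (Subgroup.center H) = 3 ∧
    Cfsg.IsJ3 (H ⧸ Subgroup.center H) := by
  classical
  haveI : Fact (Nat.Prime 2) := ⟨Nat.prime_two⟩
  haveI : CharP F 2 := (CharP.charP_iff_prime_eq_zero Nat.prime_two).2 (two_eq_zero hF)
  let e : F9 ≃ Fin 9 :=
    ⟨fun z => ⟨ix z, ix_lt z⟩, fun i => fz i.val, fun z => fz_ix z, fun i => Fin.ext (ix_fz i.2)⟩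
  let φ : F →+* F := frobenius F 2
  have hφ : ∀ x, φ x = x ^ 2 := fun x => rfl
  let R : threeJ3 F ω →* Matrix.SpecialLinearGroup (Fin 9) F :=
    { toFun := fun x => ⟨(mat F ω x).submatrix e.symm e.symm, by
        rw [Matrix.det_submatrix_equiv_self, det_mat hF hω]⟩
      map_one' := Subtype.ext (by
        show (mat F ω 1).submatrix e.symm e.symm = 1
        rw [map_one, Matrix.submatrix_one_equiv])
      map_mul' := fun x y => Subtype.ext (by
        show (mat F ω (x * y)).submatrix e.symm e.symm =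
          (mat F ω x).submatrix e.symm e.symm * (mat F ω y).submatrix e.symm e.symm
        rw [map_mul, Matrix.submatrix_mul_equiv]) }
  have hmem : ∀ x, R x ∈ Cfsg.SU 9 F 2 := fun x u v => by
    obtain ⟨A, hA⟩ : ∃ A, (mat F ω x).submatrix e.symm e.symm = A := ⟨_, rfl⟩
    have hval : slToMat 9 F (R x) = A := hA
    have hAA : Aᵀ * A.map φ = 1 := by
      rw [← hA, Matrix.transpose_submatrix, ← Matrix.submatrix_map, Matrix.submatrix_mul_equiv,
        unitary hF hω φ hφ x, Matrix.submatrix_one_equiv]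
    rw [hval]
    have hform : ∀ u v : Fin 9 → F, hermForm 9 F 2 u v = u ⬝ᵥ (φ ∘ v) := fun u v => rfl
    rw [hform, hform, show φ ∘ (A *ᵥ v) = A.map φ *ᵥ (φ ∘ v) from funext fun i => RingHom.map_mulVec φ A v i,
      Matrix.dotProduct_mulVec, ← Matrix.transpose_transpose A, Matrix.mulVec_transpose, Matrix.vecMul_vecMul,
      Matrix.transpose_transpose, hAA, Matrix.vecMul_one]
  let S : threeJ3 F ω →* Cfsg.SU 9 F 2 := R.codRestrict _ hmem
  have hS : Function.Injective S := fun x y h => by
    have h1 : (mat F ω x).submatrix e.symm e.symm = (mat F ω y).submatrix e.symm e.symm :=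
      congrArg (fun z : Cfsg.SU 9 F 2 => (z.1 : Matrix (Fin 9) (Fin 9) F)) h
    refine mat_inj (Matrix.ext fun i j => ?_)
    have h2 := congrFun (congrFun h1 (e i)) (e j)
    rwa [Matrix.submatrix_apply, Matrix.submatrix_apply, e.symm_apply_apply, e.symm_apply_apply] at h2
  refine ⟨S.range, ?_⟩
  let ψ : threeJ3 F ω ≃* S.range := MonoidHom.ofInjective hS
  have hc : (Subgroup.center (threeJ3 F ω)).map ψ.toMonoidHom = Subgroup.center S.range := by
    ext x
    constructor
    · rintro ⟨y, hy, rfl⟩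
      refine Subgroup.mem_center_iff.2 fun g => ?_
      obtain ⟨g, rfl⟩ := ψ.surjective g
      show ψ g * ψ y = ψ y * ψ g
      rw [← map_mul, ← map_mul, Subgroup.mem_center_iff.1 hy]
    · intro hx
      refine ⟨ψ.symm x, Subgroup.mem_center_iff.2 fun g => ψ.injective ?_, ψ.apply_symm_apply x⟩
      rw [map_mul, map_mul, ψ.apply_symm_apply, Subgroup.mem_center_iff.1 hx]
  refine ⟨?_, ?_⟩
  · rw [← hc, ← Nat.card_congr (Subgroup.equivMapOfInjective _ ψ.toMonoidHom ψ.injective).toEquiv, card_center hF hω]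
  · let q : J3 F ω ≃* S.range ⧸ Subgroup.center S.range := QuotientGroup.congr _ _ ψ hc
    haveI := simple_J3 hF hω
    haveI : Nontrivial (S.range ⧸ Subgroup.center S.range) := q.symm.toEquiv.nontrivial
    exact ⟨IsSimpleGroup.isSimpleGroup_of_surjective q.toMonoidHom q.surjective,
      (Nat.card_congr q.symm.toEquiv).trans (card_J3 hF hω)⟩


omit hF hω in
/-- The field with four elements. -/
theorem galois_four : ∃ (K : Type) (_ : Field K) (_ : Fintype K) (η : K),
    Fintype.card K = 4 ∧ η ^ 2 + η + 1 = 0 := by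
  classical
  haveI : Fact (Nat.Prime 2) := ⟨Nat.prime_two⟩
  letI : Fintype (GaloisField 2 2) := Fintype.ofFinite _
  have h4 : Fintype.card (GaloisField 2 2) = 4 := by
    rw [← Nat.card_eq_fintype_card, GaloisField.card 2 2 (by norm_num)]; norm_num
  obtain ⟨x, hx⟩ : ∃ x : GaloisField 2 2, x ∉ ({0, 1} : Finset (GaloisField 2 2)) := by
    by_contra h
    push Not at h
    have h1 := Finset.card_le_card (show (Finset.univ : Finset (GaloisField 2 2)) ⊆ {0, 1} from fun y _ => h y)
    rw [Finset.card_univ, h4] at h1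
    have h2 := (Finset.card_le_two (a := (0 : GaloisField 2 2)) (b := 1))
    omega
  simp only [Finset.mem_insert, Finset.mem_singleton, not_or] at hx
  refine ⟨GaloisField 2 2, inferInstance, inferInstance, x, h4, ?_⟩
  have h3 := FiniteField.pow_card_sub_one_eq_one x hx.1
  rw [h4] at h3
  refine (mul_eq_zero.1 (show (x - 1) * (x ^ 2 + x + 1) = 0 from ?_)).resolve_left (sub_ne_zero.2 hx.2)
  linear_combination h3

end CfsgLib.J3Mult
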