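import Cfsg.Agent.J3Mult.Multiplier
import Cfsg.Agent.J3Mult.Unitary

set_option autoImplicit false

/-!
The group over any field with four elements is that over a field of the lowest universe.
-/

namespace CfsgLib.J3Mult

open Cfsg.Spor H29.ThreeJ

universe u

theorem exists_model {K : Type u} [Field K] [Fintype K] (hK : Fintype.card K = 4) (η : K)
    (hη : η ^ 2 + η + 1 = 0) : ∃ (F : Type) (_ : Field F) (_ : Fintype F) (ω : F),
      Fintype.card F = 4 ∧ ω ^ 2 + ω + 1 = 0 ∧ Nonempty (J3 F ω ≃* J3 K η) := by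
  classical
  haveI : Fact (Nat.Prime 2) := ⟨Nat.prime_two⟩
  letI : Fintype (GaloisField 2 2) := Fintype.ofFinite _
  have h4 : Fintype.card (GaloisField 2 2) = 4 := by
    rw [← Nat.card_eq_fintype_card, GaloisField.card 2 2 (by norm_num)]; norm_num
  let e : GaloisField 2 2 ≃+* K := FiniteField.ringEquivOfCardEq (h4.trans hK.symm)
  obtain ⟨ω₀, hω₀, rfl⟩ : ∃ ω₀ : GaloisField 2 2, ω₀ ^ 2 + ω₀ + 1 = 0 ∧ e ω₀ = η :=
    ⟨e.symm η, e.injective (by simpa using hη), e.apply_symm_apply η⟩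
  obtain ⟨φ⟩ := cover_iso (ω := ω₀) e
  refine ⟨GaloisField 2 2, inferInstance, inferInstance, ω₀, h4, hω₀, ⟨QuotientGroup.congr _ _ φ ?_⟩⟩
  ext x
  constructor
  · rintro ⟨y, hy, rfl⟩
    refine Subgroup.mem_center_iff.2 fun g => ?_
    obtain ⟨g, rfl⟩ := φ.surjective g
    show φ g * φ y = φ y * φ g
    rw [← map_mul, ← map_mul, Subgroup.mem_center_iff.1 hy]
  · intro hx
    refine ⟨φ.symm x, Subgroup.mem_center_iff.2 fun g => φ.injective ?_, φ.apply_symm_apply x⟩
    rw [map_mul, map_mul, φ.apply_symm_apply, Subgroup.mem_center_iff.1 hx]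

end CfsgLib.J3Mult
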