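import Cfsg.Agent.J3Mult.Group

set_option autoImplicit false
set_option maxRecDepth 100000

/-!
The orders of the triple cover, of its centre and of the quotient.
-/

namespace CfsgLib.J3Mult

open Cfsg.Spor H29.ThreeJ Matrix

theorem colZero_lt (g : ℕ) : colZero g < 2 ^ 18 := by
  have hd : ∀ i, digB (rowN g i) 0 < 4 := fun i => by rw [digB_eq]; exact dig_lt _ _
  have := hd 0; have := hd 1; have := hd 2; have := hd 3; have := hd 4
  have := hd 5; have := hd 6; have := hd 7; have := hd 8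
  simp only [colZero, List.range_succ, List.range_zero, List.nil_append, List.cons_append, List.foldr_cons,
    List.foldr_nil]
  norm_num
  omega

theorem dig_colZero (g : ℕ) {k : ℕ} (hk : k < 9) : dig (colZero g) k = digB (rowN g k) 0 := by
  have hd : ∀ i, digB (rowN g i) 0 < 4 := fun i => by rw [digB_eq]; exact dig_lt _ _
  have := hd 0; have := hd 1; have := hd 2; have := hd 3; have := hd 4
  have := hd 5; have := hd 6; have := hd 7; have := hd 8
  simp only [colZero, List.range_succ, List.range_zero, List.nil_append, List.cons_append, List.foldr_cons,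
    List.foldr_nil]
  interval_cases k <;> norm_num [dig] <;> omega

variable {F : Type} [Field F] [Fintype F] {ω : F} (hF : Fintype.card F = 4) (hω : ω ^ 2 + ω + 1 = 0)

include hF hω

theorem kv_colZero (g : ℕ) (z : F9) : κv ω (colZero g) z = toM ω g z 0 := by
  show κ ω (dig (colZero g) (ix z)) = κ ω (dig (rowN g (ix z)) (ix 0))
  rw [dig_colZero g (ix_lt z), digB_eq]
  rfl

theorem omega_cube : ω ^ 3 = 1 := by linear_combination (ω - 1) * hω

theorem omV_three {x : ℕ} (hx : x < 2 ^ 18) : omV (omV (omV x)) = x :=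
  J3Mult.kv_inj hF hω (omV_lt _) hx (by
    rw [kv_omV hF hω, kv_omV hF hω, kv_omV hF hω, smul_smul, smul_smul,
      show ω * ω * ω = ω ^ 3 by ring, omega_cube hF hω, one_smul])

theorem valR_eq {i j a : ℕ} (ha : a < 6480) (e : toM ω (rep j) = toM ω (rep i) * toM ω (hEl a)) :
    valR j = valR i := by
  have hfix : cminV (colZero (hEl a)) = 1 := by
    have h := fixed_ok
    simp only [okFixed, List.all_eq_true, List.mem_range, Nat.beq_eq] at h
    exact h a ha
  set x := colZero (hEl a) with hx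
  have hxl : x < 2 ^ 18 := colZero_lt _
  have hc : x = 1 ∨ omV x = 1 ∨ omV (omV x) = 1 := by
    rw [cminV] at hfix
    rcases min_choice x (min (omV x) (omV (omV x))) with h | h
    · exact Or.inl (h ▸ hfix)
    · rw [h] at hfix
      rcases min_choice (omV x) (omV (omV x)) with h | h
      · exact Or.inr (Or.inl (h ▸ hfix))
      · exact Or.inr (Or.inr (h ▸ hfix))
  have hcol : κv ω (colZero (rep j)) = toM ω (rep i) *ᵥ κv ω x := by
    funext z
    rw [kv_colZero hF hω, e, Matrix.mul_apply, Matrix.mulVec, dotProduct]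
    simp only [hx, kv_colZero hF hω]
  have h1 : toM ω (rep i) *ᵥ κv ω 1 = κv ω (colZero (rep i)) := by
    funext z
    rw [J3Mult.kv_single hF hω, Matrix.mulVec_single_one, kv_colZero hF hω]
    rfl
  set y := colZero (rep i) with hy
  have hyl : y < 2 ^ 18 := colZero_lt _
  have hcm : ∀ u, u < 2 ^ 18 → cminV (omV u) = cminV u := fun u hu => by
    rw [cminV, cminV, omV_three hF hω hu]; omega
  show cminV (colZero (rep j)) = cminV y
  rcases hc with h | h | h
  · rw [h, h1] at hcol
    rw [J3Mult.kv_inj hF hω (colZero_lt _) hyl hcol]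
  · rw [show x = omV (omV 1) by rw [← h, omV_three hF hω hxl], kv_omV hF hω, kv_omV hF hω, mulVec_smul,
      mulVec_smul, h1, ← kv_omV hF hω, ← kv_omV hF hω] at hcol
    rw [J3Mult.kv_inj hF hω (colZero_lt _) (omV_lt _) hcol, hcm _ (omV_lt _), hcm _ hyl]
  · rw [show x = omV 1 by rw [← h, omV_three hF hω hxl], kv_omV hF hω, mulVec_smul, h1, ← kv_omV hF hω] at hcol
    rw [J3Mult.kv_inj hF hω (colZero_lt _) (omV_lt _) hcol, hcm _ hyl]

omit hF hω in
theorem index_eq_of_valR {i j : ℕ} (hi : i < 23256) (hj : j < 23256) (e : valR i = valR j) : i = j := by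
  have hmono : ∀ a b, a < b → b < 23256 → valR (fieldAt idxTab 15 a) < valR (fieldAt idxTab 15 b) := by
    intro a b hab hb
    induction b with
    | zero => omega
    | succ b ih =>
      have h1 : valR (fieldAt idxTab 15 b) < valR (fieldAt idxTab 15 (b + 1)) :=
        (distinct_spec (k := b) (by omega)).2.2.resolve_left (by omega)
      rcases Nat.lt_succ_iff_lt_or_eq.1 hab with h2 | h2
      · exact (ih h2 (by omega)).trans h1
      · rw [h2]; exact h1
  obtain ⟨hi1, hi2, -⟩ := distinct_spec hi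
  obtain ⟨hj1, hj2, -⟩ := distinct_spec hj
  rcases lt_trichotomy (fieldAt rankTab 15 i) (fieldAt rankTab 15 j) with h3 | h3 | h3
  · have := hmono _ _ h3 hj1; rw [hi2, hj2, e] at this; exact absurd this (lt_irrefl _)
  · rw [← hi2, h3, hj2]
  · have := hmono _ _ h3 hi1; rw [hi2, hj2, e] at this; exact absurd this (lt_irrefl _)

omit hF hω in
variable (F ω) in
/-- The representatives. -/
noncomputable def reprs : Fin 23256 → threeJ3 F ω := fun i => elk F ω (rep i.val)

theorem gen_mem_keep {k : ℕ} (hk : k < 2) :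
    elk F ω (gens.getD k oneC) ∈ keepSub (stabH F ω) (reprs F ω) := by
  refine mem_keepSub fun i => ?_
  have key : ∀ T : List (List ℕ), okEntry (gens.getD k oneC) i.val (fieldAt T 28 i.val) = true →
      ∃ j, ∃ p ∈ stabH F ω, elk F ω (gens.getD k oneC) * reprs F ω i = reprs F ω j * p := fun T h => by
    simp only [okEntry, Bool.and_eq_true, Nat.blt_eq, Nat.beq_eq] at h
    refine ⟨⟨_, h.1.1⟩, _, hEl_mem hF hω _ h.1.2, ?_⟩
    show elk F ω (gens.getD k oneC) * elk F ω (rep i.val) = elk F ω (rep _) * _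
    rw [elk_mul hF hω (att_gen hF hω hk) (att_rep hF hω _ i.2),
      elk_mul hF hω (att_rep hF hω _ h.1.1) (att_hEl hF hω _ h.1.2), h.2]
  interval_cases k
  · exact key tblU (tblU_spec i.2)
  · exact key tblV (tblV_spec i.2)

theorem rep_mem_keep : ∀ i, i < 23256 → elk F ω (rep i) ∈ keepSub (stabH F ω) (reprs F ω) := by
  intro i
  induction i using Nat.strong_induction_on with
  | _ i ih =>
    intro hi
    rcases Nat.eq_zero_or_pos i with rfl | hp
    · rw [(parents_spec (k := 0) (by norm_num)).1, elk_one hF hω]; exact one_mem _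
    · obtain ⟨k, rfl⟩ : ∃ k, i = k + 1 := ⟨i - 1, by omega⟩
      obtain ⟨-, h1, h2⟩ := parents_spec (k := k) (by omega)
      have hm : parent (k + 1) % 2 < 2 := Nat.mod_lt _ (by norm_num)
      rw [← h2, ← elk_mul hF hω (att_gen hF hω hm) (att_rep hF hω _ (by omega))]
      exact mul_mem (gen_mem_keep hF hω hm) (ih _ h1 (by omega))

theorem stab_le_keep : stabH F ω ≤ keepSub (stabH F ω) (reprs F ω) := by
  refine (Subgroup.closure_le _).2 ?_
  rintro g ⟨k, rfl⟩
  have h := data_ok
  simp only [okData, Bool.and_eq_true, Nat.beq_eq, List.all_eq_true, List.mem_range, Nat.blt_eq] at h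
  obtain ⟨⟨⟨⟨⟨⟨-, h4⟩, h5⟩, -⟩, -⟩, -⟩, -⟩ := h
  obtain ⟨h6, h7⟩ := h5 k k.2
  show elk F ω (hGens.getD k.val oneC) ∈ _
  rw [h4 k k.2]
  generalize (hGenSrc.getD k.val (0, 0)).1 = t at h6 ⊢
  generalize (hGenSrc.getD k.val (0, 0)).2 = i at h7 ⊢
  have key : ∀ (c : ℕ) (T : List (List ℕ)), c < 2 → okEntry (gens.getD c oneC) i (fieldAt T 28 i) = true →
      elk F ω (hEl (eH (fieldAt T 28 i))) ∈ keepSub (stabH F ω) (reprs F ω) := fun c T hc he => by
    simp only [okEntry, Bool.and_eq_true, Nat.blt_eq, Nat.beq_eq] at he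
    have h8 : elk F ω (rep (eJ (fieldAt T 28 i))) * elk F ω (hEl (eH (fieldAt T 28 i))) ∈
        keepSub (stabH F ω) (reprs F ω) := by
      rw [elk_mul hF hω (att_rep hF hω _ he.1.1) (att_hEl hF hω _ he.1.2), ← he.2,
        ← elk_mul hF hω (att_gen hF hω hc) (att_rep hF hω _ h7)]
      exact mul_mem (gen_mem_keep hF hω hc) (rep_mem_keep hF hω _ h7)
    exact (Subgroup.mul_mem_cancel_left _ (rep_mem_keep hF hω _ he.1.1)).1 h8
  interval_cases t
  · exact key 0 tblU (by norm_num) (tblU_spec h7)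
  · exact key 1 tblV (by norm_num) (tblV_spec h7)

theorem base_split {b : ℕ} (hb : b < 6) : (baseCodes.getD b (0, 0, 0)).2.1 < 23256 ∧
    (baseCodes.getD b (0, 0, 0)).2.2 < 6480 ∧ (baseCodes.getD b (0, 0, 0)).1 =
      mulC (rep (baseCodes.getD b (0, 0, 0)).2.1) (hEl (baseCodes.getD b (0, 0, 0)).2.2) := by
  have h := data_ok
  simp only [okData, Bool.and_eq_true, Nat.beq_eq, List.all_eq_true, Nat.blt_eq] at h
  obtain ⟨⟨⟨⟨⟨⟨⟨-, h3⟩, -⟩, -⟩, -⟩, -⟩, -⟩, -⟩ := h
  have hlen : b < baseCodes.length := hb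
  rw [List.getD_eq_getElem _ _ hlen]
  obtain ⟨⟨h1, h2⟩, h4⟩ := h3 _ (List.getElem_mem hlen)
  exact ⟨h1, h2, h4⟩

theorem att_base' {b : ℕ} (hb : b < 6) : Att F ω (baseCodes.getD b (0, 0, 0)).1 := by
  obtain ⟨h1, h2, h3⟩ := base_split hF hω hb
  rw [h3]; exact att_mul hF hω (att_rep hF hω _ h1) (att_hEl hF hω _ h2)

omit hF hω in
variable (F ω) in
/-- The base elements. -/
noncomputable def bEl (b : ℕ) : threeJ3 F ω := elk F ω (baseCodes.getD b (0, 0, 0)).1

theorem mat_bEl {b : ℕ} (hb : b < 6) : mat F ω (bEl F ω b) = baseMat F ω b := by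
  rw [bEl, mat_elk (att_base' hF hω hb), base_code hF hω hb]

theorem word_prod (g : threeJ3 F ω) : ∃ w : List ℕ, (∀ b ∈ w, b < 6) ∧ g = (w.map (bEl F ω)).prod := by
  obtain ⟨w, hw, e⟩ := mem_word hF hω wTabs g.2
  refine ⟨w, hw, mat_inj ?_⟩
  rw [map_list_prod, List.map_map]
  refine Eq.trans (show mat F ω g = _ from e) (congrArg List.prod (List.map_congr_left fun b hb => ?_))
  exact (mat_bEl hF hω (hw b hb)).symm

theorem keep_top : keepSub (stabH F ω) (reprs F ω) = ⊤ := by
  refine eq_top_iff.2 fun g _ => ?_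
  obtain ⟨w, hw, rfl⟩ := word_prod hF hω g
  refine list_prod_mem fun y hy => ?_
  obtain ⟨b, hb, rfl⟩ := List.mem_map.1 hy
  obtain ⟨h1, h2, h3⟩ := base_split hF hω (hw b hb)
  rw [bEl, h3, ← elk_mul hF hω (att_rep hF hω _ h1) (att_hEl hF hω _ h2)]
  exact mul_mem (rep_mem_keep hF hω _ h1) (stab_le_keep hF hω (hEl_mem hF hω _ h2))

theorem card_cover : Nat.card (threeJ3 F ω) = 150698880 := by
  haveI : Finite (threeJ3 F ω) := finite_cover
  rw [card_eq_of_reps (keep_top hF hω) ⟨0, by norm_num⟩ fun i j h => ?_, Fintype.card_fin, card_stab hF hω]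
  obtain ⟨a, ha⟩ := stab_listed hF hω h
  have e : reprs F ω j = reprs F ω i * elk F ω (hEl a.val) := by rw [ha, mul_inv_cancel_left]
  refine Fin.ext (index_eq_of_valR i.2 j.2 (valR_eq hF hω a.2 ?_).symm)
  have e1 := congrArg (mat F ω) e
  rwa [map_mul, show mat F ω (reprs F ω j) = _ from mat_elk (att_rep hF hω _ j.2),
    show mat F ω (reprs F ω i) = _ from mat_elk (att_rep hF hω _ i.2), mat_elk (att_hEl hF hω _ a.2)] at e1

/-! ### The centre -/

omit hF hω in
variable (F ω) in
/-- The scalar element. -/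
noncomputable def scal : threeJ3 F ω := bEl F ω 5

theorem mat_scal : mat F ω (scal F ω) = ω • (1 : Matrix F9 F9 F) := by
  rw [scal, mat_bEl hF hω (by norm_num)]
  show Matrix.diagonal (fun _ => ω) = _
  rw [Matrix.smul_one_eq_diagonal]

theorem scal_central : scal F ω ∈ Subgroup.center (threeJ3 F ω) :=
  Subgroup.mem_center_iff.2 fun g => mat_inj (by
    rw [map_mul, map_mul, mat_scal hF hω, Matrix.mul_smul, Matrix.smul_mul, mul_one, one_mul])

theorem orderOf_scal : orderOf (scal F ω) = 3 := by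
  haveI := Fact.mk Nat.prime_three
  refine orderOf_eq_prime (mat_inj ?_) fun h => ?_
  · rw [map_pow, map_one, mat_scal hF hω, smul_pow, omega_cube hF hω, one_smul, one_pow]
  · have h1 := congrFun (congrFun (congrArg (mat F ω) h) 0) 0
    rw [mat_scal hF hω, map_one] at h1
    simp at h1
    exact omega_ne_one hF hω h1

theorem commute_word {z : threeJ3 F ω} (hz : z ∈ Subgroup.center (threeJ3 F ω)) {M : Matrix F9 F9 F}
    (hM : M ∈ j3Gens F ω) : mat F ω z * M = M * mat F ω z := by
  obtain ⟨w, hw, rfl⟩ := gens_word hF hω wTabs hM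
  have e : (w.map (baseMat F ω)).prod = mat F ω (w.map (bEl F ω)).prod := by
    rw [map_list_prod, List.map_map]
    exact congrArg List.prod (List.map_congr_left fun b hb => (mat_bEl hF hω (hw b hb)).symm)
  rw [e, ← map_mul, ← map_mul, Subgroup.mem_center_iff.1 hz]

theorem central_smul {z : threeJ3 F ω} (hz : z ∈ Subgroup.center (threeJ3 F ω)) :
    ∃ c : F, mat F ω z = c • (1 : Matrix F9 F9 F) := by
  obtain ⟨M, hMdef⟩ : ∃ M, mat F ω z = M := ⟨_, rfl⟩
  rw [hMdef]
  have hcom : ∀ N ∈ j3Gens F ω, M * N = N * M := fun N hN => hMdef ▸ commute_word hF hω hz hN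
  have hoff : ∀ w x : F9, w ≠ x → M w x = 0 := fun w x hne => by
    have hsep : ∀ w x : F9, w ≠ x → ∃ Z : F9, Z.1 * w.1 + Z.2 * w.2 ≠ Z.1 * x.1 + Z.2 * x.2 := by decide
    obtain ⟨Z, hZ⟩ := hsep w x hne
    have h := congrFun (congrFun
      (hcom (j3A F ω Z) (Or.inl (Or.inl (Or.inl (Or.inl ⟨_, rfl⟩))))) w) x
    rw [j3A, Matrix.mul_diagonal, Matrix.diagonal_mul] at h
    have hne' : omegaPow F ω (Z.1 * w.1 + Z.2 * w.2) ≠ omegaPow F ω (Z.1 * x.1 + Z.2 * x.2) := by
      intro e
      refine hZ ?_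
      have h1 : ω ≠ 1 := omega_ne_one hF hω
      have h2 : orderOf ω = 3 := by
        haveI := Fact.mk Nat.prime_three
        exact orderOf_eq_prime (omega_cube hF hω) h1
      refine ZMod.val_injective 3 ?_
      refine pow_injOn_Iio_orderOf ?_ ?_ e <;> rw [Set.mem_Iio, h2] <;> exact ZMod.val_lt _
    rw [mul_comm, ← sub_eq_zero, ← sub_mul] at h
    exact (mul_eq_zero.1 h).resolve_left (sub_ne_zero.2 (Ne.symm hne'))
  have hdiag : ∀ w : F9, M w w = M 0 0 := fun w => by
    have h := congrFun (congrFun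
      (hcom (j3D F ω w) (Or.inl (Or.inl (Or.inr ⟨_, rfl⟩)))) w) 0
    rw [Matrix.mul_apply, Matrix.mul_apply, Finset.sum_eq_single w, Finset.sum_eq_single 0] at h
    · have hl : j3D F ω w w 0 = j3Lam F ω w 0 := by simp [j3D]
      rw [hl, mul_comm] at h
      have hl0 : j3Lam F ω w 0 ≠ 0 := by simp [j3Lam]
      exact mul_left_cancel₀ hl0 h
    · exact fun y _ hy => by rw [hoff y 0 hy, mul_zero]
    · simp
    · exact fun y _ hy => by rw [hoff w y (Ne.symm hy), zero_mul]
    · simp
  refine ⟨M 0 0, Matrix.ext fun w x => ?_⟩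
  rcases eq_or_ne w x with rfl | hne
  · simp [hdiag w]
  · simp [hoff w x hne, hne]

theorem center_eq : Subgroup.center (threeJ3 F ω) = Subgroup.zpowers (scal F ω) := by
  refine le_antisymm (fun z hz => ?_) (Subgroup.zpowers_le.2 (scal_central hF hω))
  obtain ⟨c, hc⟩ := central_smul hF hω hz
  have hc0 : c ≠ 0 := fun e => by
    have h1 : mat F ω z * mat F ω z⁻¹ = 1 := by rw [← map_mul, mul_inv_cancel, map_one]
    rw [hc, e, zero_smul, zero_mul] at h1
    exact zero_ne_one (congrFun (congrFun h1 0) 0)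
  have hc3 : c ^ 3 = 1 := by
    have := FiniteField.pow_card_sub_one_eq_one c hc0
    rwa [hF] at this
  have hz' : (c - 1) * ((c - ω) * (c - ω * ω)) = 0 := by
    linear_combination hc3 + (-c ^ 2 + c * ω - (ω - 1)) * hω
  simp only [mul_eq_zero, sub_eq_zero] at hz'
  rcases hz' with e | e | e <;> rw [e] at hc
  · rw [show z = 1 from mat_inj (by rw [hc, one_smul, map_one])]; exact one_mem _
  · rw [show z = scal F ω from mat_inj (by rw [hc, mat_scal hF hω])]; exact Subgroup.mem_zpowers _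
  · rw [show z = scal F ω * scal F ω from mat_inj (by
      rw [hc, map_mul, mat_scal hF hω, smul_mul_smul_comm, one_mul])]
    exact mul_mem (Subgroup.mem_zpowers _) (Subgroup.mem_zpowers _)

theorem card_center : Nat.card (Subgroup.center (threeJ3 F ω)) = 3 := by
  rw [center_eq hF hω, Nat.card_zpowers, orderOf_scal hF hω]

theorem card_J3 : Nat.card (J3 F ω) = 50232960 := by
  have h := Subgroup.card_eq_card_quotient_mul_card_subgroup (Subgroup.center (threeJ3 F ω))
  rw [card_cover hF hω, card_center hF hω] at h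
  show Nat.card (threeJ3 F ω ⧸ Subgroup.center (threeJ3 F ω)) = 50232960
  omega

end CfsgLib.J3Mult
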