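import Cfsg.Agent.J3Mult.Inv
import Cfsg.Agent.J3Mult.InvSol0
import Cfsg.Agent.J3Mult.InvSol1
import Cfsg.Agent.J3Mult.Unitary
import Cfsg.Prelude.Def_KGroupFacts

set_option autoImplicit false
set_option maxRecDepth 100000

/-!
The automorphism group of the Janko group.
-/

namespace CfsgLib.J3Mult

open Cfsg Cfsg.Spor H29.ThreeJ Matrix

/-- The trace of the element of order nineteen lies outside the prime field; the field automorphism fixes the
group. -/
def okFrob : Bool :=
  ((List.range 6).all fun b => (List.range 9).all fun i => (List.range 9).all fun j =>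
    Nat.beq (digB (rowN (frobCodes.getD b (oneC, 0, 0)).1 i) j)
      (mul4 (cBase b ((fz i).1, -(fz i).2) ((fz j).1, -(fz j).2)) (cBase b ((fz i).1, -(fz i).2) ((fz j).1, -(fz j).2)))) &&
  Nat.blt 1 (xorSum (fun i => digB (rowN ltX.1 i) i) 9)

theorem frob_ok : okFrob = true := by decide +kernel

theorem sol_spec {i : ℕ} (hi : i < 1539) :
    ((!(relPair eltX.1 (invAt (17 * i))) || solIdx.contains i) &&
      !(relPair (mulC (mulC eltX.1 eltX.1) eltX.1) (invAt (17 * i)))) = true := by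
  have key : ∀ s n, okSol s n = true → s ≤ i → i < s + n →
      ((!(relPair eltX.1 (invAt (17 * i))) || solIdx.contains i) &&
        !(relPair (mulC (mulC eltX.1 eltX.1) eltX.1) (invAt (17 * i)))) = true := fun s n h h1 h2 => by
    simp only [okSol, List.all_eq_true, List.mem_range] at h
    have h3 := h (i - s) (by omega)
    rwa [Nat.add_sub_cancel' h1] at h3
  by_cases h0 : i < 81
  · exact key _ _ invSol0_ok (by omega) (by omega)
  by_cases h1 : i < 162
  · exact key _ _ invSol1_ok (by omega) (by omega)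
  by_cases h2 : i < 243
  · exact key _ _ invSol2_ok (by omega) (by omega)
  by_cases h3 : i < 324
  · exact key _ _ invSol3_ok (by omega) (by omega)
  by_cases h4 : i < 405
  · exact key _ _ invSol4_ok (by omega) (by omega)
  by_cases h5 : i < 486
  · exact key _ _ invSol5_ok (by omega) (by omega)
  by_cases h6 : i < 567
  · exact key _ _ invSol6_ok (by omega) (by omega)
  by_cases h7 : i < 648
  · exact key _ _ invSol7_ok (by omega) (by omega)
  by_cases h8 : i < 729
  · exact key _ _ invSol8_ok (by omega) (by omega)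
  by_cases h9 : i < 810
  · exact key _ _ invSol9_ok (by omega) (by omega)
  by_cases h10 : i < 891
  · exact key _ _ invSol10_ok (by omega) (by omega)
  by_cases h11 : i < 972
  · exact key _ _ invSol11_ok (by omega) (by omega)
  by_cases h12 : i < 1053
  · exact key _ _ invSol12_ok (by omega) (by omega)
  by_cases h13 : i < 1134
  · exact key _ _ invSol13_ok (by omega) (by omega)
  by_cases h14 : i < 1215
  · exact key _ _ invSol14_ok (by omega) (by omega)
  by_cases h15 : i < 1296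
  · exact key _ _ invSol15_ok (by omega) (by omega)
  by_cases h16 : i < 1377
  · exact key _ _ invSol16_ok (by omega) (by omega)
  by_cases h17 : i < 1458
  · exact key _ _ invSol17_ok (by omega) (by omega)
  exact key _ _ invSol18_ok (by omega) (by omega)

theorem pow_classes : ∀ k : Fin 17, k.val ≠ 0 → ∃ i : Fin 8, k.val = 2 ^ i.val % 17 ∨ k.val = 3 * 2 ^ i.val % 17 := by
  decide

variable {F : Type} [Field F] [Fintype F] {ω : F} (hF : Fintype.card F = 4) (hω : ω ^ 2 + ω + 1 = 0)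

/-- The relations of the pair. -/
def RelG {G : Type*} [Group G] (a b : G) : Prop := (a * b) * (a * b) * (a * b) = 1 ∧
  (a * a * a * b) * (a * a * a * b) * ((a * a * a * b) * (a * a * a * b)) * (a * a * a * b) = 1

theorem relG_map {G H : Type*} [Group G] [Group H] (f : G ≃* H) (a b : G) : RelG (f a) (f b) ↔ RelG a b := by
  simp only [RelG, ← map_mul, map_eq_one_iff f f.injective]

include hF hω

theorem relG_iff {r b : ℕ} (hr : Att F ω r) (hb : Att F ω b) :
    relPair r b = true ↔ RelG (qel F ω r) (qel F ω b) := by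
  have hu := att_mul hF hω hr hb
  have hv := att_mul hF hω (att_mul hF hω (att_mul hF hω hr hr) hr) hb
  have h2 := att_mul hF hω hv hv
  rw [relPair, Bool.and_eq_true, cubeCentral, fifthCentral,
    cent_iff hF hω (att_mul hF hω (att_mul hF hω hu hu) hu) (wf_mulC _ _),
    cent_iff hF hω (att_mul hF hω (att_mul hF hω h2 h2) hv) (wf_mulC _ _),
    ← qel_mul hF hω (att_mul hF hω hu hu) hu, ← qel_mul hF hω hu hu, ← qel_mul hF hω (att_mul hF hω h2 h2) hv,
    ← qel_mul hF hω h2 h2, ← qel_mul hF hω hv hv, ← qel_mul hF hω hr hb,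
    ← qel_mul hF hω (att_mul hF hω (att_mul hF hω hr hr) hr) hb, ← qel_mul hF hω (att_mul hF hω hr hr) hr,
    ← qel_mul hF hω hr hr]
  rfl

theorem iv_step {i j : ℕ} (hi : i < 1539) (hj : j < 16) :
    qel F ω eltX.1 * iv F ω (17 * i + j) = iv F ω (17 * i + j + 1) * qel F ω eltX.1 := by
  have a1 := (inv_conj hF hω (show 17 * i + j < 26163 by omega)).1
  have a2 := (inv_conj hF hω (show 17 * i + j + 1 < 26163 by omega)).1
  rw [iv_def, iv_def, qel_mul hF hω (att_X hF hω) a1, qel_mul hF hω a2 (att_X hF hω), invOrbit_spec hi hj]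

theorem iv_orbit {i : ℕ} (hi : i < 1539) : ∀ j, j < 17 →
    iv F ω (17 * i + j) = qel F ω eltX.1 ^ j * iv F ω (17 * i) * (qel F ω eltX.1 ^ j)⁻¹
  | 0, _ => by simp
  | j + 1, hj => by
    have h := iv_step hF hω hi (show j < 16 by omega)
    rw [show 17 * i + (j + 1) = 17 * i + j + 1 by omega, ← mul_inv_eq_iff_eq_mul.2 h, iv_orbit hi j (by omega), pow_succ']
    group

theorem sol_of_rel {b : J3 F ω} (hb : b * b = 1) (hb1 : b ≠ 1) :
    (RelG (qel F ω eltX.1) b → ∃ i ∈ solIdx, ∃ j < 17, b = iv F ω (17 * i + j)) ∧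
      ¬ RelG (qel F ω eltX.1 * qel F ω eltX.1 * qel F ω eltX.1) b := by
  obtain ⟨m, hm, rfl⟩ := inv_listed hF hω hb hb1
  obtain ⟨i, j, hi, hj, rfl⟩ : ∃ i j, i < 1539 ∧ j < 17 ∧ m = 17 * i + j :=
    ⟨m / 17, m % 17, by omega, Nat.mod_lt _ (by norm_num), (Nat.div_add_mod m 17).symm⟩
  have h := sol_spec hi
  simp only [Bool.and_eq_true, Bool.or_eq_true, Bool.not_eq_true', List.contains_eq_mem, decide_eq_true_eq] at h
  obtain ⟨x, hx⟩ : ∃ x, qel F ω eltX.1 = x := ⟨_, rfl⟩
  have ho := iv_orbit hF hω hi j hj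
  rw [hx] at ho ⊢
  have ha0 := (inv_conj hF hω (show 17 * i < 26163 by omega)).1
  have hconj : ∀ r : J3 F ω, x ^ j * r * (x ^ j)⁻¹ = r → RelG r (iv F ω (17 * i + j)) → RelG r (iv F ω (17 * i)) := by
    intro r hr hrel
    rw [ho] at hrel
    have hf := relG_map (MulAut.conj (x ^ j)) r (iv F ω (17 * i))
    rw [MulAut.conj_apply, MulAut.conj_apply, hr] at hf
    exact hf.1 hrel
  have hxx : x ^ j * x * (x ^ j)⁻¹ = x := by group
  refine ⟨fun hrel => ⟨i, ?_, j, hj, rfl⟩, fun hrel => ?_⟩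
  · rcases h.1 with h1 | h1
    · have := (relG_iff hF hω (att_X hF hω) ha0).2 (by rw [hx, ← iv_def]; exact hconj x hxx hrel)
      rw [this] at h1; exact absurd h1 (by decide)
    · exact h1
  · have hA := att_mul hF hω (att_X hF hω) (att_X hF hω)
    have := (relG_iff hF hω (att_mul hF hω hA (att_X hF hω)) ha0).2 (by
      rw [← qel_mul hF hω hA (att_X hF hω), ← qel_mul hF hω (att_X hF hω) (att_X hF hω), hx, ← iv_def]
      exact hconj (x * x * x) (by
        rw [((((Commute.refl x).mul_right (Commute.refl x)).mul_right (Commute.refl x)).pow_left j).eq,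
          mul_inv_cancel_right]) hrel)
    rw [this] at h; exact absurd h.2 (by decide)

theorem pair_generates : Subgroup.closure {qel F ω eltX.1, iv F ω pairIdx} = (⊤ : Subgroup (J3 F ω)) := by
  have h := invBasic_ok
  simp only [okInvBasic, Bool.and_eq_true, Nat.beq_eq, Nat.blt_eq, List.all_eq_true, List.mem_range] at h
  obtain ⟨⟨⟨⟨-, hp⟩, -⟩, -⟩, hw⟩ := h
  have ha := (inv_conj hF hω hp).1
  set N := Subgroup.closure {qel F ω eltX.1, iv F ω pairIdx} with hN
  have hword : ∀ w : List ℕ, Att F ω (prodC (w.map fun s => bif Nat.beq s 0 then eltX.1 else invAt pairIdx)) ∧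
      qel F ω (prodC (w.map fun s => bif Nat.beq s 0 then eltX.1 else invAt pairIdx)) ∈ N := by
    intro w
    induction w with
    | nil =>
      rw [List.map_nil, prodC, List.foldr_nil]
      exact ⟨att_one hF hω, by rw [qel_one hF hω]; exact one_mem _⟩
    | cons s w ih =>
      rw [List.map_cons, prodC_cons]
      rcases Bool.eq_false_or_eq_true (Nat.beq s 0) with h | h <;> rw [h] <;> simp only [cond_true, cond_false]
      · exact ⟨att_mul hF hω (att_X hF hω) ih.1, by
          rw [← qel_mul hF hω (att_X hF hω) ih.1]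
          exact mul_mem (Subgroup.subset_closure (by simp)) ih.2⟩
      · exact ⟨att_mul hF hω ha ih.1, by
          rw [← qel_mul hF hω ha ih.1, ← iv_def]
          exact mul_mem (Subgroup.subset_closure (by simp)) ih.2⟩
  refine top_of_gens hF hω N fun k hk => ?_
  obtain ⟨h1, h2⟩ := hword (pairWords.getD k [])
  have e := congrArg (qel F ω) (hw k hk)
  rw [qel_mc hF hω h1, qel_mc hF hω (att_gen hF hω hk)] at e
  exact e ▸ h2

theorem card_aut_le : Nat.card (MulAut (J3 F ω)) ≤ 2 * 50232960 := by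
  classical
  haveI : Finite (J3 F ω) := finite_J3
  obtain ⟨x, hx⟩ : ∃ x, qel F ω eltX.1 = x := ⟨_, rfl⟩
  obtain ⟨y, hy⟩ : ∃ y, iv F ω pairIdx = y := ⟨_, rfl⟩
  have hxo : orderOf x = 17 := hx ▸ orderOf_qX hF hω
  have hb := invBasic_ok
  simp only [okInvBasic, Bool.and_eq_true, Nat.beq_eq, Nat.blt_eq, List.all_eq_true] at hb
  obtain ⟨⟨⟨⟨⟨-, hn⟩, hp⟩, hlen⟩, hsol⟩, -⟩ := hb
  have hy2 : y * y = 1 ∧ y ≠ 1 := by
    obtain ⟨g, hg⟩ := iv_isConj hF hω hp
    have ho := orderOf_qT (F := F) (ω := ω) hF hω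
    have h2 : qel F ω eltT.1 ^ 2 = 1 := ho ▸ pow_orderOf_eq_one _
    rw [hy] at hg
    refine ⟨?_, fun e => ?_⟩
    · rw [hg, show g * qel F ω eltT.1 * g⁻¹ * (g * qel F ω eltT.1 * g⁻¹) = g * qel F ω eltT.1 ^ 2 * g⁻¹ by rw [pow_two]; group, h2]
      group
    · rw [e] at hg
      rw [conj_eq_one_iff.1 hg.symm, orderOf_one] at ho
      norm_num at ho
  let D := (J3 F ω ⧸ Subgroup.zpowers x) × Fin 2 × Fin 17
  let T : D → J3 F ω × J3 F ω := fun d =>
    (d.1.out * x * d.1.out⁻¹, d.1.out * iv F ω (17 * solIdx.getD d.2.1.val 0 + d.2.2.val) * d.1.out⁻¹)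
  obtain ⟨ν, hν⟩ : ∃ ν, qel F ω eltN.1 = ν := ⟨_, rfl⟩
  have hnx : ν * x * ν⁻¹ = x * x := by
    have hA := att_mul hF hω (att_X hF hω) (att_X hF hω)
    have e := congrArg (qel F ω) hn
    rw [← qel_mul hF hω (att_N hF hω) (att_X hF hω), ← qel_mul hF hω hA (att_N hF hω),
      ← qel_mul hF hω (att_X hF hω) (att_X hF hω), hν, hx] at e
    rw [e, mul_inv_cancel_right]
  have hpow : ∀ i : ℕ, ν ^ i * x * (ν ^ i)⁻¹ = x ^ 2 ^ i := by
    intro i
    induction i with
    | zero => simp
    | succ i ih =>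
      calc ν ^ (i + 1) * x * (ν ^ (i + 1))⁻¹ = ν * (ν ^ i * x * (ν ^ i)⁻¹) * ν⁻¹ := by rw [pow_succ']; group
        _ = (ν * x * ν⁻¹) ^ 2 ^ i := by rw [ih, conj_pow]
        _ = x ^ 2 ^ (i + 1) := by rw [hnx, ← pow_two, ← pow_mul, ← pow_succ']
  have hrange : ∀ α : MulAut (J3 F ω), (α x, α y) ∈ Set.range T := by
    intro α
    haveI : Fact (Nat.Prime 17) := ⟨by norm_num⟩
    have h17 : 17 ∣ Nat.card (J3 F ω) ∧ ¬ 17 ^ 2 ∣ Nat.card (J3 F ω) := by rw [card_J3 hF hω]; norm_num
    have hao : α x ^ 17 = 1 := by rw [← map_pow, ← hxo, pow_orderOf_eq_one, map_one]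
    obtain ⟨g, k, hgk⟩ := conj_pow_of_prime_card h17.1 h17.2 hxo hao
    obtain ⟨l, hl, hkl⟩ : ∃ l : Fin 17, l.val ≠ 0 ∧ x ^ k = x ^ l.val := by
      have h1 := Int.emod_nonneg k (show (17 : ℤ) ≠ 0 by norm_num)
      have h2 := Int.emod_lt_of_pos k (show (0 : ℤ) < 17 by norm_num)
      refine ⟨⟨(k % 17).toNat, by omega⟩, ?_, ?_⟩
      · intro e
        have e0 : k % 17 = 0 := by
          have : (k % 17).toNat = 0 := e
          omega
        have hk1 : x ^ k = 1 := by
          rw [← zpow_mod_orderOf, hxo]; push_cast; rw [e0, zpow_zero]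
        rw [hk1, mul_one, mul_inv_cancel] at hgk
        have hx1 : x = 1 := α.injective (hgk.trans (map_one α).symm)
        rw [hx1, orderOf_one] at hxo
        norm_num at hxo
      · show x ^ k = x ^ (k % 17).toNat
        rw [← zpow_natCast, Int.toNat_of_nonneg h1, ← zpow_mod_orderOf x k, hxo]
        norm_num
    rw [hkl] at hgk
    obtain ⟨i, hi⟩ := pow_classes l hl
    have hmod : ∀ n : ℕ, x ^ (n % 17) = x ^ n := fun n => by rw [← hxo, pow_mod_orderOf]
    have hrel : RelG (α x) (α y) := (relG_map α x y).2 (by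
      have h0 : RelG x y := by
        obtain ⟨a1, -⟩ := inv_conj hF hω hp
        have hsr : relPair eltX.1 (invAt pairIdx) = true := by decide +kernel
        have := (relG_iff hF hω (att_X hF hω) a1).1 hsr
        rwa [hx, ← iv_def, hy] at this
      exact h0)
    have hαy : α y * α y = 1 ∧ α y ≠ 1 :=
      ⟨by rw [← map_mul, hy2.1, map_one], fun e => hy2.2 (α.injective (e.trans (map_one α).symm))⟩
    have hpull : ∀ (h r : J3 F ω), α x = h * r * h⁻¹ → RelG r (h⁻¹ * α y * h) := fun h r e => by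
      have hf := relG_map (MulAut.conj h⁻¹) (α x) (α y)
      rw [MulAut.conj_apply, MulAut.conj_apply, inv_inv, e] at hf
      have := hf.2 (e ▸ hrel)
      rwa [show h⁻¹ * (h * r * h⁻¹) * h = r by group] at this
    have hinv' : ∀ h : J3 F ω, (h⁻¹ * α y * h) * (h⁻¹ * α y * h) = 1 ∧ h⁻¹ * α y * h ≠ 1 := fun h => by
      refine ⟨?_, fun e => hαy.2 ?_⟩
      · rw [show h⁻¹ * α y * h * (h⁻¹ * α y * h) = h⁻¹ * (α y * α y) * h by group, hαy.1]; group
      · rw [show α y = h * (h⁻¹ * α y * h) * h⁻¹ by group, e]; group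
    rcases hi with hi | hi
    · rw [hi, hmod, ← hpow] at hgk
      obtain ⟨c, hc⟩ : ∃ c, (QuotientGroup.mk (g * ν ^ i.val) : J3 F ω ⧸ Subgroup.zpowers x) = c := ⟨_, rfl⟩
      have hc' : (g * ν ^ i.val)⁻¹ * c.out ∈ Subgroup.zpowers x :=
        QuotientGroup.eq.1 (by rw [hc]; exact c.out_eq.symm)
      obtain ⟨e, he⟩ := Subgroup.mem_zpowers_iff.1 hc'
      have hax : α x = c.out * x * c.out⁻¹ := by
        rw [hgk, show c.out = g * ν ^ i.val * x ^ e by rw [he, mul_inv_cancel_left]]
        group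
      have hr := hpull _ _ hax
      obtain ⟨hs, -⟩ := sol_of_rel hF hω (hinv' c.out).1 (hinv' c.out).2
      obtain ⟨s, hs, j, hj, hsj⟩ := hs (hx ▸ hr)
      obtain ⟨q, hq, rfl⟩ := List.getElem_of_mem hs
      refine ⟨(c, ⟨q, hlen ▸ hq⟩, ⟨j, hj⟩), Prod.ext hax.symm ?_⟩
      show c.out * iv F ω (17 * solIdx.getD q 0 + j) * c.out⁻¹ = α y
      rw [List.getD_eq_getElem _ _ hq, ← hsj]
      group
    · rw [hi, hmod, mul_comm 3, pow_mul, ← hpow, conj_pow] at hgk
      have hr := hpull (g * ν ^ i.val) (x ^ 3) (by rw [hgk]; group)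
      obtain ⟨-, hs⟩ := sol_of_rel hF hω (hinv' (g * ν ^ i.val)).1 (hinv' (g * ν ^ i.val)).2
      exact absurd (show RelG (qel F ω eltX.1 * qel F ω eltX.1 * qel F ω eltX.1) _ by
        rw [hx, ← pow_two, ← pow_succ]; exact hr) hs
  have hgen := pair_generates (F := F) (ω := ω) hF hω
  rw [hx, hy] at hgen
  let E : MulAut (J3 F ω) → Set.range T := fun α => ⟨(α x, α y), hrange α⟩
  have hE : Function.Injective E := fun α β e => by
    have e1 : α x = β x := congrArg (fun p : Set.range T => p.1.1) e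
    have e2 : α y = β y := congrArg (fun p : Set.range T => p.1.2) e
    exact MulEquiv.toMonoidHom_injective (MonoidHom.eq_of_eqOn_dense hgen (by
      rintro z (rfl | rfl)
      · exact e1
      · exact e2))
  haveI : Finite D := inferInstance
  refine (Nat.card_le_card_of_injective E hE).trans ((Finite.card_range_le T).trans (le_of_eq ?_))
  have h := Subgroup.card_eq_card_quotient_mul_card_subgroup (Subgroup.zpowers x)
  rw [card_J3 hF hω, Nat.card_zpowers, hxo] at h
  show Nat.card ((J3 F ω ⧸ Subgroup.zpowers x) × Fin 2 × Fin 17) = _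
  rw [Nat.card_prod, Nat.card_prod, Nat.card_fin, Nat.card_fin]
  omega

theorem exists_outer : ∃ α : MulAut (J3 F ω), ∀ g, MulAut.conj g ≠ α := by
  classical
  haveI : Finite (threeJ3 F ω) := finite_cover
  haveI : Fact (Nat.Prime 2) := ⟨Nat.prime_two⟩
  haveI : CharP F 2 := (CharP.charP_iff_prime_eq_zero Nat.prime_two).2 (two_eq_zero hF)
  let φ : F →+* F := frobenius F 2
  have hφ : ∀ a, φ a = a ^ 2 := fun a => rfl
  let p : F9 ≃ F9 := ⟨fun z => (z.1, -z.2), fun z => (z.1, -z.2), fun z => by simp, fun z => by simp⟩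
  let Φ : threeJ3 F ω →* Matrix F9 F9 F :=
    { toFun := fun x => ((mat F ω x).map φ).submatrix p p
      map_one' := by rw [map_one, Matrix.map_one _ (map_zero φ) (map_one φ), Matrix.submatrix_one_equiv]
      map_mul' := fun x y => by rw [map_mul, Matrix.map_mul, Matrix.submatrix_mul_equiv] }
  have hfr := frob_ok
  simp only [okFrob, Bool.and_eq_true, List.all_eq_true, List.mem_range, Nat.beq_eq, Nat.blt_eq] at hfr
  obtain ⟨hfr, htr⟩ := hfr
  have hbase : ∀ b < 6, ∃ g, mat F ω g = Φ (bEl F ω b) := fun b hb => by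
    have hlen : b < frobCodes.length := hb
    have ha : Att F ω (frobCodes.getD b (oneC, 0, 0)).1 := by
      rw [List.getD_eq_getElem _ _ hlen]
      exact att_special hF hω (List.mem_append_right _ (List.getElem_mem hlen))
    refine ⟨elk F ω _, (mat_elk ha).trans (Matrix.ext fun i j => ?_)⟩
    show κ ω (dig (rowN (frobCodes.getD b (oneC, 0, 0)).1 (ix i)) (ix j)) = φ (mat F ω (bEl F ω b) (p i) (p j))
    have h := hfr b hb (ix i) (ix_lt i) (ix j) (ix_lt j)
    rw [fz_ix, fz_ix, digB_eq] at h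
    rw [h, κ_mul hF hω (cBase_lt b _ _) (cBase_lt b _ _), mat_bEl hF hω hb, baseMat_code, hφ, pow_two]
    rfl
  have himg : ∀ x, ∃ g, mat F ω g = Φ x := fun x => by
    obtain ⟨w, hw, rfl⟩ := word_prod hF hω x
    induction w with
    | nil => exact ⟨1, by rw [List.map_nil, List.prod_nil, map_one, map_one]⟩
    | cons b r ih =>
      obtain ⟨g, hg⟩ := ih (fun c hc => hw c (List.mem_cons_of_mem _ hc))
      obtain ⟨g', hg'⟩ := hbase b (hw b List.mem_cons_self)
      exact ⟨g' * g, by rw [List.map_cons, List.prod_cons, map_mul, map_mul, hg, hg']⟩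
  choose s hs using himg
  let S : threeJ3 F ω →* threeJ3 F ω :=
    { toFun := s
      map_one' := mat_inj (by rw [hs, map_one, map_one])
      map_mul' := fun x y => mat_inj (by rw [hs, map_mul, map_mul, hs, hs]) }
  have hSi : Function.Injective S := fun x y e => by
    have h : Φ x = Φ y := by rw [← hs x, ← hs y]; exact congrArg (mat F ω) e
    refine mat_inj (Matrix.ext fun i j => φ.injective ?_)
    have h2 := congrFun (congrFun h (p.symm i)) (p.symm j)
    change φ (mat F ω x (p (p.symm i)) (p (p.symm j))) = φ (mat F ω y (p (p.symm i)) (p (p.symm j))) at h2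
    rwa [p.apply_symm_apply, p.apply_symm_apply] at h2
  let Se : threeJ3 F ω ≃* threeJ3 F ω := MulEquiv.ofBijective S (Finite.injective_iff_bijective.1 hSi)
  have hc : (Subgroup.center (threeJ3 F ω)).map Se.toMonoidHom = Subgroup.center (threeJ3 F ω) := by
    ext x
    constructor
    · rintro ⟨y, hy, rfl⟩
      refine Subgroup.mem_center_iff.2 fun g => ?_
      obtain ⟨g, rfl⟩ := Se.surjective g
      show Se g * Se y = Se y * Se g
      rw [← map_mul, ← map_mul, Subgroup.mem_center_iff.1 hy]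
    · intro hx
      refine ⟨Se.symm x, Subgroup.mem_center_iff.2 fun g => Se.injective ?_, Se.apply_symm_apply x⟩
      rw [map_mul, map_mul, Se.apply_symm_apply, Subgroup.mem_center_iff.1 hx]
  refine ⟨QuotientGroup.congr _ _ Se hc, fun g e => ?_⟩
  have he := elts_ok
  simp only [okElts, Bool.and_eq_true, Nat.beq_eq] at he
  obtain ⟨⟨⟨⟨⟨⟨⟨⟨⟨⟨⟨⟨hl, -⟩, -⟩, -⟩, -⟩, hX19⟩, -⟩, -⟩, -⟩, -⟩, -⟩, -⟩, -⟩ := he
  have hattX : Att F ω ltX.1 := att_let hF hω hl 0
  obtain ⟨Z, hZ⟩ : ∃ Z, elk F ω ltX.1 = Z := ⟨_, rfl⟩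
  have hZ19 : Z ^ 19 = 1 := mat_inj (by
    rw [← hZ, map_pow, mat_elk hattX, ← toM_powC hF hω, hX19, toM_one hF hω, map_one])
  obtain ⟨gl, rfl⟩ := QuotientGroup.mk_surjective g
  have e1 : (QuotientGroup.mk (gl * Z * gl⁻¹) : J3 F ω) = QuotientGroup.mk (S Z) := by
    have := congrArg (fun α : MulAut (J3 F ω) => α (QuotientGroup.mk Z)) e
    exact this
  set c := (gl * Z * gl⁻¹)⁻¹ * S Z with hcdef
  have hcm : c ∈ Subgroup.center (threeJ3 F ω) := QuotientGroup.eq.1 e1
  have hSc : S Z = (gl * Z * gl⁻¹) * c := by rw [hcdef, mul_inv_cancel_left]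
  have h19 : c ^ 19 = 1 := by
    have h := (show Commute (gl * Z * gl⁻¹) c from Subgroup.mem_center_iff.1 hcm _).mul_pow 19
    rw [← hSc, ← map_pow, hZ19, map_one, conj_pow, hZ19, mul_one, mul_inv_cancel, one_mul] at h
    exact h.symm
  have h3 : c ^ 3 = 1 := by
    have := congrArg Subtype.val (pow_card_eq_one' (x := (⟨c, hcm⟩ : Subgroup.center (threeJ3 F ω))))
    rwa [card_center hF hω] at this
  have hc1 : c = 1 := by
    have h18 : c ^ 18 = 1 := by rw [show 18 = 3 * 6 from rfl, pow_mul, h3, one_pow]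
    rwa [pow_succ, h18, one_mul] at h19
  rw [hc1, mul_one] at hSc
  have htrace : Matrix.trace (Φ Z) = φ (Matrix.trace (mat F ω Z)) := by
    show ∑ i, φ (mat F ω Z (p i) (p i)) = φ (∑ i, mat F ω Z i i)
    rw [map_sum]
    exact Fintype.sum_equiv p _ _ (fun _ => rfl)
  have htr1 : Matrix.trace (Φ Z) = Matrix.trace (mat F ω Z) := by
    rw [← hs Z, show s Z = S Z from rfl, hSc, map_mul, map_mul, Matrix.trace_mul_cycle, ← map_mul, inv_mul_cancel,
      map_one, one_mul]
  rw [htrace] at htr1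
  have hd : ∀ i, digB (rowN ltX.1 i) i < 4 := fun i => by rw [digB_eq]; exact dig_lt _ _
  have hT : Matrix.trace (mat F ω Z) = κ ω (xorSum (fun i => digB (rowN ltX.1 i) i) 9) := by
    rw [(xorSum_spec hF hω (fun i => digB (rowN ltX.1 i) i) hd 9).2,
      ← sum_ix (fun i => κ ω (digB (rowN ltX.1 i) i)), ← hZ, mat_elk hattX]
    refine Finset.sum_congr rfl fun i _ => ?_
    show κ ω (dig (rowN ltX.1 (ix i)) (ix i)) = _
    rw [digB_eq]
  rw [hT, hφ] at htr1
  have hlt := (xorSum_spec hF hω (fun i => digB (rowN ltX.1 i) i) hd 9).1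
  generalize xorSum (fun i => digB (rowN ltX.1 i) i) 9 = v at htr htr1 hlt
  rw [pow_two, ← κ_mul hF hω hlt hlt] at htr1
  have hv := κ_inj hF hω (mul4_lt _ _) hlt htr1
  interval_cases v <;> revert hv <;> decide

/-- The outer automorphism group has order two. -/
theorem card_out {H : Type*} [Group H] (e : J3 F ω ≃* H) : Nat.card (Cfsg.Out H) = 2 := by
  classical
  haveI : Finite (J3 F ω) := finite_J3
  haveI := simple_J3 hF hω
  have hcenter : Subgroup.center (J3 F ω) = ⊥ := by
    refine (IsSimpleGroup.eq_bot_or_eq_top_of_normal _ inferInstance).resolve_right fun htop => ?_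
    have hc : ∀ a b : J3 F ω, a * b = b * a := fun a b =>
      Subgroup.mem_center_iff.1 (htop ▸ Subgroup.mem_top b) a
    letI : CommGroup (J3 F ω) := { (inferInstance : Group (J3 F ω)) with mul_comm := hc }
    have hp := IsSimpleGroup.prime_card (α := J3 F ω)
    rw [card_J3 hF hω] at hp
    norm_num at hp
  have hinj : Function.Injective (MulAut.conj : J3 F ω →* MulAut (J3 F ω)) := by
    refine (MonoidHom.ker_eq_bot_iff _).1 (eq_bot_iff.2 fun g hg => ?_)
    rw [← hcenter]
    refine Subgroup.mem_center_iff.2 fun a => ?_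
    have h := congrArg (fun α : MulAut (J3 F ω) => α a) (MonoidHom.mem_ker.1 hg)
    simp only [MulAut.conj_apply, MulAut.one_apply] at h
    exact (mul_inv_eq_iff_eq_mul.1 h).symm
  have cI : Nat.card (Cfsg.Inn (J3 F ω)) = 50232960 := by
    rw [← Nat.card_congr (MonoidHom.ofInjective hinj).toEquiv, card_J3 hF hω]
  have hq : Nat.card (Cfsg.Out (J3 F ω)) = 2 := by
    have h := Subgroup.card_eq_card_quotient_mul_card_subgroup (Cfsg.Inn (J3 F ω))
    have hle := card_aut_le (F := F) (ω := ω) hF hω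
    rw [cI] at h
    have h1 : 1 < Nat.card (MulAut (J3 F ω) ⧸ Cfsg.Inn (J3 F ω)) := by
      obtain ⟨α, hα⟩ := exists_outer (F := F) (ω := ω) hF hω
      haveI : Finite (MulAut (J3 F ω)) := Finite.of_injective (fun α => (α : J3 F ω → J3 F ω)) DFunLike.coe_injective
      refine Finite.one_lt_card_iff_nontrivial.2 ⟨⟨QuotientGroup.mk α, 1, fun e1 => ?_⟩⟩
      obtain ⟨g, hg⟩ := (QuotientGroup.eq_one_iff _).1 e1
      exact hα g hg
    show Nat.card (MulAut (J3 F ω) ⧸ Cfsg.Inn (J3 F ω)) = 2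
    nlinarith
  have hmap : (Cfsg.Inn (J3 F ω)).map (MulAut.congr e).toMonoidHom = Cfsg.Inn H := by
    ext α
    constructor
    · rintro ⟨_, ⟨g, rfl⟩, rfl⟩
      exact ⟨e g, by ext a; simp⟩
    · rintro ⟨g, rfl⟩
      exact ⟨_, ⟨e.symm g, rfl⟩, by ext a; simp⟩
  rw [← hq]
  exact (Nat.card_congr (QuotientGroup.congr _ _ (MulAut.congr e) hmap).toEquiv).symm

end CfsgLib.J3Mult
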