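import Cfsg.Agent.J3Mult.Order
import Cfsg.Agent.J3Mult.Data
import Cfsg.Agent.G23Mult.Bound

set_option autoImplicit false
set_option maxRecDepth 100000

/-!
Stem kernels of two-power and three-power order over the Janko group.
-/

namespace CfsgLib.J3Mult

open Cfsg Cfsg.Spor H29.ThreeJ Matrix
open CfsgLib.M23Coh (wordE)

universe v

/-- The least code among the three multiples. -/
def cano (n : ℕ) : ℕ := min n (min (omC n) (omC (omC n)))

/-- The code of a word in the letters. -/
def wC (ls : List (ℕ × ℕ × ℕ)) (w : List ℕ) : ℕ :=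
  prodC (w.map fun i => (ls.getD i (oneC, 0, 0)).1)

/-- The letters are given by representatives and stabiliser parts. -/
def okLets (ls : List (ℕ × ℕ × ℕ)) : Bool :=
  ls.all fun q => Nat.blt q.2.1 23256 && Nat.blt q.2.2 6480 && Nat.beq q.1 (mulC (rep q.2.1) (hEl q.2.2))

theorem lets2_ok : okLets lets2 = true := by decide +kernel

theorem lets3_ok : okLets lets3 = true := by decide +kernel

theorem wordE_hom {H : Type*} [Group H] (f : ℕ → H) (e : ℕ → H) (P : ℕ → Prop) (m : ℕ → ℕ → ℕ)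
    (c : List ℕ → ℕ) (l : ℕ → ℕ) (h0 : e (c []) = 1) (hc : ∀ i r, c (i :: r) = m (l i) (c r))
    (hl : ∀ i, P (l i)) (hP : ∀ r, P (c r)) (hf : ∀ i, f i = e (l i))
    (hm : ∀ a b, P a → P b → e a * e b = e (m a b)) : ∀ w, wordE f w = e (c w)
  | [] => h0.symm
  | i :: r => by
    have ih := wordE_hom f e P m c l h0 hc hl hP hf hm r
    rw [show wordE f (i :: r) = f i * wordE f r from rfl, ih, hf, hm _ _ (hl i) (hP r), hc]

theorem wC_nil (ls : List (ℕ × ℕ × ℕ)) : wC ls [] = oneC := by rw [wC, List.map_nil, prodC, List.foldr_nil]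

theorem prodC_cons (a : ℕ) (l : List ℕ) : prodC (a :: l) = mulC a (prodC l) := by
  unfold prodC; rw [List.foldr_cons]

theorem wC_cons (ls : List (ℕ × ℕ × ℕ)) (i : ℕ) (r : List ℕ) :
    wC ls (i :: r) = mulC (ls.getD i (oneC, 0, 0)).1 (wC ls r) := by
  unfold wC; rw [List.map_cons, prodC_cons]

theorem wf_wC (ls : List (ℕ × ℕ × ℕ)) : ∀ w, wf (wC ls w) = true
  | [] => by
    have hd := data_ok
    simp only [okData, Bool.and_eq_true] at hd
    rw [wC_nil]; exact hd.1.1.2
  | i :: r => by rw [wC_cons]; exact wf_mulC _ _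

/-- The relations hold between the codes up to the centre. -/
def relsOk (c : SchurCert.GCert) (ls : List (ℕ × ℕ × ℕ)) : Bool :=
  c.rels.all fun r => Nat.beq (cano (wC ls r.1)) (cano (wC ls r.2))

variable {F : Type} [Field F] [Fintype F] {ω : F} (hF : Fintype.card F = 4) (hω : ω ^ 2 + ω + 1 = 0)

variable (F ω) in
theorem qel_exists : ∃ f : ℕ → J3 F ω, ∀ n, f n = QuotientGroup.mk (elk F ω n) :=
  ⟨fun n => QuotientGroup.mk (elk F ω n), fun _ => rfl⟩

variable (F ω) in
/-- The element of the quotient, with its definition hidden. -/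
noncomputable def qel : ℕ → J3 F ω := (qel_exists F ω).choose

theorem qel_def (n : ℕ) : qel F ω n = QuotientGroup.mk (elk F ω n) := (qel_exists F ω).choose_spec n

variable (F ω) in
theorem gel_exists : ∃ f : List (ℕ × ℕ × ℕ) → ℕ → J3 F ω,
    ∀ ls i, f ls i = qel F ω (ls.getD i (oneC, 0, 0)).1 :=
  ⟨fun ls i => qel F ω (ls.getD i (oneC, 0, 0)).1, fun _ _ => rfl⟩

variable (F ω) in
/-- The lettered elements, with their definition hidden. -/
noncomputable def gel : List (ℕ × ℕ × ℕ) → ℕ → J3 F ω := (gel_exists F ω).choose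

theorem gel_def (ls : List (ℕ × ℕ × ℕ)) (i : ℕ) : gel F ω ls i = qel F ω (ls.getD i (oneC, 0, 0)).1 :=
  (gel_exists F ω).choose_spec ls i

include hF hω

theorem qel_mul {a b : ℕ} (ha : Att F ω a) (hb : Att F ω b) : qel F ω a * qel F ω b = qel F ω (mulC a b) := by
  rw [qel_def, qel_def, qel_def, ← elk_mul hF hω ha hb]
  exact (QuotientGroup.mk_mul _ _ _).symm

theorem qel_one : qel F ω oneC = 1 := by rw [qel_def, elk_one hF hω]; rfl

theorem att_let {ls : List (ℕ × ℕ × ℕ)} (h : okLets ls = true) (i : ℕ) :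
    Att F ω (ls.getD i (oneC, 0, 0)).1 := by
  rcases Nat.lt_or_ge i ls.length with hi | hi
  · rw [List.getD_eq_getElem _ _ hi]
    simp only [okLets, List.all_eq_true, Bool.and_eq_true, Nat.blt_eq, Nat.beq_eq] at h
    obtain ⟨⟨h1, h2⟩, h3⟩ := h _ (List.getElem_mem hi)
    rw [h3]
    exact att_mul hF hω (att_rep hF hω _ h1) (att_hEl hF hω _ h2)
  · rw [List.getD_eq_default _ _ hi]
    exact att_one hF hω

theorem att_wC {ls : List (ℕ × ℕ × ℕ)} (h : okLets ls = true) : ∀ w, Att F ω (wC ls w)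
  | [] => by rw [wC_nil]; exact att_one hF hω
  | i :: r => by rw [wC_cons]; exact att_mul hF hω (att_let hF hω h i) (att_wC h r)

theorem wordE_gel {ls : List (ℕ × ℕ × ℕ)} (h : okLets ls = true) (w : List ℕ) :
    wordE (gel F ω ls) w = qel F ω (wC ls w) :=
  wordE_hom (gel F ω ls) (qel F ω) (Att F ω) mulC (wC ls) (fun i => (ls.getD i (oneC, 0, 0)).1)
    (by rw [wC_nil, qel_one hF hω]) (wC_cons ls) (att_let hF hω h) (att_wC hF hω h) (gel_def ls)
    (fun _ _ ha hb => qel_mul hF hω ha hb) w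

theorem omC_three {a : ℕ} (ha : wf a = true) : omC (omC (omC a)) = a :=
  toM_inj hF hω (wf_omC _) ha (by
    rw [toM_omC hF hω, toM_omC hF hω, toM_omC hF hω, smul_smul, smul_smul,
      show ω * ω * ω = ω ^ 3 by ring, omega_cube hF hω, one_smul])

theorem cano_omC {a : ℕ} (ha : wf a = true) : cano (omC a) = cano a := by
  rw [cano, cano, omC_three hF hω ha]; omega

theorem qel_omC {a : ℕ} (ha : Att F ω a) : Att F ω (omC a) ∧ qel F ω (omC a) = qel F ω a := by
  obtain ⟨x, hx⟩ := ha
  have h1 : mat F ω (scal F ω * x) = toM ω (omC a) := by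
    rw [map_mul, hx, mat_scal hF hω, Matrix.smul_mul, one_mul, toM_omC hF hω]
  refine ⟨⟨_, h1⟩, ?_⟩
  have e1 : elk F ω (omC a) = elk F ω a * scal F ω := by
    refine mat_inj ?_
    rw [mat_elk ⟨_, h1⟩, map_mul, mat_elk ⟨x, hx⟩, mat_scal hF hω, Matrix.mul_smul, mul_one, toM_omC hF hω]
  rw [qel_def, qel_def, e1]
  exact QuotientGroup.mk_mul_of_mem _ (scal_central hF hω)

theorem qel_cano {a : ℕ} (ha : Att F ω a) : qel F ω (cano a) = qel F ω a := by
  obtain ⟨h1, e1⟩ := qel_omC hF hω ha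
  obtain ⟨-, e2⟩ := qel_omC hF hω h1
  rw [cano]
  rcases min_choice a (min (omC a) (omC (omC a))) with h | h <;> rw [h]
  rcases min_choice (omC a) (omC (omC a)) with h | h <;> rw [h]
  · exact e1
  · exact e2.trans e1

theorem cano_eq_of_qel {a b : ℕ} (ha : Att F ω a) (hb : Att F ω b) (wa : wf a = true) (wb : wf b = true)
    (e : qel F ω a = qel F ω b) : cano a = cano b := by
  rw [qel_def, qel_def] at e
  have h := QuotientGroup.eq.1 e
  obtain ⟨c, hc⟩ := central_smul hF hω h
  have hb' : toM ω b = c • toM ω a := by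
    rw [← mat_elk hb, ← mul_inv_cancel_left (elk F ω a) (elk F ω b), map_mul, hc, mat_elk ha,
      Matrix.mul_smul, mul_one]
  have hc0 : c ≠ 0 := fun e0 => by
    have h1 := congrArg (fun y => y * mat F ω (elk F ω b)⁻¹) hb'
    rw [← mat_elk hb, e0, zero_smul] at h1
    simp only [← map_mul, mul_inv_cancel, map_one, zero_mul] at h1
    exact one_ne_zero (congrFun (congrFun h1 0) 0)
  have hc3 : c ^ 3 = 1 := by
    have := FiniteField.pow_card_sub_one_eq_one c hc0
    rwa [hF] at this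
  have hz' : (c - 1) * ((c - ω) * (c - ω * ω)) = 0 := by
    linear_combination hc3 + (-c ^ 2 + c * ω - (ω - 1)) * hω
  simp only [mul_eq_zero, sub_eq_zero] at hz'
  rcases hz' with h1 | h1 | h1 <;> rw [h1] at hb'
  · rw [one_smul] at hb'
    rw [toM_inj hF hω wb wa hb']
  · rw [← toM_omC hF hω] at hb'
    rw [toM_inj hF hω wb (wf_omC _) hb', cano_omC hF hω wa]
  · rw [mul_smul, ← toM_omC hF hω, ← toM_omC hF hω] at hb'
    rw [toM_inj hF hω wb (wf_omC _) hb', cano_omC hF hω (wf_omC _), cano_omC hF hω wa]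

theorem rels_of {c : SchurCert.GCert} {ls : List (ℕ × ℕ × ℕ)} (hl : okLets ls = true) (h : relsOk c ls = true) :
    ∀ r ∈ c.rels, wordE (gel F ω ls) r.1 = wordE (gel F ω ls) r.2 := fun r hr => by
  simp only [relsOk, List.all_eq_true, Nat.beq_eq] at h
  rw [wordE_gel hF hω hl, wordE_gel hF hω hl, ← qel_cano hF hω (att_wC hF hω hl r.1),
    ← qel_cano hF hω (att_wC hF hω hl r.2), h r hr]

theorem nodup_of {c : SchurCert.GCert} {ls : List (ℕ × ℕ × ℕ)} (hl : okLets ls = true)
    (h : (c.nf.map fun w => cano (wC ls w)).Nodup) : (c.nf.map (wordE (gel F ω ls))).Nodup := by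
  refine (List.nodup_map_iff_inj_on (List.Nodup.of_map _ h)).2 fun u hu v hv e => ?_
  refine List.inj_on_of_nodup_map h hu hv ?_
  rw [wordE_gel hF hω hl, wordE_gel hF hω hl] at e
  exact cano_eq_of_qel hF hω (att_wC hF hω hl u) (att_wC hF hω hl v) (wf_wC ls u) (wf_wC ls v) e

omit hF hω in
theorem rels_ok2 : relsOk cert2 lets2 = true := by decide +kernel

omit hF hω in
theorem rels_ok3 : relsOk cert3 lets3 = true := by decide +kernel

omit hF hω in
theorem nf_ok2 : (cert2.nf.map fun w => cano (wC lets2 w)).Nodup := by decide +kernel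

omit hF hω in
theorem nf_ok3 : (cert3.nf.map fun w => cano (wC lets3 w)).Nodup := by decide +kernel

omit hF hω in
theorem finite_J3 : Finite (J3 F ω) := inferInstance

theorem ok2 : cert2.Ok (gel F ω lets2) :=
  ⟨Nat.prime_two, rels_of hF hω lets2_ok rels_ok2, by decide +kernel, by decide +kernel, by decide +kernel,
    by decide +kernel, nodup_of hF hω lets2_ok nf_ok2, by rw [card_J3 hF hω]; decide +kernel⟩

theorem ok3 : cert3.Ok (gel F ω lets3) :=
  ⟨Nat.prime_three, rels_of hF hω lets3_ok rels_ok3, by decide +kernel, by decide +kernel, by decide +kernel,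
    by decide +kernel, nodup_of hF hω lets3_ok nf_ok3, by rw [card_J3 hF hω]; decide +kernel⟩

omit hF hω in
theorem nine_ok : G23Mult.checkNine cert3 nine = true := by decide +kernel

omit hF hω in
theorem phi_zero2 : cert2.phiZero = true := by decide +kernel

theorem part2 {Γ : Type v} [Group Γ] [Finite Γ] {σ : Γ →* J3 F ω} (hσ : Cfsg.IsStemExtension σ)
    (h : ∀ q, q.Prime → q ∣ Nat.card σ.ker → q = 2) : σ.ker = ⊥ :=
  haveI : Finite (J3 F ω) := finite_J3
  G23Mult.ker_eq_bot_of_phiZero (ok2 hF hω).toCore phi_zero2 hσ h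

theorem part3 {Γ : Type v} [Group Γ] [Finite Γ] {σ : Γ →* J3 F ω} (hσ : Cfsg.IsStemExtension σ)
    (h : ∀ q, q.Prime → q ∣ Nat.card σ.ker → q = 3) : Nat.card σ.ker ∣ 3 :=
  haveI : Finite (J3 F ω) := finite_J3
  G23Mult.card_ker_dvd_three (ok3 hF hω).toCore rfl nine_ok hσ h

end CfsgLib.J3Mult
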