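import Cfsg.Agent.J3Mult.Parts
import Cfsg.Agent.J3Mult.Elts
import Mathlib.GroupTheory.Perm.Cycle.Type
import Mathlib.GroupTheory.Sylow

set_option autoImplicit false
set_option maxRecDepth 100000

/-!
The Janko group is simple: an element commuting with elements of orders seventeen and nineteen is trivial.
-/

namespace CfsgLib.J3Mult

open Cfsg.Spor H29.ThreeJ Matrix

/-- A power of a code. -/
def powC (g : ℕ) : ℕ → ℕ
  | 0 => oneC
  | n + 1 => mulC (powC g n) g

/-- A sum of powers of a code. -/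
def sumPow (g : ℕ) : ℕ → ℕ
  | 0 => 0
  | n + 1 => sumPow g n ^^^ powC g n

/-- Letters with products the two generators, of a given order up to the centre. -/
def okPairs (ls : List (ℕ × ℕ × ℕ)) (p : ℕ) : Bool :=
  ((List.range 4).all fun k => Nat.beq (cano (powC (ls.getD k (oneC, 0, 0)).1 p)) (cano oneC)) &&
  (List.range 2).all fun k =>
    Nat.beq (cano (mulC (ls.getD (2 * k) (oneC, 0, 0)).1 (ls.getD (2 * k + 1) (oneC, 0, 0)).1))
      (cano (gens.getD k oneC))

/-- The elements are as they should be. -/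
def okElts : Bool :=
  okLets [ltX, ltY] && okLets ltsX && okLets ltsY && okPairs ltsX 19 && okPairs ltsY 17 &&
  Nat.beq (powC ltX.1 19) oneC && Nat.beq (powC ltY.1 17) oneC && Nat.beq (sumPow ltX.1 19) 0 &&
  ((List.range 9).all fun i => Nat.beq (rowN (sumPow ltY.1 17) i) (selV (digB projCol i) projRow)) &&
  !(Nat.beq (projCol % 2 ^ 18) 0) && !(Nat.beq (projRow % 2 ^ 18) 0) &&
  !(Nat.beq (cano ltX.1) (cano oneC)) && !(Nat.beq (cano ltY.1) (cano oneC))

theorem elts_ok : okElts = true := by decide +kernel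

section generic

variable {Q : Type*} [Group Q] [Finite Q]

theorem conj_pow_of_prime_card {p : ℕ} [hp : Fact p.Prime] (h1 : p ∣ Nat.card Q) (h2 : ¬ p ^ 2 ∣ Nat.card Q)
    {x z : Q} (hx : orderOf x = p) (hz : z ^ p = 1) : ∃ (g : Q) (k : ℤ), z = g * x ^ k * g⁻¹ := by
  classical
  rcases eq_or_ne z 1 with rfl | hne
  · exact ⟨1, 0, by simp⟩
  have hpp : p ^ (Nat.card Q).factorization p = p := by
    have hn : Nat.card Q ≠ 0 := Nat.card_pos.ne'
    have h3 : 1 ≤ (Nat.card Q).factorization p :=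
      (hp.out.pow_dvd_iff_le_factorization hn).1 (by rwa [pow_one])
    have h4 : ¬ 2 ≤ (Nat.card Q).factorization p := fun h => h2 ((hp.out.pow_dvd_iff_le_factorization hn).2 h)
    rw [show (Nat.card Q).factorization p = 1 by omega, pow_one]
  let P1 : Sylow p Q := Sylow.ofCard (Subgroup.zpowers x) (by rw [Nat.card_zpowers, hx, hpp])
  let P2 : Sylow p Q := Sylow.ofCard (Subgroup.zpowers z) (by
    rw [Nat.card_zpowers, orderOf_eq_prime hz hne, hpp])
  obtain ⟨g, hg⟩ := MulAction.exists_smul_eq Q P1 P2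
  have hmem : z ∈ (P2 : Subgroup Q) := Subgroup.mem_zpowers z
  rw [← hg] at hmem
  obtain ⟨w, hw, e⟩ := hmem
  obtain ⟨k, rfl⟩ := Subgroup.mem_zpowers_iff.1 (show w ∈ Subgroup.zpowers x from hw)
  refine ⟨g, k, ?_⟩
  rw [← e]
  rfl

theorem mem_normal_of_pow {p : ℕ} [hp : Fact p.Prime] (h1 : p ∣ Nat.card Q) (h2 : ¬ p ^ 2 ∣ Nat.card Q)
    (N : Subgroup Q) [N.Normal] (hN : p ∣ Nat.card N) {w : Q} (hw : w ^ p = 1) : w ∈ N := by
  obtain ⟨z, hz⟩ := exists_prime_orderOf_dvd_card' p hN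
  obtain ⟨g, k, rfl⟩ := conj_pow_of_prime_card h1 h2 (x := (z : Q)) (by rw [Subgroup.orderOf_coe, hz]) hw
  exact Subgroup.Normal.conj_mem inferInstance _ (N.zpow_mem z.2 k) g

theorem commute_of_normalizes {p r : ℕ} [hp : Fact p.Prime] [hr : Fact r.Prime] (R : Subgroup Q)
    (hR : IsPGroup r R) {a : Q} (ha : a ∈ Subgroup.normalizer (R : Set Q)) (hap : a ^ p = 1)
    (hnum : ∀ i j, r ^ j ∣ Nat.card Q → i ≤ j → r ^ i % p = r ^ j % p → i = j) {y : Q} (hy : y ∈ R) :
    a * y = y * a := by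
  classical
  letI : Fintype R := Fintype.ofFinite _
  have hmem : ∀ w : R, a * w * a⁻¹ ∈ R := fun w => (Subgroup.mem_normalizer_iff.1 ha w).1 w.2
  let f : R → R := fun w => ⟨a * w * a⁻¹, hmem w⟩
  have hit : ∀ (n : ℕ) (w : R), ((f^[n] w : R) : Q) = a ^ n * w * (a ^ n)⁻¹ := by
    intro n
    induction n with
    | zero => intro w; simp
    | succ n ih =>
      intro w
      rw [Function.iterate_succ_apply', show ((f (f^[n] w) : R) : Q) = a * (f^[n] w : R) * a⁻¹ from rfl, ih,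
        pow_succ']
      group
  have hinj : Function.Injective f := fun v w e => Subtype.ext (by
    have h := congrArg Subtype.val e
    simpa [f] using h)
  let σ : Equiv.Perm R := Equiv.ofBijective f (Finite.injective_iff_bijective.1 hinj)
  have hσ : σ ^ p ^ 1 = 1 := by
    refine Equiv.ext fun w => Subtype.ext ?_
    rw [pow_one, Equiv.Perm.coe_pow, show (⇑σ : R → R) = f from rfl, hit, hap]
    simp
  have hmod := Equiv.Perm.card_compl_support_modEq (p := p) hσ
  have hsup : σ.supportᶜ.card = Nat.card ((Subgroup.centralizer {a}).subgroupOf R) := by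
    rw [Nat.card_eq_fintype_card, Fintype.card_subtype]
    refine congrArg Finset.card (Finset.ext fun w => ?_)
    rw [Finset.mem_compl, Equiv.Perm.mem_support, not_not, Finset.mem_filter, Subgroup.mem_subgroupOf,
      Subgroup.mem_centralizer_singleton_iff]
    simp only [Finset.mem_univ, true_and]
    show f w = w ↔ _
    rw [Subtype.ext_iff, show ((f w : R) : Q) = a * w * a⁻¹ from rfl, mul_inv_eq_iff_eq_mul]
    exact eq_comm
  obtain ⟨j, hj⟩ := IsPGroup.iff_card.1 hR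
  obtain ⟨i, hi, hi'⟩ := (Nat.dvd_prime_pow hr.out).1
    (hj ▸ Subgroup.card_subgroup_dvd_card ((Subgroup.centralizer {a}).subgroupOf R))
  rw [hsup, hi', ← Nat.card_eq_fintype_card, hj] at hmod
  have hij := hnum i j (hj ▸ Subgroup.card_subgroup_dvd_card R) hi hmod
  have htop : (Subgroup.centralizer {a}).subgroupOf R = ⊤ :=
    Subgroup.eq_top_of_card_eq _ (by rw [hi', hij, hj])
  have h : (⟨y, hy⟩ : R) ∈ (Subgroup.centralizer {a}).subgroupOf R := htop ▸ Subgroup.mem_top _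
  rw [Subgroup.mem_subgroupOf, Subgroup.mem_centralizer_singleton_iff] at h
  exact h.symm

theorem exists_normalizer_orderOf {p r : ℕ} [hp : Fact p.Prime] [Fact r.Prime] (h1 : p ∣ Nat.card Q)
    (N : Subgroup Q) [N.Normal] (hN : ¬ p ∣ Nat.card N) (P : Sylow r N) :
    ∃ a ∈ Subgroup.normalizer (((P : Subgroup N).map N.subtype : Subgroup Q) : Set Q), orderOf a = p := by
  set M := Subgroup.normalizer (((P : Subgroup N).map N.subtype : Subgroup Q) : Set Q) with hM
  have htop : M ⊔ N = ⊤ := Sylow.normalizer_sup_eq_top P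
  let φ : M →* Q ⧸ N := (QuotientGroup.mk' N).comp M.subtype
  have hsurj : Function.Surjective φ := fun q => by
    obtain ⟨g, rfl⟩ := QuotientGroup.mk'_surjective N q
    obtain ⟨m, hm, n, hn, rfl⟩ := Subgroup.mem_sup_of_normal_right.1 (htop ▸ Subgroup.mem_top g)
    exact ⟨⟨m, hm⟩, (QuotientGroup.mk_mul_of_mem m hn).symm⟩
  have hd : p ∣ Nat.card (Q ⧸ N) := by
    rw [Subgroup.card_eq_card_quotient_mul_card_subgroup N] at h1
    exact (hp.out.dvd_mul.1 h1).resolve_right hN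
  obtain ⟨a, ha⟩ := exists_prime_orderOf_dvd_card' p (hd.trans (Subgroup.card_dvd_of_surjective φ hsurj))
  exact ⟨a, a.2, by rw [Subgroup.orderOf_coe, ha]⟩

/-- A commutation in a central quotient lifts at elements of order prime to the centre. -/
theorem lift_commute {p : ℕ} (hp : Nat.Coprime p (Nat.card (Subgroup.center Q))) {y A : Q} (hA : A ^ p = 1)
    (h : (y : Q ⧸ Subgroup.center Q) * (A : Q ⧸ Subgroup.center Q) =
      (A : Q ⧸ Subgroup.center Q) * (y : Q ⧸ Subgroup.center Q)) : y * A = A * y := by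
  have hc : y * A * y⁻¹ * A⁻¹ ∈ Subgroup.center Q := by
    rw [← QuotientGroup.eq_one_iff, QuotientGroup.mk_mul, QuotientGroup.mk_mul, QuotientGroup.mk_mul,
      QuotientGroup.mk_inv, QuotientGroup.mk_inv, h, mul_inv_cancel_right, mul_inv_cancel]
  have hcA : Commute (y * A * y⁻¹ * A⁻¹) A := (Subgroup.mem_center_iff.1 hc A).symm
  have h1 : (y * A * y⁻¹ * A⁻¹) ^ p = 1 := by
    have h3 : (y * A * y⁻¹) ^ p = 1 := by rw [conj_pow, hA, mul_one, mul_inv_cancel]
    rw [show y * A * y⁻¹ = (y * A * y⁻¹ * A⁻¹) * A by rw [inv_mul_cancel_right], hcA.mul_pow, hA, mul_one] at h3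
    exact h3
  have h2 : (y * A * y⁻¹ * A⁻¹) ^ Nat.card (Subgroup.center Q) = 1 :=
    congrArg Subtype.val (pow_card_eq_one' (x := (⟨_, hc⟩ : Subgroup.center Q)))
  have h4 : y * A * y⁻¹ * A⁻¹ = 1 := by
    rw [← pow_one (y * A * y⁻¹ * A⁻¹), ← hp.gcd_eq_one]
    exact pow_gcd_eq_one.2 ⟨h1, h2⟩
  rwa [mul_inv_eq_one, mul_inv_eq_iff_eq_mul] at h4

end generic

theorem toM_rowN_xor (a b i : ℕ) : rowN (a ^^^ b) i = rowN a i ^^^ rowN b i := by
  rw [rowN_eq, rowN_eq, rowN_eq, Nat.shiftRight_xor_distrib, Nat.xor_mod_two_pow]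

variable {F : Type} [Field F] [Fintype F] {ω : F} (hF : Fintype.card F = 4) (hω : ω ^ 2 + ω + 1 = 0)

include hF hω

theorem toM_xor (a b : ℕ) : toM ω (a ^^^ b) = toM ω a + toM ω b := by
  refine Matrix.ext fun i j => ?_
  show κv ω (rowN (a ^^^ b) (ix i)) j = κv ω (rowN a (ix i)) j + κv ω (rowN b (ix i)) j
  rw [toM_rowN_xor, κv_xor hF hω]
  rfl

theorem toM_powC (g : ℕ) : ∀ n, toM ω (powC g n) = toM ω g ^ n
  | 0 => by rw [powC, pow_zero, toM_one hF hω]
  | n + 1 => by rw [powC, ← toM_mul hF hω, toM_powC g n, pow_succ]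

theorem toM_zero : toM ω 0 = 0 := by
  refine Matrix.ext fun i j => ?_
  simp [toM, rowN, κv, dig, κ]

theorem toM_sumPow (g : ℕ) : ∀ n, toM ω (sumPow g n) = ∑ k ∈ Finset.range n, toM ω g ^ k
  | 0 => by rw [sumPow, toM_zero hF hω, Finset.sum_range_zero]
  | n + 1 => by rw [sumPow, toM_xor hF hω, toM_sumPow g n, toM_powC hF hω, Finset.sum_range_succ]

theorem att_powC {g : ℕ} (hg : Att F ω g) : ∀ n, Att F ω (powC g n)
  | 0 => by rw [powC]; exact att_one hF hω
  | n + 1 => by rw [powC]; exact att_mul hF hω (att_powC hg n) hg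

theorem qel_powC {g : ℕ} (hg : Att F ω g) : ∀ n, qel F ω (powC g n) = qel F ω g ^ n
  | 0 => by rw [powC, pow_zero, qel_one hF hω]
  | n + 1 => by rw [powC, pow_succ, ← qel_powC hg n, qel_mul hF hω (att_powC hF hω hg n) hg]

theorem kv_ne_zero {v : ℕ} (hv : v % 2 ^ 18 ≠ 0) : ∃ z : F9, κv ω v z ≠ 0 := by
  by_contra h
  push Not at h
  refine hv (J3Mult.kv_inj hF hω (Nat.mod_lt _ (by norm_num)) (show 0 < 2 ^ 18 by norm_num) (funext fun z => ?_))
  have h0 : κv ω 0 z = 0 := by simp [κv, dig, κ]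
  have hd : dig (v % 2 ^ 18) (ix z) = dig v (ix z) := by
    have := ix_lt z
    generalize ix z = j at this ⊢
    interval_cases j <;> norm_num [dig] <;> omega
  rw [h0, κv, hd]
  exact h z

/-- An element commuting with the element of order seventeen and with a conjugate of that of order nineteen is
central. -/
theorem central_of_commute {y g : threeJ3 F ω}
    (hY : y * elk F ω ltY.1 = elk F ω ltY.1 * y)
    (hX : y * (g * elk F ω ltX.1 * g⁻¹) = (g * elk F ω ltX.1 * g⁻¹) * y) :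
    y ∈ Subgroup.center (threeJ3 F ω) := by
  classical
  have h := elts_ok
  simp only [okElts, Bool.and_eq_true, List.all_eq_true, List.mem_range, Nat.beq_eq, Bool.not_eq_true'] at h
  obtain ⟨⟨⟨⟨⟨⟨⟨⟨⟨⟨⟨⟨hl, -⟩, -⟩, -⟩, -⟩, hX19⟩, hY17⟩, hXs⟩, hP⟩, hcol⟩, hrow⟩, -⟩, -⟩ := h
  have hcol' : projCol % 2 ^ 18 ≠ 0 := fun e => by rw [e] at hcol; exact absurd hcol (by decide)
  have hrow' : projRow % 2 ^ 18 ≠ 0 := fun e => by rw [e] at hrow; exact absurd hrow (by decide)
  have hattX : Att F ω ltX.1 := att_let hF hω hl 0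
  have hattY : Att F ω ltY.1 := att_let hF hω hl 1
  obtain ⟨X, hXdef⟩ : ∃ X, mat F ω (g * elk F ω ltX.1 * g⁻¹) = X := ⟨_, rfl⟩
  obtain ⟨M, hM⟩ : ∃ M, mat F ω y = M := ⟨_, rfl⟩
  obtain ⟨Y, hYdef⟩ : ∃ Y, toM ω ltY.1 = Y := ⟨_, rfl⟩
  have hMY : M * Y = Y * M := by
    rw [← hM, ← hYdef, ← mat_elk hattY, ← map_mul, ← map_mul, hY]
  have hMX : M * X = X * M := by rw [← hM, ← hXdef, ← map_mul, ← map_mul, hX]
  have hgg : mat F ω g * mat F ω g⁻¹ = 1 := by rw [← map_mul, mul_inv_cancel, map_one]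
  have hX1 : X ^ 19 = 1 := by
    rw [← hXdef, ← map_pow, conj_pow, map_mul, map_mul, map_pow, mat_elk hattX, ← toM_powC hF hω, hX19,
      toM_one hF hω, mul_one, hgg]
  have hX0 : ∑ k ∈ Finset.range 19, X ^ k = 0 := by
    have e : ∀ k, X ^ k = mat F ω g * toM ω ltX.1 ^ k * mat F ω g⁻¹ := fun k => by
      rw [← hXdef, ← map_pow, conj_pow, map_mul, map_mul, map_pow, mat_elk hattX]
    simp only [e]
    rw [← Finset.sum_mul, ← Finset.mul_sum, ← toM_sumPow hF hω, hXs, toM_zero hF hω, mul_zero, zero_mul]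
  -- an eigenvector
  have hsum : ∑ k ∈ Finset.range 17, Y ^ k = Matrix.vecMulVec (κv ω projCol) (κv ω projRow) := by
    rw [← hYdef, ← toM_sumPow hF hω]
    refine Matrix.ext fun i j => ?_
    show κv ω (rowN (sumPow ltY.1 17) (ix i)) j = κv ω projCol i * κv ω projRow j
    rw [hP (ix i) (ix_lt i), kv_selV hF hω (by rw [digB_eq]; exact dig_lt _ _), digB_eq]
    rfl
  have hMP : M * (Matrix.vecMulVec (κv ω projCol) (κv ω projRow)) =
      Matrix.vecMulVec (κv ω projCol) (κv ω projRow) * M := by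
    rw [← hsum, Finset.mul_sum, Finset.sum_mul]
    exact Finset.sum_congr rfl fun k _ => Commute.pow_right hMY k
  obtain ⟨j0, hj0⟩ := kv_ne_zero hF hω hrow'
  obtain ⟨i0, hi0⟩ := kv_ne_zero hF hω hcol'
  set c : F := (κv ω projRow ᵥ* M) j0 / κv ω projRow j0 with hc
  rw [Matrix.mul_vecMulVec, Matrix.vecMulVec_mul] at hMP
  have ha : M *ᵥ κv ω projCol = c • κv ω projCol := by
    funext i
    have e := congrFun (congrFun hMP i) j0
    rw [Matrix.vecMulVec_apply, Matrix.vecMulVec_apply] at e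
    rw [Pi.smul_apply, smul_eq_mul, hc, div_mul_eq_mul_div, eq_div_iff hj0, e, mul_comm]
  -- its eigenspace is everything
  let W : Submodule F (F9 → F) := LinearMap.ker (Matrix.toLin' (M - c • 1))
  have memW : ∀ w, w ∈ W ↔ M *ᵥ w = c • w := fun w => by
    simp only [W, LinearMap.mem_ker, Matrix.toLin'_apply, Matrix.sub_mulVec, Matrix.smul_mulVec,
      Matrix.one_mulVec, sub_eq_zero]
  have hXW : ∀ w ∈ W, X *ᵥ w ∈ W := fun w hw => by
    rw [memW] at hw ⊢
    rw [Matrix.mulVec_mulVec, hMX, ← Matrix.mulVec_mulVec, hw, Matrix.mulVec_smul]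
  let f : W → W := fun w => ⟨X *ᵥ w.1, hXW _ w.2⟩
  have hit : ∀ (n : ℕ) (w : W), ((f^[n] w : W) : F9 → F) = X ^ n *ᵥ w.1 := by
    intro n
    induction n with
    | zero => intro w; simp
    | succ n ih =>
      intro w
      rw [Function.iterate_succ_apply', show ((f (f^[n] w) : W) : F9 → F) = X *ᵥ (f^[n] w : W).1 from rfl, ih,
        pow_succ', Matrix.mulVec_mulVec]
  have hfid : ∀ w, f^[19] w = w := fun w => Subtype.ext (by rw [hit, hX1, Matrix.one_mulVec])
  let σ : Equiv.Perm W :=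
    ⟨f, f^[18], fun w => (Function.iterate_succ_apply f 18 w).symm.trans (hfid w),
      fun w => (Function.iterate_succ_apply' f 18 w).symm.trans (hfid w)⟩
  haveI : Fact (Nat.Prime 19) := ⟨by norm_num⟩
  have hσ : σ ^ 19 ^ 1 = 1 := by
    refine Equiv.ext fun w => ?_
    rw [pow_one, Equiv.Perm.coe_pow]
    exact hfid w
  letI : Fintype W := Fintype.ofFinite _
  have hmod := Equiv.Perm.card_compl_support_modEq (p := 19) hσ
  have hfix : σ.supportᶜ = {(0 : W)} := by
    refine Finset.ext fun w => ?_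
    rw [Finset.mem_compl, Equiv.Perm.mem_support, not_not, Finset.mem_singleton]
    refine ⟨fun e => ?_, fun e => ?_⟩
    · have hw : X *ᵥ w.1 = w.1 := congrArg Subtype.val e
      have hpow : ∀ k, X ^ k *ᵥ w.1 = w.1 := by
        intro k
        induction k with
        | zero => rw [pow_zero, Matrix.one_mulVec]
        | succ k ih => rw [pow_succ, ← Matrix.mulVec_mulVec, hw, ih]
      have h0 := congrArg (fun A => A *ᵥ w.1) hX0
      simp only [Matrix.sum_mulVec, hpow, Finset.sum_const, Finset.card_range, Matrix.zero_mulVec] at h0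
      refine Subtype.ext (funext fun z => ?_)
      have h1 := congrFun h0 z
      rw [Pi.smul_apply, nsmul_eq_mul] at h1
      show w.1 z = 0
      simp only [Pi.zero_apply] at h1; push_cast at h1
      linear_combination h1 - 9 * w.1 z * two_eq_zero hF
    · subst e
      exact Subtype.ext (Matrix.mulVec_zero X)
  rw [hfix, Finset.card_singleton, ← Nat.card_eq_fintype_card,
    Module.natCard_eq_pow_finrank (K := F), Nat.card_eq_fintype_card, hF] at hmod
  have hd9 : Module.finrank F W ≤ 9 := by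
    refine (Submodule.finrank_le W).trans (le_of_eq ?_)
    rw [Module.finrank_pi]
    rfl
  have hd0 : Module.finrank F W ≠ 0 := fun e => by
    rw [Submodule.finrank_eq_zero] at e
    have h0 : κv ω projCol ∈ W := (memW _).2 ha
    rw [e, Submodule.mem_bot] at h0
    exact hi0 (congrFun h0 i0)
  have hd : Module.finrank F W = 9 := by
    generalize Module.finrank F W = d at hmod hd9 hd0
    interval_cases d <;> first | rfl | omega | (revert hmod; unfold Nat.ModEq; decide)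
  have hWtop : W = ⊤ := by
    refine Submodule.eq_top_of_finrank_eq ?_
    rw [hd, Module.finrank_pi]
    rfl
  have hMc : M = c • 1 := by
    refine Matrix.ext fun i j => ?_
    have e := congrFun ((memW (Pi.single j 1)).1 (hWtop ▸ Submodule.mem_top)) i
    rw [Matrix.mulVec_single_one] at e
    simpa [Matrix.one_apply, Pi.single_apply] using e
  refine Subgroup.mem_center_iff.2 fun t => mat_inj ?_
  rw [map_mul, map_mul, hM, hMc, Matrix.smul_mul, Matrix.mul_smul, mul_one, one_mul]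

theorem pairs_mem {ls : List (ℕ × ℕ × ℕ)} {p : ℕ} (hl : okLets ls = true) (hp : okPairs ls p = true)
    (N : Subgroup (J3 F ω)) (hN : ∀ w : J3 F ω, w ^ p = 1 → w ∈ N) :
    ∀ k < 2, qel F ω (gens.getD k oneC) ∈ N := by
  simp only [okPairs, Bool.and_eq_true, List.all_eq_true, List.mem_range, Nat.beq_eq] at hp
  intro k hk
  have hm : ∀ j < 4, qel F ω (ls.getD j (oneC, 0, 0)).1 ∈ N := fun j hj => by
    refine hN _ ?_
    have ha := att_let hF hω hl j
    rw [← qel_powC hF hω ha, ← qel_cano hF hω (att_powC hF hω ha p), hp.1 j hj, qel_cano hF hω (att_one hF hω),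
      qel_one hF hω]
  rw [← qel_cano hF hω (att_gen hF hω hk), ← hp.2 k hk,
    qel_cano hF hω (att_mul hF hω (att_let hF hω hl _) (att_let hF hω hl _)),
    ← qel_mul hF hω (att_let hF hω hl _) (att_let hF hω hl _)]
  exact mul_mem (hm _ (by omega)) (hm _ (by omega))

theorem top_of_gens (N : Subgroup (J3 F ω)) (h : ∀ k < 2, qel F ω (gens.getD k oneC) ∈ N) : N = ⊤ := by
  have hrep : ∀ i, i < 23256 → qel F ω (rep i) ∈ N := by
    intro i
    induction i using Nat.strong_induction_on with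
    | _ i ih =>
      intro hi
      rcases Nat.eq_zero_or_pos i with rfl | hp
      · rw [(parents_spec (k := 0) (by norm_num)).1, qel_one hF hω]; exact one_mem _
      · obtain ⟨k, rfl⟩ : ∃ k, i = k + 1 := ⟨i - 1, by omega⟩
        obtain ⟨-, h1, h2⟩ := parents_spec (k := k) (by omega)
        have hm : parent (k + 1) % 2 < 2 := Nat.mod_lt _ (by norm_num)
        rw [← h2, ← qel_mul hF hω (att_gen hF hω hm) (att_rep hF hω _ (by omega))]
        exact mul_mem (h _ hm) (ih _ h1 (by omega))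
  have hent : ∀ (c : ℕ) (T : List (List ℕ)) (i : ℕ), c < 2 → i < 23256 →
      okEntry (gens.getD c oneC) i (fieldAt T 28 i) = true → qel F ω (hEl (eH (fieldAt T 28 i))) ∈ N := by
    intro c T i hc hi he
    simp only [okEntry, Bool.and_eq_true, Nat.blt_eq, Nat.beq_eq] at he
    refine (Subgroup.mul_mem_cancel_left _ (hrep _ he.1.1)).1 ?_
    rw [qel_mul hF hω (att_rep hF hω _ he.1.1) (att_hEl hF hω _ he.1.2), ← he.2,
      ← qel_mul hF hω (att_gen hF hω hc) (att_rep hF hω _ hi)]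
    exact mul_mem (h c hc) (hrep _ hi)
  have hst : stabH F ω ≤ N.comap (QuotientGroup.mk' _) := by
    refine (Subgroup.closure_le _).2 ?_
    rintro g ⟨k, rfl⟩
    have hd := data_ok
    simp only [okData, Bool.and_eq_true, Nat.beq_eq, List.all_eq_true, List.mem_range, Nat.blt_eq] at hd
    obtain ⟨⟨⟨⟨⟨⟨-, h4⟩, h5⟩, -⟩, -⟩, -⟩, -⟩ := hd
    obtain ⟨h6, h7⟩ := h5 k k.2
    show (QuotientGroup.mk (elk F ω (hGens.getD k.val oneC)) : J3 F ω) ∈ N
    rw [← qel_def, h4 k k.2]
    generalize (hGenSrc.getD k.val (0, 0)).1 = t at h6 ⊢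
    generalize (hGenSrc.getD k.val (0, 0)).2 = i at h7 ⊢
    interval_cases t
    · exact hent 0 tblU i (by norm_num) h7 (tblU_spec h7)
    · exact hent 1 tblV i (by norm_num) h7 (tblV_spec h7)
  refine eq_top_iff.2 fun q _ => ?_
  obtain ⟨g, rfl⟩ := QuotientGroup.mk_surjective q
  obtain ⟨w, hw, rfl⟩ := word_prod hF hω g
  show (w.map (bEl F ω)).prod ∈ N.comap (QuotientGroup.mk' _)
  refine list_prod_mem fun y hy => ?_
  obtain ⟨b, hb, rfl⟩ := List.mem_map.1 hy
  obtain ⟨h1, h2, h3⟩ := base_split hF hω (hw b hb)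
  rw [bEl, h3, ← elk_mul hF hω (att_rep hF hω _ h1) (att_hEl hF hω _ h2)]
  refine mul_mem ?_ (hst (hEl_mem hF hω _ h2))
  show (QuotientGroup.mk (elk F ω (rep _)) : J3 F ω) ∈ N
  rw [← qel_def]
  exact hrep _ h1

theorem simple_J3 : IsSimpleGroup (J3 F ω) := by
  classical
  haveI : Finite (J3 F ω) := finite_J3
  haveI : Finite (threeJ3 F ω) := finite_cover
  have hcard := card_J3 hF hω
  haveI : Nontrivial (J3 F ω) := Finite.one_lt_card_iff_nontrivial.1 (by rw [hcard]; norm_num)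
  refine ⟨fun N hN => ?_⟩
  haveI := hN
  haveI : Fact (Nat.Prime 19) := ⟨by norm_num⟩
  haveI : Fact (Nat.Prime 17) := ⟨by norm_num⟩
  have h19 : 19 ∣ Nat.card (J3 F ω) ∧ ¬ 19 ^ 2 ∣ Nat.card (J3 F ω) := by rw [hcard]; norm_num
  have h17 : 17 ∣ Nat.card (J3 F ω) ∧ ¬ 17 ^ 2 ∣ Nat.card (J3 F ω) := by rw [hcard]; norm_num
  have h := elts_ok
  simp only [okElts, Bool.and_eq_true, Nat.beq_eq, Bool.not_eq_true'] at h
  obtain ⟨⟨⟨⟨⟨⟨⟨⟨⟨⟨⟨⟨hl, hlX⟩, hlY⟩, hpX⟩, hpY⟩, hX19⟩, hY17⟩, -⟩, -⟩, -⟩, -⟩, hXne⟩, hYne⟩ := h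
  by_cases hN19 : 19 ∣ Nat.card N
  · exact Or.inr (top_of_gens hF hω N (pairs_mem hF hω hlX hpX N fun w hw =>
      mem_normal_of_pow h19.1 h19.2 N hN19 hw))
  by_cases hN17 : 17 ∣ Nat.card N
  · exact Or.inr (top_of_gens hF hω N (pairs_mem hF hω hlY hpY N fun w hw =>
      mem_normal_of_pow h17.1 h17.2 N hN17 hw))
  refine Or.inl ?_
  by_contra hbot
  have hN1 : Nat.card N ≠ 1 := fun e => hbot (Subgroup.card_eq_one.1 e)
  set r := (Nat.card N).minFac with hr
  haveI : Fact r.Prime := ⟨Nat.minFac_prime hN1⟩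
  have hrN : r ∣ Nat.card N := Nat.minFac_dvd _
  have hrG : r ∣ 50232960 := hcard ▸ hrN.trans (Subgroup.card_subgroup_dvd_card N)
  have hr5 : r = 2 ∨ r = 3 ∨ r = 5 := by
    have hp := Nat.minFac_prime hN1
    rw [← hr] at hp
    have h5 : r ∣ 2 ^ 7 * (3 ^ 5 * (5 * (17 * 19))) := by norm_num; exact hrG
    rcases hp.dvd_mul.1 h5 with e | h5
    · exact Or.inl ((Nat.prime_dvd_prime_iff_eq hp Nat.prime_two).1 (hp.dvd_of_dvd_pow e))
    rcases hp.dvd_mul.1 h5 with e | h5
    · exact Or.inr (Or.inl ((Nat.prime_dvd_prime_iff_eq hp Nat.prime_three).1 (hp.dvd_of_dvd_pow e)))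
    rcases hp.dvd_mul.1 h5 with e | h5
    · exact Or.inr (Or.inr ((Nat.prime_dvd_prime_iff_eq hp Nat.prime_five).1 e))
    rcases hp.dvd_mul.1 h5 with e | e
    · exact absurd ((Nat.prime_dvd_prime_iff_eq hp (by norm_num)).1 e ▸ hrN) hN17
    · exact absurd ((Nat.prime_dvd_prime_iff_eq hp (by norm_num)).1 e ▸ hrN) hN19
  have hnum : ∀ p, p = 17 ∨ p = 19 → ∀ i j, r ^ j ∣ Nat.card (J3 F ω) → i ≤ j →
      r ^ i % p = r ^ j % p → i = j := by
    intro p hp i j hd hij e
    rw [hcard] at hd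
    have hj : j ≤ 7 := by
      by_contra hj
      have h8 := (pow_dvd_pow r (show 8 ≤ j by omega)).trans hd
      rcases hr5 with h | h | h <;> rw [h] at h8 <;> norm_num at h8
    rcases hr5 with h | h | h <;> rw [h] at hd e <;> rcases hp with rfl | rfl <;>
      interval_cases j <;> interval_cases i <;> first | rfl | omega | (norm_num at hd e)
  obtain ⟨P⟩ : Nonempty (Sylow r N) := inferInstance
  set R := (P : Subgroup N).map N.subtype with hR
  have hRp : IsPGroup r R := P.isPGroup'.map _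
  obtain ⟨y, hyR, hy1⟩ : ∃ y ∈ R, y ≠ 1 := by
    by_contra hc
    push Not at hc
    have hb : (P : Subgroup N) = ⊥ := eq_bot_iff.2 fun w hw =>
      Subgroup.mem_bot.2 (Subtype.ext (hc w ⟨w, hw, rfl⟩))
    have h1 := P.dvd_card_of_dvd_card hrN
    rw [hb, Subgroup.card_bot] at h1
    exact (Fact.out : r.Prime).one_lt.ne' (Nat.dvd_one.1 h1)
  obtain ⟨a, ha, hao⟩ := exists_normalizer_orderOf h19.1 N hN19 P
  obtain ⟨b, hb, hbo⟩ := exists_normalizer_orderOf h17.1 N hN17 P
  have hya := commute_of_normalizes (p := 19) R hRp ha (hao ▸ pow_orderOf_eq_one a) (hnum 19 (Or.inr rfl)) hyR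
  have hyb := commute_of_normalizes (p := 17) R hRp hb (hbo ▸ pow_orderOf_eq_one b) (hnum 17 (Or.inl rfl)) hyR
  have hattX : Att F ω ltX.1 := att_let hF hω hl 0
  have hattY : Att F ω ltY.1 := att_let hF hω hl 1
  have hX : qel F ω ltX.1 ^ 19 = 1 := by rw [← qel_powC hF hω hattX, hX19, qel_one hF hω]
  have hY : qel F ω ltY.1 ^ 17 = 1 := by rw [← qel_powC hF hω hattY, hY17, qel_one hF hω]
  obtain ⟨g, i, hgi⟩ := conj_pow_of_prime_card h19.1 h19.2 hao hX
  obtain ⟨k, j, hkj⟩ := conj_pow_of_prime_card h17.1 h17.2 hbo hY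
  have c1 : ∀ (t x : J3 F ω) (n : ℤ), x * y = y * x →
      (t * y * t⁻¹) * (t * x ^ n * t⁻¹) = (t * x ^ n * t⁻¹) * (t * y * t⁻¹) := fun t x n e => by
    have e2 : x ^ n * y = y * x ^ n := (Commute.zpow_left e n).eq
    calc (t * y * t⁻¹) * (t * x ^ n * t⁻¹) = t * (y * x ^ n) * t⁻¹ := by group
      _ = t * (x ^ n * y) * t⁻¹ := by rw [e2]
      _ = _ := by group
  have hc17 := c1 k b j hyb
  have hc19 := c1 k a i hya
  rw [← hkj] at hc17
  have hgi' : k * a ^ i * k⁻¹ = (k * g⁻¹) * qel F ω ltX.1 * (k * g⁻¹)⁻¹ := by rw [hgi]; group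
  rw [hgi'] at hc19
  set y' := k * y * k⁻¹ with hy'
  obtain ⟨Yl, hYl⟩ := QuotientGroup.mk_surjective y'
  obtain ⟨gl, hgl⟩ := QuotientGroup.mk_surjective (k * g⁻¹)
  have hco : ∀ p : ℕ, p = 17 ∨ p = 19 → Nat.Coprime p (Nat.card (Subgroup.center (threeJ3 F ω))) := fun p hp => by
    rw [card_center hF hω]; rcases hp with rfl | rfl <;> norm_num
  have hYe : elk F ω ltY.1 ^ 17 = 1 := mat_inj (by
    rw [map_pow, mat_elk hattY, ← toM_powC hF hω, hY17, toM_one hF hω, map_one])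
  have hXe : (gl * elk F ω ltX.1 * gl⁻¹) ^ 19 = 1 := by
    have : elk F ω ltX.1 ^ 19 = 1 := mat_inj (by
      rw [map_pow, mat_elk hattX, ← toM_powC hF hω, hX19, toM_one hF hω, map_one])
    rw [conj_pow, this, mul_one, mul_inv_cancel]
  have hcen := central_of_commute hF hω (y := Yl) (g := gl)
    (lift_commute (hco 17 (Or.inl rfl)) hYe (by rw [hYl, ← qel_def]; exact hc17))
    (lift_commute (hco 19 (Or.inr rfl)) hXe (by
      rw [QuotientGroup.mk_mul, QuotientGroup.mk_mul, QuotientGroup.mk_inv, hYl, hgl, ← qel_def]; exact hc19))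
  have h1 : y' = 1 := by rw [← hYl]; exact (QuotientGroup.eq_one_iff _).2 hcen
  exact hy1 (conj_eq_one_iff.1 h1)

end CfsgLib.J3Mult
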